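import Cfsg.Agent.TwoF.XS.S62.Main_mg_m3
import Cfsg.Agent.TwoF.DC.Close
import Cfsg.Agent.TwoF.DC.Pow.Main_m3
import Cfsg.Agent.TwoF.DC.TE.Tw_m3
import Cfsg.Agent.TwoF.DC.D1.Main_m3
import Cfsg.Agent.TwoF.DC.TC.Num
import Cfsg.Agent.TwoF.DC.TBD.BMain_m3
import Cfsg.Agent.OddHalf.D9.EEight.Id.InnerCore_m3
import Cfsg.Agent.S0245
import Cfsg.Agent.H183.OutSp4
import Cfsg.Agent.TwoF.SpC.HSDat
import Cfsg.Agent.TwoF.XS.P2.Gen_m3
import Cfsg.Agent.H55.OutGen
import Cfsg.Agent.TwoF.XE.LB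
import Cfsg.Agent.H134.Syl.F4TwoMain_m3
import Cfsg.Agent.TwoF.XE.Wt_m3
import Cfsg.Agent.S2046
import Cfsg.Agent.S2072
import Cfsg.Agent.FastGrp
import Cfsg.Agent.Prune
set_option linter.all false

section
prune_inst 0x7ffceff82fb82ddeffff7e7faed0dffc19905fffa6dff943ffe063ff0bdf030009c56b8d0de010fe0ed6603410387803fb7eceffe26bdc7ffffd5ff41ffbee1fe5feb108519488340ffc0ffe93e0778e7f3fffffffffffffffffffffffffffbeffbfffffffff

-- part: TwoF/DC/TC/Final_mg
section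
prune_inst 0x40001000000000000000000000000000000000000000000000000000000000000000000000000000000000000000020000000000000000000000000000000000000000000000000000000080000000000000000000000000000000000000000000000
set_option linter.all false
open scoped Cfsg.Agent.FastGrp

-- part: TwoF/DC/TC/Two
section
/-!
# TwoF, defining characteristic: two data on one group (helper34)

`start`, `finish`, `row_of_key` : the parts of `boxRel_of`; `row_two` : the row of a group with a special isogeny.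
-/

set_option autoImplicit false
set_option linter.unusedSectionVars false

namespace Cfsg.Agent.TwoF.DC.TC

open Module Finset Cfsg.Agent.H45.Uni Cfsg.Agent.H45.UniE Cfsg.Agent.TwoF.Gen

variable {p : ℕ} [hp : Fact p.Prime] {ι Φ k G : Type} [Fintype ι] [DecidableEq ι] [Fintype Φ] [DecidableEq Φ] [Field k]
  [IsAlgClosed k] [CharP k p] [Algebra (ZMod p) k] [Group G] {D D' : RDat p ι Φ k G} {T T' S S' : Type} [Group T]
  [Finite T] [Group T'] [Finite T'] [Group S] [Group S'] {Y V : Type} [Group Y] [Finite Y] [AddCommGroup V]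
  [Module (ZMod p) V] [Finite V] {K : Subgroup Y} {ρ : Representation (ZMod p) Y V}

/-- the conclusion for one module -/
def Key (p : ℕ) [Fact p.Prime] {Y V : Type} [Group Y] [AddCommGroup V] [Module (ZMod p) V] (K : Subgroup Y)
    (ρ : Representation (ZMod p) Y V) : Prop :=
  (∃ B ≤ K, Off p ρ B ∧ Cub ρ B) ∨ ¬ Irr ρ K ∧ ∃ B, Off p ρ B ∧ Cub ρ B

theorem row_of_key (H : ∀ (Y : Type) [Group Y] [Finite Y] (V : Type) [AddCommGroup V] [Module (ZMod p) V] [Finite V]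
    (K : Subgroup Y) (ρ : Representation (ZMod p) Y V), Stp p K ρ → Nonempty (K ⧸ Subgroup.center K ≃* S) →
    ∀ A, Off p ρ A → Key p K ρ) : Row p S :=
  ⟨fun Y _ _ V _ _ _ K ρ hs he A hA => (H Y V K ρ hs he A hA).elim (fun ⟨B, _, h⟩ => ⟨B, h⟩) fun h => h.2,
    fun Y _ _ V _ _ _ K ρ hs he A hA hirr _ _ _ =>
      (H Y V K ρ hs he A hA).elim (fun ⟨B, h, h', _⟩ => ⟨B, h, h'⟩) fun h => (h.1 hirr).elim⟩

/-- a reduced situation -/
structure Red (M : Std D T S) (K : Subgroup Y) (ρ : Representation (ZMod p) Y V) (ψ : T →* Y) (A : Subgroup Y) :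
    Prop where
  range : ψ.range = K
  acts : ∀ y, ∃ s h γ j, M.Acts ψ y s h γ j
  off : Off p (_root_.Cfsg.Agent.TwoF.Gen.bc k ρ) A
  min : ∀ B < A, B ≠ ⊥ → Nat.card B ^ 2 < p ^ cod (_root_.Cfsg.Agent.TwoF.Gen.bc k ρ) B
  red : ∀ a ∈ A, ∃ γ j, M.Ac ψ a γ j

theorem start [Nonempty Φ] (M : Std D T S) (hM : M.AutFact) (hF : D.Fa) (hs : Stp p K ρ)
    (he : Nonempty (K ⧸ Subgroup.center K ≃* S)) {A : Subgroup Y} (hA : Off p ρ A) : ∃ ψ A, Red M K ρ ψ A := by
  obtain ⟨π, φ, F⟩ := hs.exists_frm he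
  obtain ⟨ψ0, hψ0, hπ⟩ := M.cover K hs.qs hs.cop
    ((QuotientGroup.quotientMulEquivOfEq F.ker_π.symm).trans (QuotientGroup.quotientKerEquivOfSurjective π F.surj))
  replace hπ : ∀ s, π (ψ0 s) = M.π s := hπ
  have := hs.normal
  have h2 : ∀ y, ∃ s h γ j, M.Acts (K.subtype.comp ψ0) y s h γ j := fun y => by
    obtain ⟨s, h, γ, j, hh, hγ, H⟩ := hM (φ y)
    obtain ⟨β, hβ⟩ := M.exists_aut ((MulAut.conj h).toMonoidHom.comp (M.tw γ j))
      (fun t ht => M.tw_inj γ j ((map_eq_one_iff _ (MulAut.conj h).injective).1 ht))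
      fun t => (H t).imp fun t' ht' => by rw [ht'.1, ← M.tw_apply]; rfl
    have h3 : (MulAut.conjNormal y).toMonoidHom.comp ψ0 = ψ0.comp (MulAut.conj s * β).toMonoidHom := by
      refine hom_eq_of_center M.perfect fun t => ?_
      obtain ⟨t', h3, h4⟩ := H t
      rw [← F.ker_π, MonoidHom.mem_ker, map_mul, map_inv, inv_mul_eq_one]
      show π (MulAut.conjNormal y (ψ0 t)) = π (ψ0 (s * β t * s⁻¹))
      rw [← F.conj y (ψ0 t) _ rfl, hπ, hπ, h4, M.φ_inj (h3.trans (by rw [← M.tw_apply]; exact (hβ t).symm))]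
    refine ⟨s, h, γ, j, Std.acts_of (β := fun t => s * β t * s⁻¹)
      (fun t => congrArg Subtype.val (DFunLike.congr_fun h3 t)) hh hγ fun t => ?_⟩
    rw [map_mul, map_mul, map_inv, hβ]
    rfl
  obtain ⟨A, -, hA, hmin⟩ := exists_min_off ((off_bc k A).2 hA)
  obtain ⟨α, h3, h4⟩ := Std.exists_red (boxDeg1 p ι Φ k G D) hF h2 (elemAb_isPGroup hA.1)
  refine ⟨_, A, ?_, h3, hA, hmin, fun a ha => (h4 a ha).elim fun u h => h.2.imp fun γ h' => h'.imp fun j H => ⟨u, h.1, H⟩⟩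
  have h5 : Function.Surjective (ψ0.comp α.toMonoidHom) := hψ0.comp α.surjective
  rw [MonoidHom.comp_assoc, MonoidHom.range_comp, MonoidHom.range_eq_top.2 h5,
    ← MonoidHom.range_eq_map, Subgroup.range_subtype]

theorem cty_of (M : Std D T S) {C : Can D} (hC : C.Fa) (hs : Stp p K ρ) {ψ : T →* Y} (h : ψ.range = K) :
    Cty M C (_root_.Cfsg.Agent.TwoF.Gen.bc k ρ) ψ (Irr ρ K) :=
  have := hs.nontrivial
  { cfa := hC
    deg1 := boxDeg1 p ι Φ k G D
    deg2 := boxDeg2 p ι Φ k G D hC.fa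
    pow := Pw.boxPow p ι Φ k G D T S M C
    st := boxSt p ι Φ k G D T S M C hC (Pw.boxPow p ι Φ k G D T S M C) Y V K ρ hs _ h
    fd := inferInstance
    nt := Module.nontrivial_of_finrank_pos (R := k) (by rw [Module.finrank_baseChange]; exact finrank_pos) }

theorem finish {M : Std D T S} {ok : (ι → ℕ) → Prop} (hM : M.Full ok) (hs : Stp p K ρ) {ψ : T →* Y} {A : Subgroup Y}
    (R : Red M K ρ ψ A) (hok : ∀ n ∈ M.N (_root_.Cfsg.Agent.TwoF.Gen.bc k ρ) ψ, ∀ a, n a ≠ 0 → ok (n a)) : Key p K ρ := by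
  obtain ⟨C⟩ := boxHW p ι Φ k G D
  have X := (cty_of M (C.fa_of_full hM) hs R.range).ctx hM hok (bc_injective k hs.faithful) R.acts fun y hy => by
    rw [R.range]
    refine hs.cent fun x hx => ?_
    obtain ⟨s, rfl⟩ := R.range.ge hx
    rw [← mul_inv_eq_iff_eq_mul.1 (hy s)]
  rcases X.main R.off R.min R.red with ⟨B, h8, h9, h10⟩ | ⟨h8, h9⟩
  · exact Or.inl ⟨B, R.range ▸ h8, (off_bc k B).1 h9, (cub_bc k B).1 h10⟩
  · exact Or.inr ⟨h8, A, (off_bc k A).1 R.off, (cub_bc k A).1 h9⟩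

omit [Algebra (ZMod p) k] in
theorem dim_le (hs : Stp p K ρ) (he : Nonempty (K ⧸ Subgroup.center K ≃* S)) {A : Subgroup Y} (hA : Off p ρ A) {o : ℕ}
    (ho : Nat.card (MulAut S) ≤ o * Nat.card S) {ψ : T →* Y} (h : ψ.range = K) :
    p ^ finrank (ZMod p) V ≤ (o * Nat.card T) ^ 2 := by
  obtain ⟨π, φ, F⟩ := hs.exists_frm he
  have : Finite S := Finite.of_surjective π F.surj
  refine (hs.big hA).trans (Nat.pow_le_pow_left ((Subgroup.card_le_card_group _).trans ?_) 2)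
  rw [← φ.ker.card_mul_index, Subgroup.index_ker, F.ker_φ, hs.card_centralizer]
  refine (Nat.mul_le_mul_left _ ((Subgroup.card_le_card_group _).trans ho)).trans ?_
  rw [mul_left_comm, ← F.card_K, ← h]
  exact Nat.mul_le_mul_left _ (Nat.card_le_card_of_surjective _ ψ.rangeRestrict_surjective)

/-! ### transfer -/

/-- two data on the same group -/
structure Two (M : Std D T S) (M' : Std D' T' S') (e : T' ≃* T) (w : ι → ℕ) : Prop where
  φ : ∀ s, M'.φ s = M.φ (e s)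
  Fr : M'.Fr = M.Fr
  gr : ∀ γ : M.Gr, γ = 1
  U : D.U ≤ D'.U
  hh : {g | ∃ i c, g = D'.hh i c} = {g | ∃ i c, g = D.hh i c}
  pos : ∀ i, 0 < w i
  cc : ∀ l g, D'.toFDat.cc l g = D.toFDat.cc (fun i => w i * l i) g

theorem exists_exp {q : ℕ} (hq : 1 < q) (n : ℕ) : ∃ l < q, (l = 0 → n = 0) ∧ ∀ x : k, x ^ q = x → x ^ l = x ^ n := by
  induction n using Nat.strong_induction_on with
  | _ n ih =>
    by_cases h : n < q
    · exact ⟨n, h, id, fun _ _ => rfl⟩
    · obtain ⟨l, h1, h2, h3⟩ := ih (n - q + 1) (by omega)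
      refine ⟨l, h1, fun h0 => by have := h2 h0; omega, fun x hx => ?_⟩
      rw [h3 x hx, pow_succ, ← congrArg (x ^ (n - q) * ·) hx, ← pow_add, Nat.sub_add_cancel (not_lt.1 h)]

namespace Two

variable {M : Std D T S} {M' : Std D' T' S'} {e : T' ≃* T} {w : ι → ℕ} (H : Two M M' e w)
include H

theorem acts {ψ : T →* Y} {y : Y} {s : T} {h : G} {γ : M.Gr} {j : ℕ} (h1 : M.Acts ψ y s h γ j) :
    M'.Acts (ψ.comp e.toMonoidHom) y (e.symm s) h 1 j := by
  refine ⟨H.hh ▸ h1.1, Commute.one_left _, fun s₁ => ?_⟩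
  obtain ⟨s₂, h2, h3⟩ := h1.2.2 (e s₁)
  refine ⟨e.symm s₂, by rw [H.φ, H.φ, H.Fr, e.apply_symm_apply, h2, H.gr γ, M.gr_one, M'.gr_one], h3.trans ?_⟩
  simp only [_root_.map_mul, _root_.map_inv, _root_.MulEquiv.toMonoidHom_eq_coe, _root_.MonoidHom.coe_comp, _root_.MonoidHom.coe_coe, _root_.Function.comp_apply, _root_.MulEquiv.apply_symm_apply]

theorem red (hF : D'.Fa) {ψ : T →* Y} {A : Subgroup Y} (R : Red M K ρ ψ A) : Red M' K ρ (ψ.comp e.toMonoidHom) A where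
  range := by
    rw [MonoidHom.range_comp, MonoidHom.range_eq_top.2 e.surjective, ← MonoidHom.range_eq_map, R.range]
  acts y := by
    obtain ⟨s, h, γ, j, h1⟩ := R.acts y
    exact ⟨_, _, _, _, H.acts h1⟩
  off := R.off
  min := R.min
  red a ha := by
    obtain ⟨γ, j, u, hu, h1⟩ := R.red a ha
    exact ⟨1, j, e.symm u, M'.mem_U_of (boxDeg1 p ι Φ k G D') hF
      (by rw [H.φ, e.apply_symm_apply]; exact H.U (M.φ_U hu)), H.acts h1⟩

theorem pat {C : Can D} {C' : Can D'} (hC : C.Fa) (hC' : C'.Fa) {U : Type} [AddCommGroup U] [Module k U]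
    {σ : Representation k Y U} {ψ : T →* Y} {n' : Fin M'.f → ι → ℕ} (hn' : n' ∈ M'.N σ (ψ.comp e.toMonoidHom)) :
    ∃ n ∈ M.N σ ψ, ∀ i, (∀ a, n a i = 0) → ∀ a, n' a i = 0 := by
  have hq : 1 < p ^ M.f := Nat.one_lt_pow M.f_pos.ne' hp.out.one_lt
  choose l h1 h2 h3 using fun i => exists_exp (k := k) hq (w i * M'.lw n' i)
  have h4 : (fun a : Fin M.f => dig p l a) ∈ M.pats := M.mem_pats.2 fun a i => Nat.mod_lt _ hp.out.pos
  have h5 := trf_of (e := e) hC' (Pw.boxPow p ι Φ k G D' T' S' M' C') hC (Pw.boxPow p ι Φ k G D T S M C)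
    ((M'.mem_N _ _).1 hn').1 h4 fun s => by
      rw [M.cP_ΦT, M'.cP_ΦT, M.lw_dig h1, H.cc, H.φ]
      refine prod_congr rfl fun i _ => h3 i _ ?_
      rw [← M.Δ_iter, ← M.gr_one (M.Fr^[M.f] _), ← H.gr M.σ, M.φ_fix]
  refine ⟨_, (M.mem_N _ _).2 ⟨h4, h5.mult (σ.comp ψ) ▸ ((M'.mem_N _ _).1 hn').2⟩, fun i hi a => ?_⟩
  have h6 : l i = 0 := by
    rw [← M.lw_dig h1]
    exact sum_eq_zero fun a _ => mul_eq_zero_of_left (hi a) _
  have h7 := (mul_eq_zero.1 (h2 i h6)).resolve_left (H.pos i).ne'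
  exact (mul_eq_zero.1 (sum_eq_zero_iff.1 h7 a (mem_univ a))).resolve_right (pow_pos hp.out.pos _).ne'

end Two

/-! ### mixed patterns -/

theorem card_mul_le {α : Type} [Fintype α] [DecidableEq α] (d : α → ℕ) (L : Finset α) {a0 : α} {x y : ℕ} (hy : 2 ≤ y)
    (h1 : ∀ a, 1 ≤ d a) (h2 : ∀ a ∈ L, y ≤ d a) (h3 : x ≤ d a0) (h4 : a0 ∈ L → x * y ≤ d a0) :
    L.card * (x * y) ≤ ∏ a, d a := by
  have h5 : y ^ (L.erase a0).card ≤ ∏ a ∈ univ.erase a0, d a :=
    (pow_card_le_prod _ _ _ fun a ha => h2 a (mem_of_mem_erase ha)).trans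
      (prod_le_prod_of_subset_of_one_le' (erase_subset_erase _ (subset_univ _)) fun a _ _ => h1 a)
  have h6 : ∀ n : ℕ, n + 1 ≤ y ^ n := fun n => Nat.lt_two_pow_self.trans_le (Nat.pow_le_pow_left hy n)
  rw [← mul_prod_erase _ _ (mem_univ a0), mul_comm]
  by_cases h : a0 ∈ L
  · rw [← card_erase_add_one h]
    exact Nat.mul_le_mul (h4 h) ((h6 _).trans h5)
  · rw [erase_eq_of_notMem h] at h5
    rcases Nat.eq_zero_or_pos L.card with h7 | h7
    · rw [h7]; exact Nat.zero_le _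
    · obtain ⟨n, hn⟩ := Nat.exists_eq_add_of_le' h7
      rw [hn] at h5 ⊢
      rw [mul_assoc]
      exact Nat.mul_le_mul h3 (le_trans (by rw [pow_succ']; exact Nat.mul_le_mul_left _ (h6 n)) h5)

theorem mixed {M : Std D T S} {C : Can D} {U : Type} [AddCommGroup U] [Module k U] {σ : Representation k Y U}
    {ψ : T →* Y} {irrK : Prop} (X : Cty M C σ ψ irrK) (hg : ∀ γ : M.Gr, γ = 1)
    (hacts : ∀ y, ∃ s h γ j, M.Acts ψ y s h γ j) {P Q : (ι → ℕ) → Prop} {x y : ℕ} (hy : 2 ≤ y)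
    (h1 : ∀ ν : ι → ℕ, (∀ i, ν i < p) → 1 ≤ dd D ν ∧ (P ν → y ≤ dd D ν) ∧ (Q ν → x ≤ dd D ν) ∧
      (P ν → Q ν → x * y ≤ dd D ν)) {n n' : Fin M.f → ι → ℕ} (hn : n ∈ M.N σ ψ) (hn' : n' ∈ M.N σ ψ) {a a' : Fin M.f}
    (ha : P (n a)) (ha' : Q (n' a')) : M.f * (x * y) ≤ finrank k U := by
  classical
  have h2 : ∀ (j : ℕ) (n : Fin M.f → ι → ℕ) a, M.act 1 j n a = n (M.rot j a) := fun j n a => by
    rw [M.act_apply', hg (_ * _), M.comp_gι_one, M.rot_apply]
  have h3 : ∀ n'' ∈ M.N σ ψ, (univ.filter fun b => P (n'' b)).card * (x * y) ≤ M.mult (σ.comp ψ) n'' * M.Dn n'' := by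
    intro n'' hn''
    obtain ⟨γ, j, -, e⟩ := X.st.trans hacts n' (Cty.pats hn') n'' (Cty.pats hn'') ((M.mem_N _ _).1 hn').2
      ((M.mem_N _ _).1 hn'').2
    have h4 : Q (n'' ((M.rot j).symm a')) := by rw [e, hg γ, h2, Equiv.apply_symm_apply]; exact ha'
    refine le_trans ?_ (Nat.le_mul_of_pos_left _ (Cty.one_le_mult hn''))
    exact card_mul_le (fun b => dd D (n'' b)) _ hy (fun b => (h1 _ (Cty.res hn'' b)).1)
      (fun b hb => (h1 _ (Cty.res hn'' b)).2.1 (mem_filter.1 hb).2) ((h1 _ (Cty.res hn'' _)).2.2.1 h4)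
      fun hb => (h1 _ (Cty.res hn'' _)).2.2.2 (mem_filter.1 hb).2 h4
  rw [X.finrank_U']
  refine le_trans ?_ (sum_le_sum h3)
  rw [← sum_mul]
  refine Nat.mul_le_mul_right _ (le_trans ?_ (card_biUnion_le
    (t := fun n'' : Fin M.f → ι → ℕ => univ.filter fun b => P (n'' b))))
  refine (card_fin M.f).ge.trans (card_le_card fun b _ =>
    mem_biUnion.2 ⟨M.act 1 (M.f - b + a) n, X.sh.act _ hn, mem_filter.2 ⟨mem_univ _, ?_⟩⟩)
  have h4 : (b : ℕ) + (M.f - b + a) = a + M.f * 1 := by have := b.2; omega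
  rwa [h2, M.rot_apply, h4, M.pos_add_mul, M.pos_val]

/-- **the row of a group with two data**; `P i` : the node `i` is of the first kind -/
theorem row_two [Nonempty Φ] {M : Std D T S} {M' : Std D' T' S'} {e : T' ≃* T} {w : ι → ℕ} (H : Two M M' e w)
    {ok : (ι → ℕ) → Prop} {P : ι → Prop} (hM : M.Full ok) (hM' : M'.Full fun l => ∀ i, P i → l i = 0) {x y o : ℕ}
    (hy : 2 ≤ y) (h1 : ∀ ν : ι → ℕ, (∀ i, ν i < p) → 1 ≤ dd D ν ∧ (ν ≠ 0 ∧ ¬ ok ν → y ≤ dd D ν) ∧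
      ((¬ ∀ i, P i → ν i = 0) → x ≤ dd D ν) ∧ (ν ≠ 0 ∧ ¬ ok ν → (¬ ∀ i, P i → ν i = 0) → x * y ≤ dd D ν))
    (ho : Nat.card (MulAut S) ≤ o * Nat.card S) (hlt : (o * Nat.card T) ^ 2 < p ^ (M.f * (x * y))) : Row p S := by
  refine row_of_key fun Y _ _ V _ _ _ K ρ hs he A hA => ?_
  obtain ⟨C⟩ := boxHW p ι Φ k G D
  obtain ⟨C'⟩ := boxHW p ι Φ k G D'
  obtain ⟨ψ, A', R⟩ := start M hM.aut (C.fa_of_full hM).fa hs he hA
  by_cases h2 : ∀ n ∈ M.N (_root_.Cfsg.Agent.TwoF.Gen.bc k ρ) ψ, ∀ a, n a ≠ 0 → ok (n a)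
  · exact finish hM hs R h2
  by_cases h3 : ∀ n ∈ M.N (_root_.Cfsg.Agent.TwoF.Gen.bc k ρ) ψ, ∀ a i, P i → n a i = 0
  · refine finish hM' hs (H.red (C'.fa_of_full hM').fa R) fun n' hn' a _ i hi => ?_
    obtain ⟨n, hn, h4⟩ := H.pat (C.fa_of_full hM) (C'.fa_of_full hM') hn'
    exact h4 i (fun a => h3 n hn a i hi) a
  simp only [not_forall] at h2
  obtain ⟨n, hn, a, h4, h5⟩ := h2
  obtain ⟨n', h3⟩ := not_forall.1 h3
  obtain ⟨hn', h3⟩ := Classical.not_imp.1 h3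
  obtain ⟨a', h3⟩ := not_forall.1 h3
  have h6 := mixed (cty_of M (C.fa_of_full hM) hs R.range) H.gr R.acts hy h1 hn hn' ⟨h4, h5⟩ h3
  rw [Module.finrank_baseChange] at h6
  exact (((dim_le hs he hA ho R.range).trans_lt hlt).not_ge (Nat.pow_le_pow_right hp.out.pos h6)).elim

end Cfsg.Agent.TwoF.DC.TC
end

-- part: TwoF/DC/TC/Dual
section
/-!
# TwoF, defining characteristic, type C (9): the datum `DB` of type `B_m` on `Sp_(2m)(k)`, characteristic two (helper34)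
-/

set_option autoImplicit false
set_option linter.unusedSectionVars false

namespace Cfsg.Agent.TwoF.DC.TC

open Finset Matrix Sum Cfsg.Agent.H45.Uni Cfsg.Agent.H45.UniS Cfsg.Agent.H421.UniS

variable {m : ℕ} {k : Type} [Field k] [IsAlgClosed k] [CharP k 2]

/-- `2` for short roots, `1` for long roots -/
def ee (b : PR m) : ℕ := if Sh b then 2 else 1

variable (k) in
/-- the square root for short roots -/
noncomputable def sr (b : PR m) : k →+* k := if Sh b then ((frobeniusEquiv k 2).symm : k →+* k) else RingHom.id k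

theorem sr_pow (b : PR m) (u : k) : sr k b u ^ ee b = u := by
  unfold sr ee
  split_ifs
  · exact frobeniusEquiv_symm_pow_p k 2 u
  · exact pow_one u

theorem sr_pow' (b : PR m) (u : k) : sr k b (u ^ ee b) = u := by
  unfold sr ee
  split_ifs
  · exact frobeniusEquiv_symm_apply_frobenius k 2 u
  · exact pow_one u

theorem sr_lg {b : PR m} (h : ¬ Sh b) (u : k) : sr k b u = u := by rw [sr, if_neg h]; rfl
theorem sr_sh {a b : PR m} (h : Sh a ↔ Sh b) : sr k a = sr k b := by simp only [sr, h]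
theorem sr_sq {b : PR m} (h : Sh b) (u : k) : sr k b u ^ 2 = u := by have := sr_pow b u; rwa [ee, if_pos h] at this
theorem sr_sq' {b : PR m} (h : Sh b) (u : k) : sr k b (u ^ 2) = u := by have := sr_pow' b u; rwa [ee, if_pos h] at this
theorem ee_pos (b : PR m) : 0 < ee b := by unfold ee; split_ifs <;> omega
theorem ee_le (b : PR m) : ee b ≤ 2 := by unfold ee; split_ifs <;> omega

theorem ee_rv (b : PR m) : (ee b : ℤ) • rv b = (2 : ℤ) • cv b := by
  unfold ee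
  split_ifs with h
  · rw [cv_sh h]; rfl
  · rw [rv_lg h]; exact one_smul _ _

theorem cv_sq (b : PR m) : cv b ⬝ᵥ cv b = ee b := by
  have h1 : cv b ⬝ᵥ rv b = 2 := (eC m).two b
  unfold ee
  split_ifs with h
  · rwa [← cv_sh h] at h1
  · rw [rv_lg h, dotProduct_smul, smul_eq_mul] at h1; omega

theorem isRt_B_le {c : Fin m → ℤ} (h : (eC m).dual.rc.IsRt c) : (eC m).dual.E c ⬝ᵥ (eC m).dual.E c ≤ 2 := by
  obtain ⟨⟨_ | _, b⟩, h1⟩ := ((eC m).dual.isRt_iff c).1 h <;> rw [← h1]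
  · show (-cv b) ⬝ᵥ (-cv b) ≤ 2
    rw [neg_dotProduct_neg, cv_sq]; exact_mod_cast ee_le b
  · show cv b ⬝ᵥ cv b ≤ 2
    rw [cv_sq]; exact_mod_cast ee_le b

/-- the root elements of the dual datum -/
noncomputable def ZB (b : PR m) (t : k) : SG m k := Z b (sr k b t)

theorem ZB_add (b : PR m) (s t : k) : ZB b (s + t) = ZB b s * ZB b t := by rw [ZB, map_add, Z_add]; rfl

theorem Z_zero (b : PR m) : Z b (0 : k) = 1 := by
  have := Z_add b (0 : k) 0
  rw [add_zero] at this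
  exact mul_eq_left.1 this.symm

theorem cmB : CmD (eC m).dual.rc 2 (ZB (m := m) (k := k)) := by
  intro β b
  have c1 : ∀ {a : PR m} (i j : ℕ), cv a = (i : ℤ) • cv β + (j : ℤ) • cv b →
      (eC m).dual.rc.cf a = i • (eC m).dual.rc.cf β + j • (eC m).dual.rc.cf b := fun _ _ h =>
    (eC m).dual.cf_add_iff.2 h
  have c2 : ∀ {a : PR m}, (eC m).dual.rc.cf a = (eC m).dual.rc.cf β + (eC m).dual.rc.cf b → cv a = cv β + cv b :=
    fun h => (eC m).dual.cf_add_iff'.1 h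
  have c3 : ∀ {ε : k}, ε * ε = 1 → ε = 1 := fun h => by
    rcases mul_self_eq_one_iff.1 h with h | h
    · exact h
    · rw [h, CharTwo.neg_eq]
  have c4 : ∀ {x y : Fin m → ℤ}, (2 : ℤ) • x = (2 : ℤ) • y → x = y := fun h => smul_right_injective _ two_ne_zero h
  rcases tri (k := k) β b with ⟨h1, h2, -⟩ | ⟨a, ε, e, s1, s2, s3, h1, h2⟩ | ⟨a, ε, e, s1, s2, s3, h1, -, -, h2⟩ |
    ⟨a, a', ε, e, s1, s2, s3, s4, h1, h3, h2⟩ | ⟨a, a', ε, e, s1, s2, s3, s4, h1, h3, h2⟩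
  · refine ⟨[], by simp only [_root_.List.not_mem_nil, _root_.nsmul_eq_mul, _root_.IsEmpty.forall_iff, _root_.implies_true], fun s t => by simpa only [ZB, _root_.map_mul, _root_.map_pow, _root_.List.map_nil, _root_.List.prod_nil, _root_.one_mul] using h1 _ _, fun a ha hn => ?_⟩
    exfalso
    obtain ⟨-, r, r1, r2, r3⟩ := hn
    have k1 : ∀ n : ℤ, (eC m).dual.E ((eC m).dual.rc.vec (true, b) - n • (eC m).dual.rc.vec (true, β)) =
        cv b - n • cv β := fun n => by rw [Euc.E_sub, Euc.E_smul, Euc.E_vec, Euc.E_vec]; rfl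
    have k2 := cv_sq a
    have k3 := cv_sq β
    have k4 := cv_sq b
    have k5 : 0 ≤ cv β ⬝ᵥ cv b := by
      have k6 : ((ee β : ℤ) • rv β) ⬝ᵥ ((ee b : ℤ) • rv b) = ((2 : ℤ) • cv β) ⬝ᵥ ((2 : ℤ) • cv b) := by
        rw [ee_rv, ee_rv]
      simp only [dotProduct_smul, smul_dotProduct, smul_eq_mul] at k6
      have := mul_nonneg (Int.natCast_nonneg (ee b)) (mul_nonneg (Int.natCast_nonneg (ee β)) h2)
      omega
    rw [c2 ha, add_dotProduct, dotProduct_add, dotProduct_add, dotProduct_comm (cv b) (cv β)] at k2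
    have := ee_le a
    have := ee_pos β
    have := ee_pos b
    have s1 : β.1.1 = β.1.2 := not_not.1 fun h : Sh β => by rw [ee, if_pos h] at k3; omega
    have s2 : b.1.1 = b.1.2 := not_not.1 fun h : Sh b => by rw [ee, if_pos h] at k4; omega
    obtain rfl | rfl | h5 : r = 0 ∨ r = 1 ∨ 2 ≤ r := by (clear * -; omega)
    · have k6 : xv (wv b.1.1) β.1.1 = 0 := by
        have k7 : cv β ⬝ᵥ cv b = 0 := by omega
        rwa [cv, cv, if_pos s1, if_pos s2, wv_dot] at k7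
      refine r2 ((isRt_B _).2 (Or.inr ⟨b.1.1, β.1.1.swap, fun e => ?_, fun e => ?_, ?_⟩))
      · rw [swap_inj.1 e, xv_wv_self] at k6; omega
      · rw [e, xv_wv_swap] at k6; omega
      · rw [k1, cv, cv, if_pos s1, if_pos s2, wv_swap]; simp [sub_eq_add_neg]
    · exact r3 dvd_rfl
    · have k6 := isRt_B_le (r1 2 h5)
      rw [k1] at k6
      simp only [sub_dotProduct, dotProduct_sub, dotProduct_smul, smul_dotProduct, smul_eq_mul,
        dotProduct_comm (cv b) (cv β)] at k6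
      omega
  · have h4 : cv a = cv β + cv b := by rw [cv_sh s1, cv_sh s2, cv_sh s3, h1]
    refine ⟨[(a, 1, 1, 1)], by simpa only [_root_.List.mem_cons, _root_.List.not_mem_nil, _root_.or_false, _root_.nsmul_eq_mul, _root_.forall_eq, _root_.Order.lt_one_iff, _root_.Nat.cast_one, _root_.one_mul, _root_.true_and, _root_.one_smul] using c1 1 1 (by simpa using h4), fun s t => ?_, fun a0 ha _ => ?_⟩
    · simp [ZB, h2, c3 e, sr_sh (iff_of_true s1 s3), sr_sh (iff_of_true s2 s3)]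
    · rw [cv_inj ((c2 ha).trans h4.symm)]
      exact ⟨1, one_ne_zero, by simp⟩
  · refine ⟨[], by simp only [_root_.List.not_mem_nil, _root_.nsmul_eq_mul, _root_.IsEmpty.forall_iff, _root_.implies_true], fun s t => by simp [ZB, h2, CharTwo.two_eq_zero, Z_zero], fun a0 ha _ => ?_⟩
    have k2 := cv_sq a0
    have k3 := cv_sq a
    have := ee_le a0
    have := ee_pos a
    rw [c2 ha, cv_sh s1, cv_sh s2, ← h1, rv_lg s3, dotProduct_smul, smul_dotProduct, smul_eq_mul, smul_eq_mul] at k2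
    omega
  · have h4 : cv a' = cv β + cv b := c4 (by rw [← rv_lg s4, h3, smul_add, cv_sh s1, rv_lg s2])
    have h5 : a ≠ a' := fun e => s4 (e ▸ s3)
    refine ⟨[(a, 1, 1, 2), (a', 1, 1, 1)], ?_, fun s t => ?_, fun a0 ha _ => ?_⟩
    · simpa only [_root_.List.mem_cons, _root_.List.not_mem_nil, _root_.or_false, _root_.nsmul_eq_mul, _root_.forall_eq_or_imp, _root_.Order.lt_one_iff, _root_.Order.lt_two_iff, _root_.zero_le, _root_.Nat.cast_one, _root_.one_mul, _root_.Nat.cast_ofNat, _root_.true_and, _root_.forall_eq] using ⟨by simpa using c1 1 2 (by simpa [cv_sh s1, cv_sh s3, rv_lg s2] using h1),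
        by simpa using c1 1 1 (by simpa using h4)⟩
    · simp [ZB, h2, c3 e, sr_sh (iff_of_true s1 s3), sr_lg s2, sr_lg s4, sr_sq s3, sr_sq' s3, mul_assoc, -map_pow]
    · rw [cv_inj ((c2 ha).trans h4.symm)]
      exact ⟨1, one_ne_zero, by simp [h5]⟩
  · have h4 : cv a' = cv β + cv b := c4 (by rw [← rv_lg s4, h3, smul_add, cv_sh s2, rv_lg s1])
    have h5 : a ≠ a' := fun e => s4 (e ▸ s3)
    refine ⟨[(a, 1, 2, 1), (a', -1, 1, 1)], ?_, fun s t => ?_, fun a0 ha _ => ?_⟩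
    · simpa only [_root_.List.mem_cons, _root_.List.not_mem_nil, _root_.or_false, _root_.nsmul_eq_mul, _root_.forall_eq_or_imp, _root_.Order.lt_two_iff, _root_.zero_le, _root_.Order.lt_one_iff, _root_.Nat.cast_ofNat, _root_.Nat.cast_one, _root_.one_mul, _root_.true_and, _root_.forall_eq] using ⟨by simpa using c1 2 1 (by simpa [cv_sh s2, cv_sh s3, rv_lg s1] using h1),
        by simpa using c1 1 1 (by simpa using h4)⟩
    · simp [ZB, h2, c3 e, sr_sh (iff_of_true s2 s3), sr_lg s1, sr_lg s4, sr_sq s3, sr_sq' s3, mul_assoc, -map_pow]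
    · rw [cv_inj ((c2 ha).trans h4.symm)]
      exact ⟨-1, by simp, by simp [h5]⟩

theorem ch_smul (n : ℕ) (x : Fin m → ℤ) (t : Fin m → kˣ) : ch ((n : ℤ) • x) t = ch x t ^ n := by
  simp only [ch, Pi.smul_apply, smul_eq_mul, mul_comm (n : ℤ), _root_.zpow_mul, _root_.zpow_natCast, prod_pow]

theorem ts_ZB (t : Fin m → kˣ) (b : PR m) (s : k) : ts t * ZB b s = ZB b (ch ((2 : ℤ) • cv b) t * s) * ts t := by
  rw [ZB, ts_Z, ZB, ← ee_rv, ch_smul, map_mul, Units.val_pow_eq_pow_val, sr_pow']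

theorem rho_pos' (j : Fin m) : 0 < ((2 : ℤ) • rho m) ⬝ᵥ (eC m).dual.rv ((eC m).dual.zi j) := by
  show 0 < ((2 : ℤ) • rho m) ⬝ᵥ cv (zc j)
  rw [smul_dotProduct, smul_eq_mul]
  exact mul_pos two_pos (rho_cv j)

/-- the square root of a unit -/
noncomputable def su (b : PR m) (c : kˣ) : kˣ := Units.map (sr k b).toMonoidHom c

theorem su_val (b : PR m) (c : kˣ) : (su b c : k) = sr k b c := rfl
theorem su_pow (b : PR m) (c : kˣ) : su b c ^ ee b = c := Units.ext (by rw [Units.val_pow_eq_pow_val, su_val, sr_pow])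
theorem su_pow' (b : PR m) (c : kˣ) : su b (c ^ ee b) = c := Units.ext (by rw [su_val, Units.val_pow_eq_pow_val, sr_pow'])

theorem pol_spin (hD : BoxDim) (hm : 2 ≤ m) {i : Fin m} (hi : ¬ Sh (zc i)) {b : PR m} (hb : Sh b) (g h : SG m k) :
    PolLE (id : k → k) 1 fun s => H45.UniS.mn i (g * ZB b s * h).1 := by
  obtain ⟨C⟩ := boxHW 2 _ _ k _ (DC 2 m k)
  have h1 : ∀ j, (Pi.single i 1 : Fin m → ℕ) j < 2 := fun j => by rw [Pi.single_apply]; split_ifs <;> omega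
  have h0 : (Pi.single i 1 : Fin m → ℕ) ≠ 0 := fun e => by simpa using congrFun e i
  have h2 := (hD m hm k _ (C.H _ h1 h0)).2.2.2 (fun j hj => by
    rw [C.lam, Pi.single_eq_of_ne]; rintro rfl; exact hi ((sh_zc _).2 hj)) (true, b) hb
  have h3 : ∀ g : SG m k, (DC 2 m k).toFDat.cc (Pi.single i 1) g = H45.UniS.mn i g.1 := fun g => cs_single i g.1
  let v : Lc (DC 2 m k) (Pi.single i 1) := ⟨_, mem_Tr _ h⟩
  refine ⟨Polynomial.C (v.1 g) + Polynomial.C (((C.H _ h1 h0).E (true, b) 2 v).1 g) * Polynomial.X,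
    by compute_degree, fun s => ?_⟩
  have h4 := (C.rep _ h1 h0).z_sum b (sr k b s) (N := (C.H _ h1 h0).bd + 3) (by omega)
  rw [C.ρ_eq, sum_eq_add_of_mem 0 2 (by simp only [_root_.Finset.mem_range, _root_.lt_add_iff_pos_left, _root_.add_pos_iff, _root_.Nat.ofNat_pos, _root_.or_true]) (by simp) (by simp) (fun n _ hn => by rw [h2 n hn.1 hn.2, smul_zero]),
    HW.E_zero, pow_zero, one_smul, sr_sq hb] at h4
  have h5 := congrFun (congrArg Subtype.val (DFunLike.congr_fun h4 v)) g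
  simp only [Polynomial.eval_add, Polynomial.eval_mul, Polynomial.eval_C, Polynomial.eval_X, id]
  rw [← h3, mul_comm _ s]
  exact h5

theorem pol_ZB (hD : BoxDim) (hm : 2 ≤ m) (i : Fin m) (b : PR m) (g h : SG m k) :
    PolLE (id : k → k) (2 * m) fun s => H45.UniS.mn i (g * ZB b s * h).1 ^ ee (zc i) := by
  by_cases hb : Sh b
  · by_cases hi : Sh (zc i)
    · obtain ⟨P, h1, h2⟩ := pol_mn i b g h
      refine ⟨P.map (frobenius k 2), Polynomial.natDegree_map_le.trans (by omega), fun s => ?_⟩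
      have h3 : H45.UniS.mn i (g * ZB b s * h).1 = _ := h2 (sr k b s)
      show _ ^ _ = _
      rw [ee, if_pos hi, h3, ← frobenius_def, ← Polynomial.eval_map_apply, id, frobenius_def, sr_sq hb, id]
    · simp only [ee, if_neg hi, pow_one]
      exact (pol_spin hD hm hi hb g h).mono (by omega)
  · simp only [ZB, sr_lg hb]
    exact ((pol_mn i b g h).pow _).mono (Nat.mul_le_mul_right _ (ee_le _))

theorem sr_surj (b : PR m) : Function.Surjective (sr k b) := fun u => ⟨_, sr_pow' b u⟩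

/-- **the dual datum** -/
noncomputable def DB (hD : BoxDim) {m : ℕ} (hm : 2 ≤ m) (k : Type) [Field k] [IsAlgClosed k] [CharP k 2] :
    RDat 2 (Fin m) (PR m) k (SG m k) where
  x i t := xs i (sr k (zc i) t)
  y i t := ys i (sr k (zc i) t)
  z := ZB
  zi := zc
  ht := (eC m).dual.ht ((2 : ℤ) • rho m)
  T := TS m k
  δ s := ts (dls s)
  hh i c := ts (hs i (su (zc i) c))
  τ := tp
  ht_pos := (eC m).dual.ht_pos rho_pos'
  x_eq i s := (X_xs i _).symm
  z_add := ZB_add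
  y_add i s t := by rw [map_add, ys_add]
  δ_mul := (DC 2 m k).δ_mul
  δ_mem s := mem_TS.2 ⟨_, rfl⟩
  hh_mem i c := mem_TS.2 ⟨_, rfl⟩
  δ_z s b a := by
    rw [ts_ZB, dls_eq, ch_cch, ← Units.val_pow_eq_pow_val, ← _root_.zpow_natCast, (eC m).dual.ht_cast rho_pos',
      dotProduct_smul, smul_dotProduct]; rfl
  T_x t ht i := (T_x ht i).elim fun u hu => ⟨u ^ ee (zc i), fun a => by rw [map_mul, sr_pow', hu.1]⟩
  T_y t ht i := (T_x ht i).elim fun u hu => ⟨u ^ ee (zc i), fun a => by rw [map_mul, sr_pow', hu.2]⟩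
  comm i j a s := sComm i j _ _
  rank i a s c h := by
    rw [map_div₀, map_div₀]
    exact sRank i _ _ (su (zc i) c) (by rw [su_val, h, map_add, map_one, map_mul])
  gen := eq_top_iff.2 fun g _ => Subgroup.closure_mono (by
    rintro _ ⟨i, s, h⟩
    obtain ⟨t, rfl⟩ := sr_surj (zc i) s
    exact ⟨i, t, h⟩) (sGen g)
  cmt i b s := by
    obtain ⟨l, h1, h2, -⟩ := (cmB (k := k)).both ZB_add (zc i) b s
    exact ⟨l, h1, fun t => by rw [← X_xs, ← X_xs]; exact h2 t⟩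
  τ_mul := H45.UniS.tp_mul
  τ_τ := H45.UniS.tp_tp
  τ_x _ _ := rfl
  τ_T _ := tp_T
  Δ i g := H45.UniS.mn i g.1 ^ ee (zc i)
  wt j := (DC 2 m k).wt j * ee (zc j)
  N := 2 * (6 * m * m)
  M := 2 * (2 * m * m)
  Δ_one i := by rw [show H45.UniS.mn i (1 : SG m k).1 = 1 from mn_one i, one_pow]
  Δ_z i b g s := by rw [ZB, mn_mul_Z]
  Δ_T i _ ht g := by rw [mn_T i ht g, mul_pow]
  Δ_hh i j c := by
    rw [mn_ts, chi_hs]
    split_ifs with h
    · rw [h, su_val, sr_pow]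
    · exact one_pow _
  Δ_δ i s := by
    rw [_root_.zpow_mul, _root_.zpow_natCast, Units.val_pow_eq_pow_val, ← (DC 2 m k).Δ_δ]; rfl
  Δ_τ i g := congrArg (· ^ ee (zc i)) (mn_transpose i g.1)
  pol_z i b g h := (pol_ZB hD hm i b g h).mono (by nlinarith)
  pol_δ i g h := by
    have h1 := pol_mn_ds i g h
    unfold ee
    split_ifs
    · exact (h1.pow 2).imp fun P hP => ⟨hP.1, fun s => by rw [← hP.2]; ring⟩
    · have h2 : PolLE (fun s : kˣ => (s : k)) (2 * m * m) fun s => (s : k) ^ (2 * m * m) :=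
        ⟨Polynomial.X ^ (2 * m * m), by rw [Polynomial.natDegree_X_pow], fun s => by simp⟩
      exact ((h2.mul h1).mono (by nlinarith only [])).imp fun P hP =>
        ⟨hP.1, fun s => by rw [← hP.2]; ring⟩
  R := (eC m).dual.rc
  zi_eq := rfl
  ht_eq := (eC m).dual.ht_eq rho_pos'
  hh_mul i c d := by rw [su, map_mul, hs_mul, H45.UniS.ts_mul]; rfl
  hh_comm i j c d := (DC 2 m k).hh_comm i j _ _
  hh_z i c b a := by
    rw [ts_ZB, hs_eq, ch_cch, dotProduct_smul, ← smul_dotProduct, ← ee_rv, smul_dotProduct, smul_eq_mul,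
      _root_.zpow_mul, _root_.zpow_natCast, su_pow, RC.wt, Euc.toWt_eq, Euc.E_vec]; rfl
  n_z i b h := by
    obtain ⟨ε, hε⟩ := n_Z (k := k) i h
    refine ⟨ε ^ ee b, fun t => ?_⟩
    rw [map_neg, map_one, ZB, hε, ZB, show sr k ((eC m).dual.rc.s i b) = sr k b from sr_sh (sh_s i h), map_mul,
      Units.val_pow_eq_pow_val, sr_pow']
    rfl
  cm := cmB.cm
  nz i b a ha hn := by
    obtain ⟨l, h1, h2, h3⟩ := (cmB (k := k)).both ZB_add (zc i) b 1
    exact ⟨l, h1, fun t => by rw [← X_xs, ← X_xs]; exact h2 t, h3 one_ne_zero a ha hn⟩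

theorem sr_frob (b : PR m) (t : k) : frobenius k 2 (sr k b t) = sr k b (t ^ 2) := by rw [frobenius_def, map_pow]

/-- the untwisted data for the dual datum -/
noncomputable def PB (hD : BoxDim) {m : ℕ} (hm : 2 ≤ m) (k : Type) [Field k] [IsAlgClosed k] [CharP k 2] (f : ℕ)
    (hf : 0 < f) : Tws (DB hD hm k) :=
  tw0 _ f hf (mapS (frobenius k 2)) (fun b t => (mapS_Z _ b _).trans (congrArg (Z b) (sr_frob b t)))
    fun i t => (mapS_ys _ i _).trans (congrArg (ys i) (sr_frob _ t))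

variable (hD : BoxDim) (hm : 2 ≤ m)

theorem DB_U : (DB hD hm k).U = (DC 2 m k).U := by
  refine congrArg Subgroup.closure (Set.ext fun g => ⟨?_, ?_⟩)
  · rintro ⟨b, s, rfl⟩
    exact ⟨b, _, rfl⟩
  · rintro ⟨b, s, rfl⟩
    obtain ⟨t, rfl⟩ := sr_surj b s
    exact ⟨b, t, rfl⟩

theorem DB_Um : (DB hD hm k).Um = (DC 2 m k).Um := by
  refine congrArg Subgroup.closure (Set.ext fun g => ⟨?_, ?_⟩)
  · rintro ⟨b, s, rfl⟩
    exact ⟨b, _, rfl⟩
  · rintro ⟨b, s, rfl⟩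
    obtain ⟨t, rfl⟩ := sr_surj b s
    exact ⟨b, t, rfl⟩

theorem DB_hh : {g | ∃ i c, g = (DB hD hm k).hh i c} = {g | ∃ i c, g = (DC 2 m k).hh i c} := by
  refine Set.ext fun g => ⟨?_, ?_⟩
  · rintro ⟨i, c, rfl⟩
    exact ⟨i, _, rfl⟩
  · rintro ⟨i, c, rfl⟩
    exact ⟨i, c ^ ee (zc i), congrArg (fun c => ts (hs i c)) (su_pow' _ c).symm⟩

theorem PB_TT (f : ℕ) (hf : 0 < f) : (PB hD hm k f hf).TT = (PC 2 m k f hf).TT := by
  rw [Tws.TT, Tws.TT, DB_U, DB_Um]; rfl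

theorem DB_cc (n : Fin m → ℕ) (g : SG m k) :
    (DB hD hm k).toFDat.cc n g = (DC 2 m k).toFDat.cc (fun i => ee (zc i) * n i) g :=
  prod_congr rfl fun _ _ => (pow_mul _ _ _).symm

end Cfsg.Agent.TwoF.DC.TC
end

-- part: TwoF/DC/TC/Dim
section
/-!
# TwoF, defining characteristic, type `C` in characteristic two: dimensions, the spin module (helper64)
-/

set_option autoImplicit false
set_option linter.unusedSectionVars false

namespace Cfsg.Agent.TwoF.DC.TC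

open Finset Matrix Sum Module

namespace Dim

/-! ### orthogonal roots commute in characteristic two -/

section gen

variable {ι Φ : Type} [Fintype ι] [DecidableEq ι] [Fintype Φ] [DecidableEq Φ] {R : RC ι Φ}

theorem not_nz {x y : Bool × Φ} (h : R.pair (R.wt y) x = 0) : ¬ R.NZ 2 x y := by
  rintro ⟨⟨z, hz⟩, r, h1, h2, h3⟩
  rcases r with _ | _ | r
  · have h4 := R.isRt_rf x z
    rw [RC.wt, hz, R.pair_add_string, h] at h4
    refine h2 ?_
    convert h4 using 1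
    push_cast
    module
  · exact h3 (dvd_refl _)
  · have h4 := (R.pair_of_isRt (h1 2 (by omega)) x).1
    rw [R.pair_string, h] at h4
    omega

theorem comm {k L : Type} [Field k] [CharP k 2] [AddCommGroup L] [Module k L] (H : HW R 2 k L) {x y : Bool × Φ}
    (h : R.pair (R.wt y) x = 0) : H.E x 1 * H.E y 1 = H.E y 1 * H.E x 1 := by
  have : Fact (Nat.Prime 2) := ⟨Nat.prime_two⟩
  refine H.comm_of_not_nz (fun h0 => ?_) (not_nz h)
  have h1 := R.pair_add_string x y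
  rw [h0, R.toWt_zero, R.pair_zero, h] at h1
  omega

end gen

variable {m : ℕ}

/-! ### orbits of signed permutations -/

/-- `A` consists of signed permutations of `y` -/
def Orb (y : Fin m → ℤ) (A : Finset (Fin m → ℤ)) : Prop := ∀ v ∈ A, ∃ π ε, v = sp π ε y

theorem abs_sp {y : Fin m → ℤ} (hy : ∀ i, 0 ≤ y i) (π : Equiv.Perm (Fin m)) (ε : Fin m → ℤˣ) (i : Fin m) :
    |sp π ε y i| = y (π i) := by
  rw [sp_apply, abs_mul, Int.isUnit_iff_abs_eq.1 (ε i).isUnit, one_mul, abs_of_nonneg (hy _)]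

theorem sign_eq {y : Fin m → ℤ} {π : Equiv.Perm (Fin m)} {ε ε' : Fin m → ℤˣ} (h : sp π ε y = sp π ε' y) {i : Fin m}
    (hi : y (π i) ≠ 0) : ε i = ε' i := Units.ext (mul_right_cancel₀ hi (congrFun h i))

theorem orb_sign {y : Fin m → ℤ} (hy : ∀ i, 0 < y i) : ∃ A, Orb y A ∧ A.card = 2 ^ m := by
  refine ⟨univ.image fun ε => sp 1 ε y, fun v hv => ?_, ?_⟩
  · obtain ⟨ε, -, rfl⟩ := mem_image.1 hv
    exact ⟨1, ε, rfl⟩
  · rw [card_image_of_injective _ fun ε ε' h => funext fun i => sign_eq h (hy _).ne']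
    simp only [Fintype.card_units_int, _root_.Finset.card_univ, _root_.Fintype.card_pi, _root_.Finset.prod_const, _root_.Fintype.card_fin]

theorem shift_inj {n : ℕ} {y : Fin (n + 1) → ℤ} (ha : Antitone y) (hy : y (Fin.last n) < y 0) {s t : Fin (n + 1)}
    (h : ∀ l, y (l + s) = y (l + t)) : s = t := by
  by_contra hst
  have h1 := h (-t)
  have h2 := h (-t - 1)
  rw [neg_add_cancel] at h1
  rw [show -t - 1 + t = -1 by abel, show -t - 1 + s = -t + s - 1 by abel] at h2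
  have h3 : -t + s - 1 < -t + s := Fin.sub_one_lt_iff.2 (Fin.pos_iff_ne_zero.2 fun e => hst (neg_add_eq_zero.1 e).symm)
  have h4 := ha h3.le
  have h5 : (-1 : Fin (n + 1)) = Fin.last n := by
    exact neg_eq_of_add_eq_zero_left (Fin.last_add_one n)
  rw [h5] at h2
  omega

theorem orb_all {n : ℕ} {y : Fin (n + 1) → ℤ} (ha : Antitone y) (hy : y (Fin.last n) < y 0) (h0 : ∀ i, 0 < y i) :
    ∃ A, Orb y A ∧ A.card = (n + 1) * 2 ^ (n + 1) := by
  refine ⟨univ.image fun q : Fin (n + 1) × (Fin (n + 1) → ℤˣ) => sp (Equiv.addRight q.1) q.2 y, fun v hv => ?_, ?_⟩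
  · obtain ⟨q, -, rfl⟩ := mem_image.1 hv
    exact ⟨_, _, rfl⟩
  · rw [card_image_of_injective]
    · simp only [Fintype.card_units_int, _root_.Finset.card_univ, _root_.Fintype.card_prod, _root_.Fintype.card_fin, _root_.Fintype.card_pi, _root_.Finset.prod_const]
    · rintro ⟨s, ε⟩ ⟨t, ε'⟩ h
      have h1 : s = t := shift_inj ha hy fun l => by
        have h2 := abs_sp (fun i => (h0 i).le) (Equiv.addRight s) ε l
        rw [show sp (Equiv.addRight s) ε y = _ from h, abs_sp fun i => (h0 i).le] at h2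
        exact h2.symm
      subst h1
      exact Prod.ext rfl (funext fun i => sign_eq h (h0 _).ne')

theorem orb_two {n : ℕ} {y : Fin (n + 1) → ℤ} (ha : Antitone y) (hy : y (Fin.last n) < y 0) (h0 : ∀ i, 0 ≤ y i) :
    ∃ A, Orb y A ∧ A.card = 2 * (n + 1) := by
  refine ⟨univ.image fun q : Fin (n + 1) × ℤˣ => sp (Equiv.addRight q.1) (fun _ => q.2) y, fun v hv => ?_, ?_⟩
  · obtain ⟨q, -, rfl⟩ := mem_image.1 hv
    exact ⟨_, _, rfl⟩
  · rw [card_image_of_injective]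
    · simp [Fintype.card_units_int, mul_comm]
    · rintro ⟨s, ε⟩ ⟨t, ε'⟩ h
      have h1 : s = t := shift_inj ha hy fun l => by
        have h2 := abs_sp h0 (Equiv.addRight s) (fun _ => ε) l
        rw [show sp (Equiv.addRight s) (fun _ => ε) y = _ from h, abs_sp h0] at h2
        exact h2.symm
      subst h1
      refine Prod.ext rfl (sign_eq h (i := -s) ?_)
      have := h0 (Fin.last n)
      show y (-s + s) ≠ 0
      rw [neg_add_cancel]
      omega

theorem orb_zero {y : Fin m → ℤ} {j : Fin m} (hj : y j = 0) (h0 : ∀ i, i ≠ j → 0 < y i) :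
    ∃ A, Orb y A ∧ A.card = m * 2 ^ (m - 1) := by
  have hy : ∀ i, 0 ≤ y i := fun i => by
    by_cases h : i = j
    · rw [h, hj]
    · exact (h0 i h).le
  refine ⟨(univ.sigma fun i : Fin m => (univ.erase i).powerset).image
    fun q => sp (Equiv.swap q.1 j) (fun l => if l ∈ q.2 then -1 else 1) y, fun v hv => ?_, ?_⟩
  · obtain ⟨q, -, rfl⟩ := mem_image.1 hv
    exact ⟨_, _, rfl⟩
  · rw [card_image_of_injOn]
    · simp only [card_sigma, _root_.Finset.card_powerset, _root_.Finset.mem_univ, _root_.Finset.card_erase_of_mem, _root_.Finset.card_univ, _root_.Fintype.card_fin, _root_.Finset.sum_const, _root_.smul_eq_mul]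
    · rintro ⟨s, T⟩ hs ⟨t, T'⟩ ht h
      have h1 : s = t := by
        by_contra h1
        have h2 := abs_sp hy (Equiv.swap s j) (fun l => if l ∈ T then -1 else 1) s
        rw [show sp (Equiv.swap s j) (fun l => if l ∈ T then -1 else 1) y = _ from h, abs_sp hy, Equiv.swap_apply_left,
          hj] at h2
        refine (h0 _ fun e => h1 ?_).ne' h2
        rwa [Equiv.swap_apply_eq_iff, Equiv.swap_apply_right] at e
      subst h1
      simp only [coe_sigma, coe_univ, Set.mem_sigma_iff, mem_coe, mem_powerset] at hs ht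
      have h2 : T = T' := by
        ext l
        by_cases hl : l = s
        · subst hl
          exact iff_of_false (fun e => by simpa only [_root_.Finset.mem_erase, _root_.ne_eq, _root_.not_true_eq_false, _root_.Finset.mem_univ, _root_.and_true] using hs.2 e) fun e => by simpa only [_root_.Finset.mem_erase, _root_.ne_eq, _root_.not_true_eq_false, _root_.Finset.mem_univ, _root_.and_true] using ht.2 e
        · have h3 := sign_eq h (i := l) (h0 _ fun e => hl (by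
            rwa [Equiv.swap_apply_eq_iff, Equiv.swap_apply_right] at e)).ne'
          by_cases e : l ∈ T <;> by_cases e' : l ∈ T' <;> simp [e, e'] at h3 ⊢
      rw [h2]

variable {k L : Type} [Field k] [CharP k 2] [AddCommGroup L] [Module k L] (H : HW (eC m).rc 2 k L)

theorem sum_orb {y : Fin m → ℤ} {A : Finset (Fin m → ℤ)} (h : Orb y A) :
    ∑ μ ∈ A.image tw, H.m μ = A.card * H.m (tw y) := by
  rw [sum_image fun _ _ _ _ e => tw_inj e, sum_congr rfl (g := fun _ => H.m (tw y)), sum_const, smul_eq_mul]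
  intro v hv
  obtain ⟨π, ε, rfl⟩ := h v hv
  exact m_tw_sp H π ε y

theorem card_le {A : Finset (Fin m → ℤ)} (h : Orb (x0 H) A) : A.card ≤ H.d := by
  have h1 := H.sum_m_le_d (A.image tw)
  rwa [sum_orb H h, tw_x0, H.m_lz, mul_one] at h1

theorem lam_le (i : Fin m) : H.lam i ≤ 1 := Nat.lt_succ_iff.1 (H.lam_lt i)

end Dim

open Dim

section dim

variable {n : ℕ} {k L : Type} [Field k] [CharP k 2] [AddCommGroup L] [Module k L] (H : HW (eC (n + 1)).rc 2 k L)

theorem Dim.x0_last : x0 H (Fin.last n) = H.lam (Fin.last n) := by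
  rw [x0_step, dif_neg (by simp), add_zero]

theorem Dim.last_of_not {l : Fin (n + 1) → ℕ} (h : ¬ okS l) : l (Fin.last n) ≠ 0 := fun e => h fun i hi => by
  rwa [show i = Fin.last n from Fin.ext (by have := i.2; simp; omega)]

theorem Dim.lt_of_not (h : ¬ okL H.lam) : x0 H (Fin.last n) < x0 H 0 := by
  simp only [okL, not_forall] at h
  obtain ⟨i, hi, h⟩ := h
  have h1 := x0_step H i
  rw [dif_pos hi] at h1
  have h2 := x0_anti H (Fin.zero_le i)
  have h3 := x0_anti H (Fin.le_last ⟨i.1 + 1, hi⟩)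
  omega

theorem Dim.pos_of_not (h : ¬ okS H.lam) (i : Fin (n + 1)) : 0 < x0 H i := by
  have h1 := x0_anti H (Fin.le_last i)
  have h2 := last_of_not h
  rw [x0_last] at h1
  omega

theorem Dim.dim_spin (h : ¬ okS H.lam) : 2 ^ (n + 1) ≤ H.d := by
  obtain ⟨A, h1, h2⟩ := orb_sign (pos_of_not H h)
  exact h2 ▸ card_le H h1

theorem Dim.dim_nat : 2 * (n + 1) ≤ H.d := by
  by_cases h : okL H.lam
  · refine le_trans ?_ (dim_spin H fun h' => H.lam_ne (funext fun i => ?_))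
    · have : n < 2 ^ n := Nat.lt_two_pow_self
      rw [pow_succ]; omega
    · by_cases hi : i.1 + 1 < n + 1
      · exact h i hi
      · exact h' i hi
  · obtain ⟨A, h1, h2⟩ := orb_two (x0_anti H) (lt_of_not H h) (x0_nonneg H)
    exact h2.symm.trans_le (card_le H h1)

/-- the weight `λ - ε_i - ε_m` has multiplicity at least two -/
theorem Dim.two_le_m {i : Fin (n + 1)} (hi : i < Fin.last n) (h1 : x0 H (Fin.last n) = 1) (h2 : x0 H i = 2) :
    2 ≤ H.m (tw (x0 H - wv (inl i) - wv (inl (Fin.last n)))) := by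
  have := H.fd
  have hi' : i.1 < n := hi
  let a : PR (n + 1) := ⟨(inl i, inl (Fin.last n)), by simp only [ps, Fin.val_last]; omega⟩
  let b : PR (n + 1) := ⟨(inl i, inr (Fin.last n)), by simp only [ps, Fin.val_last]; omega⟩
  have ha : a.1.1 ≠ a.1.2 := fun e => hi.ne (inl_injective e)
  have hb : b.1.1 ≠ b.1.2 := inl_ne_inr
  obtain ⟨v, hv, hv0⟩ := H.isWt_iff.1 H.isWt_lz
  have hE := ext_sp H 1 (Pi.mulSingle (Fin.last n) (-1))
  have hx : sp 1 (Pi.mulSingle (Fin.last n) (-1)) (x0 H) = x0 H - (2 : ℤ) • wv (inl (Fin.last n)) := by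
    funext l
    by_cases hl : l = Fin.last n
    · simp [sp, hl, wv, h1]
    · simp [sp, hl, wv]
  rw [hx] at hE
  obtain ⟨v', hv', hv0'⟩ := H.isWt_iff.1 hE.isWt
  have hp : (eC (n + 1)).rc.pair (tw (x0 H - (2 : ℤ) • wv (inl (Fin.last n)))) (true, b) = 3 := by
    rw [pair_tw_true, if_neg hb]
    simp [b, xv, wv, h1, h2, hi.ne]
  have hu : H.E (false, a) 1 v ∈ H.w (tw (x0 H - wv (inl i) - wv (inl (Fin.last n)))) := by
    have h3 := H.E1_w (false, a) hv
    rw [wt_false, ← tw_x0, ← tw_add] at h3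
    convert h3 using 3
    rw [rv]; abel
  have hu' : H.E (false, b) 1 v' ∈ H.w (tw (x0 H - wv (inl i) - wv (inl (Fin.last n)))) := by
    have h3 := H.E1_w (false, b) hv'
    rw [wt_false, ← tw_add] at h3
    convert h3 using 3
    rw [rv, show wv b.1.2 = -wv (inl (Fin.last n)) from wv_swap (inl _), two_smul]; abel
  have hu0 : H.E (false, a) 1 v ≠ 0 := fun e => hv0 (H.inj_of_ef (x := (false, a)) (by
    rw [RC.pair_false, ← tw_x0, pair_tw_true, if_neg ha]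
    show ¬ _ ∣ -(x0 H i + x0 H (Fin.last n))
    rw [h1, h2]; decide) hv (H.E_top hv _ Nat.one_pos) e)
  have h4 : H.E (true, b) 1 (H.E (false, a) 1 v) = 0 := by
    rw [← Module.End.mul_apply, comm H, Module.End.mul_apply, H.E_top hv _ Nat.one_pos, map_zero]
    rw [wt_false, pair_tw_true, if_neg hb]
    simp [a, b, rv, xv, wv, hi.ne, hi.ne']
  have h5 : H.E (true, b) 1 (H.E (false, b) 1 v') ≠ 0 := by
    obtain ⟨ε, hε⟩ := H.ef b
    have h6 := hε _ v' hv'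
    rw [hE.E_eq_zero (x := (true, b)) (by rw [hp]; decide) Nat.one_pos hv', map_zero, sub_zero, hp] at h6
    rw [h6]
    refine smul_ne_zero (mul_ne_zero ε.ne_zero fun e => ?_) hv0'
    exact absurd ((CharP.intCast_eq_zero_iff k 2 3).1 e) (by decide)
  have h6 := H.finrank_inf_lt (N := LinearMap.ker (H.E (true, b) 1)) fun e => h5 (e hu')
  have h7 : finrank k ↥(LinearMap.ker (H.E (true, b) 1) ⊓ H.w (tw (x0 H - wv (inl i) - wv (inl (Fin.last n))))) ≠ 0 :=
    fun e => hu0 ((Submodule.eq_bot_iff _).1 (Submodule.finrank_eq_zero.1 e) _ ⟨h4, hu⟩)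
  omega

theorem Dim.dim_mixed (h : ¬ okS H.lam) (h' : ¬ okL H.lam) : 2 * (n + 1) * 2 ^ (n + 1) ≤ H.d := by
  have h0 := pos_of_not H h
  have h1 : x0 H (Fin.last n) = 1 := by
    have := h0 (Fin.last n)
    have := lam_le H (Fin.last n)
    rw [x0_last] at *
    omega
  have h2 := lt_of_not H h'
  obtain ⟨i, hi, hm⟩ := exists_max_image (univ.filter fun i => 2 ≤ x0 H i) id ⟨0, by simp only [_root_.Finset.mem_filter, _root_.Finset.mem_univ, _root_.true_and]; omega⟩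
  replace hi := (mem_filter.1 hi).2
  have h3 : i < Fin.last n := lt_of_le_of_ne (Fin.le_last i) fun e => by rw [e] at hi; omega
  have h4 : x0 H i = 2 := by
    have h5 : i.1 + 1 < n + 1 := Nat.succ_lt_succ h3
    have h6 := x0_step H i
    rw [dif_pos h5] at h6
    have h7 := lam_le H i
    have h8 : ¬ 2 ≤ x0 H ⟨i.1 + 1, h5⟩ := fun e => by
      have : i.1 + 1 ≤ i.1 := hm ⟨i.1 + 1, h5⟩ (mem_filter.2 ⟨mem_univ _, e⟩)
      omega
    omega
  obtain ⟨A, hA, hA'⟩ := orb_all (x0_anti H) h2 h0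
  have hz : (x0 H - wv (inl i) - wv (inl (Fin.last n))) (Fin.last n) = 0 := by simp [wv, h1, h3.ne']
  obtain ⟨B, hB, hB'⟩ := orb_zero hz fun l hl => by
    have := h0 l
    by_cases e : l = i
    · simp [wv, e, h4, h3.ne]
    · simp [wv, e, hl, this]
  have h5 := H.sum_m_le_d (A.image tw ∪ B.image tw)
  rw [sum_union, sum_orb H hA, sum_orb H hB, tw_x0, H.m_lz, hA', hB', Nat.add_sub_cancel] at h5
  · have h6 := Nat.mul_le_mul_left ((n + 1) * 2 ^ n) (two_le_m H h3 h1 h4)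
    rw [pow_succ] at h5 ⊢
    linarith only [h5, h6]
  · rw [disjoint_image tw_inj, disjoint_left]
    intro v h6 h7
    obtain ⟨π, ε, rfl⟩ := hB v h7
    obtain ⟨π', ε', e⟩ := hA _ h6
    have h8 := abs_sp (fun i => (h0 i).le) π' ε' (π.symm (Fin.last n))
    rw [← e, sp_apply, Equiv.apply_symm_apply, hz, mul_zero, abs_zero] at h8
    exact (h0 _).ne h8

/-! ### the spin module -/

theorem Dim.xv_short {a b : II (n + 1)} (h : a ≠ b) (c : II (n + 1)) : xv (wv a + wv b) c ≤ 1 := by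
  rw [xv_add, xv_wv, xv_wv]
  split_ifs with h1 h2 <;> first | omega | exact (h (h1.symm.trans h2)).elim

/-- if a long root is the sum of a root and a short root, the summands are orthogonal -/
theorem Dim.orth {x y : Bool × PR (n + 1)} {a b c : II (n + 1)} (hy : (eC (n + 1)).rx y = wv a + wv b) (hab : a ≠ b)
    (h0 : b ≠ a.swap) (h : wv c + wv c = (eC (n + 1)).rx x + (eC (n + 1)).rx y) :
    (eC (n + 1)).rc.pair ((eC (n + 1)).rc.wt y) x = 0 := by
  obtain ⟨a', b', -, h1, h2⟩ := rt_exists x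
  have h3 := congrArg (xv · c) h
  have h4 := xv_short hab c
  simp only [xv_add, xv_wv_self, ← hy] at h3 h4
  by_cases e : a' = b'
  · subst e
    have h5 : c = a' := by
      rw [h1, xv_add, xv_wv] at h3
      split_ifs at h3 with h6 <;> first | exact h6 | omega
    rw [h1, h5, left_eq_add, hy, add_eq_zero_iff_neg_eq, ← wv_swap] at h
    exact (h0 (wv_inj h).symm).elim
  · rw [if_neg e, ← h1] at h2
    have h5 := xv_short e c
    have h6 := (eC (n + 1)).rc.pair_wt_self x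
    have h7 := congrArg ((eC (n + 1)).rx x ⬝ᵥ ·) h
    rw [← h1] at h5
    rw [Euc.pair_wt, h2] at h6 ⊢
    simp only [dotProduct_add, h6, dotProduct_comm _ (wv c), wv_dot] at h7
    omega

section spin

variable (h : okL H.lam)
include h

theorem Dim.x0_one (i : Fin (n + 1)) : x0 H i = 1 := by
  have h1 : ∀ i, x0 H i = x0 H (Fin.last n) := fun i => by
    induction i using Fin.reverseInduction with
    | last => rfl
    | cast i ih =>
      have h2 : i.castSucc.1 + 1 < n + 1 := Nat.succ_lt_succ i.2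
      rw [x0_step, dif_pos h2, h _ h2, Nat.cast_zero, zero_add]
      exact ih
  have h2 := lam_le H (Fin.last n)
  have h3 : H.lam (Fin.last n) ≠ 0 := last_of_not fun h' => H.lam_ne (funext fun i => by
    by_cases hi : i.1 + 1 < n + 1
    · exact h i hi
    · exact h' i hi)
  rw [h1, x0_last]
  omega

theorem Dim.xv_ext {ν : Fin (n + 1) → ℤ} (hν : H.Ext ν) : ∃ y, ν = tw y ∧ ∀ a, xv y a = 1 ∨ xv y a = -1 := by
  obtain ⟨π, ε, rfl⟩ := (ext_C H).1 hν
  refine ⟨_, rfl, fun a => ?_⟩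
  rcases a with i | i <;> simp only [xv, sp, x0_one H h, mul_one] <;> rcases Int.units_eq_one_or (ε i) with e | e <;>
    simp [e]

theorem Dim.pair_ext {ν : Fin (n + 1) → ℤ} (hν : H.Ext ν) (b : PR (n + 1)) :
    -2 ≤ (eC (n + 1)).rc.pair ν (true, b) ∧ (eC (n + 1)).rc.pair ν (true, b) ≤ 2 ∧
      (b.1.1 ≠ b.1.2 ↔ 2 ∣ (eC (n + 1)).rc.pair ν (true, b)) := by
  obtain ⟨y, rfl, hy⟩ := xv_ext H h hν
  have h1 := hy b.1.1
  have h2 := hy b.1.2
  rw [pair_tw_true]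
  split_ifs with e
  · simp only [e, ne_eq, not_true, false_iff] at *; omega
  · simp only [e, ne_eq, not_false_iff, true_iff]; omega

theorem Dim.F_top {v : L} (hv : v ∈ H.w H.lz) (b : PR (n + 1)) (hb : b.1.1 ≠ b.1.2) : H.E (false, b) 1 v = 0 := by
  induction hn : ∑ j, (eC (n + 1)).rc.cf b j using Nat.strong_induction_on generalizing b with
  | _ N ih =>
    have h1 : H.E (false, b) 1 v ∈ H.w H.lz := H.curtis _ fun β => by
      by_cases e : β = b
      · obtain ⟨ε, hε⟩ := H.ef b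
        have h1 := hε _ v hv
        rw [H.E_top hv _ Nat.one_pos, map_zero, sub_zero,
          (CharP.intCast_eq_zero_iff k 2 _).2 ((pair_ext H h H.ext_lz b).2.2.1 hb), mul_zero, zero_smul] at h1
        rw [e, h1]
      by_cases hz : (eC (n + 1)).rc.IsRt ((eC (n + 1)).rc.vec (true, β) + (eC (n + 1)).rc.vec (false, b))
      · obtain ⟨⟨t, c⟩, hz⟩ := hz
        obtain ⟨r, hr, -⟩ := H.br _ _ _ hz
        have h1 := congrArg (fun f : Module.End k L => f v) hr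
        simp only [LinearMap.sub_apply, Module.End.mul_apply, H.E_top hv β Nat.one_pos, map_zero, sub_zero,
          LinearMap.smul_apply] at h1
        cases t
        · by_cases hc : c.1.1 = c.1.2
          · rw [← Module.End.mul_apply, comm H, Module.End.mul_apply, H.E_top hv _ Nat.one_pos, map_zero]
            rw [Euc.vec_eq_iff, Euc.E_add, Euc.E_vec, Euc.E_vec] at hz
            refine orth (a := b.1.1.swap) (b := b.1.2.swap) (c := c.1.1.swap) ?_ (mt swap_inj.1 hb)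
              (mt swap_inj.1 b.ne) ?_
            · show -rv b = _
              rw [rv, wv_swap, wv_swap]; abel
            · rw [← hz]
              show _ = -rv c
              rw [rv, ← hc, wv_swap]; abel
          · rw [h1, ih _ ?_ c hc rfl, smul_zero]
            obtain ⟨j, hj⟩ := (eC (n + 1)).rc.exists_cf_pos β
            rw [← hn]
            refine sum_lt_sum (fun i _ => ?_) ⟨j, mem_univ _, ?_⟩
            · have := congrFun hz i
              simp only [Pi.add_apply, RC.vec_true, RC.vec_false] at this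
              omega
            · have := congrFun hz j
              simp only [Pi.add_apply, RC.vec_true, RC.vec_false] at this
              omega
        · rw [h1, H.E_top hv _ Nat.one_pos, smul_zero]
      · rw [← Module.End.mul_apply, H.br0 _ _ (fun e' => e ?_) hz, Module.End.mul_apply, H.E_top hv _ Nat.one_pos,
          map_zero]
        rw [RC.vec_false', add_neg_eq_zero] at e'
        exact congrArg Prod.snd ((eC (n + 1)).rc.vec_inj e')
    rw [← H.pr_of_mem h1, H.pr_of_ne (H.E1_w _ hv)]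
    exact fun e => (eC (n + 1)).rc.wt_ne_zero _ (add_eq_left.1 e)

theorem Dim.E_ext {ν : Fin (n + 1) → ℤ} (hν : H.Ext ν) {x : Bool × PR (n + 1)} (hx : 2 ∣ (eC (n + 1)).rc.pair ν x)
    {v : L} (hv : v ∈ H.w ν) : H.E x 1 v = 0 := by
  obtain ⟨l, rfl⟩ := hν
  obtain ⟨u, hu, rfl⟩ := H.exists_nnl l hv
  rw [← (eC (n + 1)).rc.srl_srl_rev l x, H.E_nnl_eq_zero]
  rw [RC.pair_swl] at hx
  generalize (eC (n + 1)).rc.srl l.reverse x = y at hx
  rcases y with ⟨_ | _, b⟩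
  · rw [RC.pair_false, dvd_neg] at hx
    exact F_top H h hu b ((pair_ext H h H.ext_lz b).2.2.2 hx)
  · exact H.E_top hu b Nat.one_pos

theorem Dim.all_ext {μ : Fin (n + 1) → ℤ} (hμ : H.IsWt μ) : H.Ext μ := by
  refine H.dep_induction (P := H.Ext) (fun μ hμ ih => ?_) μ hμ
  by_contra hn
  refine hμ (eq_bot_iff.2 ((H.gen μ fun e => hn (e ▸ H.ext_lz)).trans ?_))
  refine iSup_le fun i => iSup_le fun r => iSup_le fun hr => ?_
  rintro _ ⟨u, hu, rfl⟩
  by_contra h0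
  have hr' : (0 : ℤ) < r := by exact_mod_cast hr
  have h1 := ih _ (H.isWt_of_mem hu fun e => h0 (by rw [e, map_zero]; rfl)) (H.sum_dep_lt hμ _ hr')
  have h2 : μ + (r : ℤ) • (eC (n + 1)).rc.wt (true, (eC (n + 1)).rc.zi i) +
      (r : ℤ) • (eC (n + 1)).rc.wt (false, (eC (n + 1)).rc.zi i) = μ := by
    rw [RC.wt_false, smul_neg, add_neg_cancel_right]
  have h3 := h1.le_of_isWt hr' (h2.symm ▸ hμ)
  have h4 := (pair_ext H h h1 ((eC (n + 1)).rc.zi i)).2.1
  by_cases e : (eC (n + 1)).rc.pair (μ + (r : ℤ) • (eC (n + 1)).rc.wt (true, (eC (n + 1)).rc.zi i))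
      (true, (eC (n + 1)).rc.zi i) = r
  · have h5 := h1.rf (true, (eC (n + 1)).rc.zi i)
    rw [RC.rf, e, add_sub_cancel_right] at h5
    exact hn h5
  · rw [RC.pair_false] at h3
    obtain rfl : r = 1 := by omega
    exact h0 (E_ext H h h1 (by rw [RC.pair_false]; omega) hu)

theorem Dim.E_short (x : Bool × PR (n + 1)) (hx : x.2.1.1 ≠ x.2.1.2) (r : ℕ) (h0 : r ≠ 0) (h2 : r ≠ 2) :
    H.E x r = 0 := by
  by_cases h1 : r = 1
  · subst h1
    refine H.ext_w fun μ hμ v hv => E_ext H h (all_ext H h hμ) ?_ hv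
    have h3 := (pair_ext H h (all_ext H h hμ) x.2).2.2.1 hx
    rcases x with ⟨_ | _, b⟩
    · rwa [RC.pair_false, dvd_neg]
    · exact h3
  · exact H.E_eq_zero (M := 2) (fun μ hμ => H.pair_le (fun b => (pair_ext H h H.ext_lz b).2.1) hμ x) (by omega)

end spin

end dim

/-- **dimensions in characteristic two, the short root operators on the spin module** -/
theorem boxDim : BoxDim := by
  intro m hm k L _ _ _ _ H
  obtain ⟨n, rfl⟩ : ∃ n, m = n + 1 := ⟨m - 1, by omega⟩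
  exact ⟨Dim.dim_nat H, Dim.dim_spin H, Dim.dim_mixed H, Dim.E_short H⟩

end Cfsg.Agent.TwoF.DC.TC
end

-- part: TwoF/DC/TC/Main
section
/-!
# TwoF, defining characteristic, type C: main file (helper34)

`psp_of : BoxShort → BoxSpin → BoxSp4 → TBox IsPSpChar`, `sz`.
-/

set_option autoImplicit false
set_option linter.unusedSectionVars false

namespace Cfsg.Agent.TwoF.DC.TC

open Finset Cfsg.Agent.H45.UniS

theorem card_Sp_le (F : Type) [Field F] [Fintype F] (m : ℕ) : Nat.card (SG m F) ≤ Fintype.card F ^ (2 * m ^ 2 + m) := by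
  have h : ∀ n, ∏ i ∈ range n, (Fintype.card F ^ (2 * (i + 1)) - 1) ≤ Fintype.card F ^ (n ^ 2 + n) := fun n => by
    induction n with
    | zero => simp only [_root_.Finset.range_zero, _root_.Finset.prod_empty, _root_.ne_eq, _root_.OfNat.ofNat_ne_zero, _root_.not_false_eq_true, _root_.zero_pow, _root_.add_zero, _root_.pow_zero, _root_.Std.le_refl]
    | succ n ih =>
      rw [prod_range_succ, show (n + 1) ^ 2 + (n + 1) = n ^ 2 + n + 2 * (n + 1) by ring, pow_add]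
      exact Nat.mul_le_mul ih (Nat.sub_le _ _)
  rw [S0245.result rfl m, show 2 * m ^ 2 + m = m ^ 2 + (m ^ 2 + m) by ring, pow_add]
  exact Nat.mul_le_mul_left _ (h m)

theorem num_ineq {m : ℕ} (hm : 3 ≤ m) : 2 * m ^ 2 + m + 1 ≤ m * 2 ^ m := by
  have h : 2 * m + 2 ≤ 2 ^ m := by
    induction m, hm using Nat.le_induction with
    | base => norm_num
    | succ n _ ih => rw [pow_succ]; omega
  nlinarith

section two

variable {m : ℕ} {k : Type} [Field k] [IsAlgClosed k] [CharP k 2] {F : Type} [Field F] [Fintype F] {f : ℕ} (hf : 0 < f)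
  (hF : Fintype.card F = 2 ^ f) (ω : F →+* k)

include hf in
theorem gcd_two : Nat.gcd 2 (2 ^ f - 1) = 1 :=
  Nat.coprime_two_left.2 (Nat.Even.sub_odd Nat.one_le_two_pow (Nat.even_pow.2 ⟨even_two, hf.ne'⟩) odd_one)

include hF ω in
theorem num_B (hm : 3 ≤ m) (hFa : (DC 2 m k).Fa) : (PB boxDim (show 2 ≤ m by omega) k f hf).Num (PSp m F) := by
  obtain ⟨h4, h5, h6, h7⟩ := num_aux (m := m) hF ω (by omega) (by omega) (by omega)
  set P := PB boxDim (show 2 ≤ m by omega) k f hf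
  have hfin : Finite P.Zc := by
    have := P.finite_QQ
    exact Finite.of_injective (fun c : P.Zc => (⟨c.1, P.mem_QQ.2 c.2.1⟩ : P.QQ))
      fun a b h => Subtype.ext (congrArg (fun x : P.QQ => x.1) h)
  refine ⟨h4, h5, exists_π ω ((PB_TT _ _ f hf).trans (TT_eq hf hF ω hFa)), _, (gcd_two hf).le.trans Nat.card_pos, h6,
    h7.le.trans ?_⟩
  exact Nat.mul_le_mul_right _ (Nat.mul_le_mul_right f (Nat.le_mul_of_pos_right _ Nat.card_pos))

theorem comb_B {hm : 2 ≤ m} {ok : (Fin m → ℕ) → Prop} (h : Cmb (DB boxDim hm k) ok)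
    (hex : ∃ l : Fin m → ℕ, (∀ i, l i < 2) ∧ l ≠ 0 ∧ ok l) : (PB boxDim hm k f hf).Comb ok := h.comb hex

theorem single_lt (i j : Fin m) : (Pi.single i 1 : Fin m → ℕ) j < 2 := by rw [Pi.single_apply]; split_ifs <;> omega
theorem single_ne (i : Fin m) : (Pi.single i 1 : Fin m → ℕ) ≠ 0 := fun e => by simpa using congrFun e i

theorem dd_bounds (hm : 2 ≤ m) (ν : Fin m → ℕ) (h : ∀ i, ν i < 2) : 1 ≤ dd (DC 2 m k) ν ∧
    (ν ≠ 0 ∧ ¬ okS ν → 2 ^ m ≤ dd (DC 2 m k) ν) ∧ (¬ okL ν → 2 * m ≤ dd (DC 2 m k) ν) ∧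
    (ν ≠ 0 ∧ ¬ okS ν → ¬ okL ν → 2 * m * 2 ^ m ≤ dd (DC 2 m k) ν) := by
  by_cases h0 : ν = 0
  · subst h0
    exact ⟨(dd_zero _).ge, fun h => (h.1 rfl).elim, fun h => (h fun _ _ => rfl).elim, fun h => (h.1 rfl).elim⟩
  · obtain ⟨C⟩ := boxHW 2 _ _ k _ (DC 2 m k)
    obtain ⟨h1, h2, h3, -⟩ := boxDim m hm k _ (C.H ν h h0)
    rw [C.lam] at h2 h3
    exact ⟨le_trans (by omega) h1, fun h => h2 h.2, fun _ => h1, fun h => h3 h.2⟩

include hf hF ω in
theorem row_two_aux (hS : BoxShort) (hB : BoxSpin) (hm : 3 ≤ m) : Row 2 (PSp m F) := by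
  have h2 : 2 ≤ m := by omega
  let _ : Algebra (ZMod 2) k := ZMod.algebra k 2
  have : Nonempty (PR m) := ⟨zc ⟨0, by omega⟩⟩
  have c1 := comb_C hf (hS m h2 k _ (DC 2 m k) rfl) ⟨_, single_lt ⟨0, by omega⟩, single_ne _,
    fun i hi => Pi.single_eq_of_ne (fun e => hi (by rw [e]; show 0 + 1 < m; omega)) _⟩
  have c2 := comb_B hf (hB m hm k _ (DB boxDim h2 k) rfl) ⟨_, single_lt ⟨m - 1, by omega⟩, single_ne _,
    fun i hi => Pi.single_eq_of_ne (fun e => by rw [e] at hi; simp only at hi; omega) _⟩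
  have := (PC 2 m k f hf).finite_TT c1.fa
  have := (PB boxDim h2 k f hf).finite_TT c2.fa
  obtain ⟨π, hπ, hT, hcv, ha⟩ := (PC 2 m k f hf).exists_std c1.fa (num hf hF ω c1.fa h2 (by omega) (by omega))
  obtain ⟨π', hπ', hT', hcv', ha'⟩ := (PB boxDim h2 k f hf).exists_std c2.fa (num_B hf hF ω hm c1.fa)
  have H : Two ((PC 2 m k f hf).std c1.fa π hπ hT hcv) ((PB boxDim h2 k f hf).std c2.fa π' hπ' hT' hcv')
      (MulEquiv.subgroupCongr (PB_TT boxDim h2 f hf)) fun i => ee (zc i) :=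
    { φ := fun s => (MulEquiv.subgroupCongr_apply (PB_TT boxDim h2 f hf) s).symm
      Fr := Eq.refl (mapS (frobenius k 2))
      gr := fun _ => Eq.refl ()
      U := (DB_U _ _).ge
      hh := DB_hh _ _
      pos := fun _ => ee_pos _
      cc := DB_cc _ _ }
  refine row_two (o := f) H ((PC 2 m k f hf).full c1.fa c1 ha) ((PB boxDim h2 k f hf).full c2.fa c2 ha')
    (le_self_pow₀ one_le_two (by omega)) (dd_bounds h2) ?_ ?_
  · rw [(num_aux (m := m) hF ω h2 (by omega) (by omega)).2.2.2, gcd_two hf, one_mul]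
  · have h3 : Nat.card (PC 2 m k f hf).TT ≤ (2 ^ f) ^ (2 * m ^ 2 + m) := by
      rw [TT_eq hf hF ω c1.fa, ← hF, ← Nat.card_congr (MonoidHom.ofInjective (mapS_inj ω)).toEquiv]
      exact card_Sp_le F m
    have h4 : f * Nat.card (PC 2 m k f hf).TT < 2 ^ f * (2 ^ f) ^ (2 * m ^ 2 + m) :=
      Nat.mul_lt_mul_of_lt_of_le Nat.lt_two_pow_self h3 (by positivity)
    refine (Nat.pow_lt_pow_left h4 two_ne_zero).trans_le ?_
    rw [← pow_succ', ← pow_mul, ← pow_mul]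
    refine Nat.pow_le_pow_right two_pos (Nat.mul_le_mul_left f ?_)
    have := num_ineq hm
    linarith only [this]

end two

/-- **characteristic two, rank at least three** -/
theorem row_even (hS : BoxShort) (hB : BoxSpin) (F : Type) [Field F] [Fintype F] [CharP F 2] {m : ℕ} (hm : 3 ≤ m) :
    Row 2 (PSp m F) := by
  obtain ⟨f, -, hF⟩ := FiniteField.card F 2
  exact row_two_aux f.2 hF (algebraMap F (AlgebraicClosure F)) hS hB hm

/-- **symplectic groups** -/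
theorem psp_of (hS : BoxShort) (hB : BoxSpin) (h4 : BoxSp4) : TBox fun p S _ => IsPSpChar p S := by
  rintro p _ S _ _ _ ⟨F, _, _, _, m, hm, h2, ⟨e⟩⟩
  refine Row.of_equiv ?_ e
  by_cases hp : p = 2
  · subst hp
    rcases hm.eq_or_lt with rfl | h
    · exact h4 F (h2 rfl)
    · exact row_even hS hB F h
  · exact row_odd (boxStd_pow Pw.boxPow) boxOdd p hp F hm h2

end Cfsg.Agent.TwoF.DC.TC
end

-- part: TwoF/DC/TC/Short
section
/-!
# TwoF, defining characteristic, type C, `p = 2`, no spin factor (3): `boxShort` (helper89)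
-/

set_option autoImplicit false
set_option linter.unusedSectionVars false

namespace Cfsg.Agent.TwoF.DC.TC

open Finset Matrix Sum

namespace Sht

variable {m : ℕ} {o l : Fin m} (ho : o.1 = 0) (hl : l.1 + 1 = m) (hm : 2 ≤ m)
include ho hl hm

section one

variable {R : RC (Fin m) (PR m)} (hR : R = (eC m).rc) {k L : Type} [Field k] [CharP k 2] [AddCommGroup L] [Module k L]
  (H : HW R 2 k L) (hok : okS H.lam)
include hR hok

omit ho hl hm in
theorem one_x : H.X := by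
  subst hR
  exact H.x_of_ch ch_two fun j hj => by_contra fun e => hj (hok j e)

omit ho hl hm in
theorem one_d : 2 * m ≤ H.d := by
  subst hR
  obtain ⟨s, hs⟩ := H.exists_lam_pos
  exact two_mul_le_d hs.ne' (by_contra fun e => hs.ne' (hok s e))

omit hl hm in
theorem one_two (h2 : m = 2) : H.cL (Sie m) ≤ 2 := by
  subst hR
  exact (H.cL_le_cG _).trans ((cG_nat ho fun i hi => hok i (by have := Fin.val_ne_of_ne hi; omega)).trans h2.le)

theorem one {S : Finset (PR m)} (hS : Shp o l S) : m ≤ H.cL S ∧ (H.cL (Sie m) ≤ m ∨ 2 * S.card < H.cL S ∨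
    m = 3 ∧ 8 ≤ H.cL S ∧ S.card ≤ 5 ∧ H.cL (Sie m) ≤ 11) := by
  have hX := one_x hR H hok
  subst hR
  have hc : (univ.erase o).card = m - 1 := by rw [card_erase_of_mem (mem_univ _), card_univ, Fintype.card_fin]
  have c1 := fun (s : Fin m) (hs : H.lam s ≠ 0) => count ho hX hs (by_contra fun e => hs (hok s e)) hS.mem (univ.erase o)
    fun j h e => (e (mem_erase.2 ⟨h.ne', mem_univ _⟩)).elim
  by_cases h0 : ∀ i, i ≠ o → H.lam i = 0
  · refine ⟨?_, Or.inl ((H.cL_le_cG _).trans (cG_nat ho h0))⟩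
    obtain ⟨s, hs⟩ := H.exists_lam_pos
    obtain rfl : s = o := by_contra fun e => hs.ne' (h0 s e)
    have h1 := c1 s hs.ne'
    rw [hc, ho, Nat.choose_zero_right, Nat.zero_add, Nat.choose_one_right] at h1
    omega
  push Not at h0
  obtain ⟨s, h0, hs⟩ := h0
  have h1 : s.1 + 1 < m := by_contra fun e => hs (hok s e)
  have h2 := Fin.val_ne_of_ne h0
  have h3 := c1 s hs
  have h4 := two_card_Sie m
  obtain ⟨b, rfl⟩ : ∃ b, m = b + 2 := ⟨m - 2, by omega⟩
  rw [hc] at h3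
  have h5 := (num (b := b) (s := s) (c := H.cL S) (by omega) (by omega)).1 h3
  refine ⟨by nlinarith only [h5], Or.inr ?_⟩
  rcases hS.card with h6 | ⟨⟨h7, h8⟩, h6⟩
  · exact Or.inl (by linarith only [h4, h5, h6])
  have h9 := count ho hX hs h1 hS.mem ((univ.erase o).erase l) fun j h e => by
    obtain rfl : j = l := by_contra fun e' => e (mem_erase.2 ⟨e', mem_erase.2 ⟨h.ne', mem_univ _⟩⟩)
    exact h8
  rw [card_erase_of_mem (mem_erase.2 ⟨h7.ne', mem_univ _⟩), hc] at h9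
  by_cases hb : 2 ≤ b
  · have h10 := (num (b := b) (s := s) (c := H.cL S) (by omega) (by omega)).2 hb h9
    exact Or.inl (by linarith only [h4, h6, h10])
  obtain rfl : b = 1 := by omega
  obtain rfl : s = 1 := Fin.ext (show s.1 = 1 by omega)
  obtain rfl : o = 0 := Fin.ext ho
  have h10 : 8 ≤ H.cL S := h9
  have h11 : H.lam 2 = 0 := hok 2 (by decide)
  by_cases h12 : H.lam 0 = 0
  · exact Or.inr ⟨rfl, h10, by omega, (H.cL_le_cG _).trans (cG_two h12 hs h11)⟩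
  · have h13 := cL_mixed hX h12 hs h11 hS.mem
    exact Or.inl (by omega)

end one

variable {k G : Type} [Field k] [CharP k 2] [Group G] {D : RDat 2 (Fin m) (PR m) k G} (hR : D.R = (eC m).rc)
  {σ : Equiv.Perm (Fin m)}
include hR

theorem val_le (F : Fam D σ) (hok : ∀ j, okS (F.H j).lam) {S : Finset (PR m)} (hS : Shp o l S)
    (hv : F.val S ≤ 4 * S.card) : F.val (Sie m) ≤ 4 * (Sie m).card := by
  have h1 := fun j => one ho hl hm hR (F.H j) (hok j) hS
  by_cases h0 : ∀ j, (F.H j).cL (Sie m) ≤ m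
  · refine le_trans (sum_le_sum fun j _ => ?_) (hv.trans (Nat.mul_le_mul_left 4 (hS.card_le hm)))
    have h2 := (h0 j).trans (h1 j).1
    split_ifs
    · exact Num.mul_two_sub_mono h2 ((F.H j).cL_le_d S)
    · omega
  push Not at h0
  obtain ⟨j, h0⟩ := h0
  have h2 := TE.one_le_val F S j
  obtain ⟨h3, h4, h5, h6⟩ := ((h1 j).2.resolve_left (by omega)).resolve_left (by omega)
  have h7 : ∀ i, i = j := fun i => by_contra fun e => by
    classical
    have h8 := (sum_le_sum_of_subset (f := fun j => 2 * (F.H j).cL S) (subset_univ {i, j})).trans (TE.two_cL_le_val F S)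
    have h9 := (h1 i).1
    rw [sum_pair e] at h8
    omega
  have h8 := two_card_Sie m
  rw [Fam.val, Fintype.sum_eq_single j fun i hi => (hi (h7 i)).elim] at hv ⊢
  split_ifs at hv ⊢
  · have h9 := (F.H j).cL_lt_d S
    have h10 := Nat.mul_le_mul h4 (show 10 ≤ 2 * (F.H j).d - (F.H j).cL S by omega)
    omega
  · subst h3; omega

end Sht

open Sht in
/-- **type `C`, characteristic two, no spin factor** -/
theorem boxShort (hB : BoxSie) : BoxShort := by
  intro m hm k G _ _ _ D hR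
  obtain ⟨o, ho⟩ : ∃ o : Fin m, o.1 = 0 := ⟨⟨0, by omega⟩, rfl⟩
  obtain ⟨l, hl⟩ : ∃ l : Fin m, l.1 + 1 = m := ⟨⟨m - 1, by omega⟩, by simp only; omega⟩
  have hl' : ¬ l.1 + 1 < m := by omega
  refine ⟨faith_of_ch _ 2 k (hR ▸ ch_two) (hR ▸ conn_C) fun l h j hj => by_contra fun e => hj (h j e),
    fun σ F hok hT S hS hA hI hv => hB 2 m hm k G D hR σ F (fun j => one_x hR _ (hok j)) ?_, ?_⟩
  · by_cases h : S ⊆ Sie m
    · obtain ⟨S', h1, h2, h3, h4, h5⟩ := hT (Sie m) (hR ▸ up_Sie hl') ⟨S, h, hS, hv⟩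
      rw [hR] at h3 h5
      rcases shp_of_sub ho hl h3 h1 h2 fun j hj => h5 j (s_mem_Sie hl' hj).1 (s_mem_Sie hl' hj).2 with rfl | h6
      · exact h4
      · exact val_le ho hl hm hR F hok h6 h4
    · exact val_le ho hl hm hR F hok (shp_of_notSub ho hl (hR ▸ hA) (hR ▸ hI) h) hv
  · intro _ σ J _ _ L _ _ H rep hok S hA hI sl h1 _ h2
    have h3 := card_le ho hl hm (hR ▸ hA) (hR ▸ hI)
    have h4 := two_card_Sie m
    have h5 := fun j => one_d hR (H j) (hok j)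
    have h6 := (card_nsmul_le_sum univ _ (2 * m * (2 * m - 1) + if S.Nonempty then 2 else 0) fun j _ =>
      Nat.add_le_add_right (Nat.mul_le_mul (h5 j) (Nat.sub_le_sub_right (h5 j) 1)) _).trans h2
    have h7 : 1 ≤ Fintype.card J := Fintype.card_pos
    have h8 := fun j => (single_le_sum (f := fun j => (H j).d * ((H j).d - 1) + if S.Nonempty then 2 else 0)
      (fun _ _ => Nat.zero_le _) (mem_univ j)).trans h2
    rw [card_univ, smul_eq_mul] at h6
    obtain ⟨b, rfl⟩ : ∃ b, m = b + 2 := ⟨m - 2, by omega⟩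
    rw [show 2 * (b + 2) - 1 = 2 * b + 3 by omega] at h6
    have h11 := (Nat.le_mul_of_pos_left _ h7).trans h6
    have h9 : S.Nonempty := by_contra fun e => by
      rw [if_neg e, not_nonempty_iff_eq_empty.1 e, card_empty] at h11
      nlinarith only [h1, h11]
    simp only [if_pos h9] at h6 h8 h11
    obtain rfl : b = 0 := by nlinarith only [h1, h3, h4, h11]
    have h10 : Fintype.card J = 1 := by omega
    refine ⟨h10, fun hσ => hB 2 _ hm k G D hR σ _ (fun j => one_x hR _ (hok j)) ?_⟩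
    refine (sum_le_card_nsmul univ _ 12 fun j _ => ?_).trans (by rw [card_univ, smul_eq_mul]; change Fintype.card J * 12 ≤ _; omega)
    have e1 := one_two ho hR (H j) (hok j) rfl
    have e2 := h5 j
    have e3 : (H j).d = 4 := by
      have e4 := h8 j
      by_contra e
      have e5 := Nat.mul_le_mul (show 5 ≤ (H j).d by omega) (show 4 ≤ (H j).d - 1 by omega)
      omega
    show (H j).cL _ * (2 * (H j).d - (H j).cL _) ≤ 12
    rw [e3]
    exact Num.mul_two_sub_mono (d := 4) e1 (by decide)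

end Cfsg.Agent.TwoF.DC.TC
end

-- part: TwoF/DC/TC/Spin
section
/-!
# TwoF, defining characteristic, type `B` in characteristic two: the spin modules (helper64)
-/

set_option autoImplicit false
set_option linter.unusedSectionVars false

namespace Cfsg.Agent.TwoF.DC.TC

open Finset Matrix Sum

namespace Spin

/-! ### numerics -/

theorem chain {P : ℕ → Prop} {lo hi : ℕ} (h : ∀ q, lo ≤ q → q < hi → (P q ↔ P (q + 1))) {a b : ℕ} (h1 : lo ≤ a)
    (h2 : a ≤ hi) (h3 : lo ≤ b) (h4 : b ≤ hi) (ha : P a) : P b := by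
  have key : ∀ q, lo ≤ q → q ≤ hi → (P q ↔ P lo) := fun q hq => by
    induction q, hq using Nat.le_induction with
    | base => exact fun _ => Iff.rfl
    | succ q hq ih => exact fun h5 => (h q hq h5).symm.trans (ih (by omega))
  exact (key b h3 h4).2 ((key a h1 h2).1 ha)

theorem sum_aux (N e : ℕ) : ∀ k, k + e ≤ N + 1 → 2 * ∑ a ∈ range k, (N - (a + e)) + k * k + 2 * k * e = 2 * k * N + k
  | 0, _ => by simp
  | k + 1, h => by
    have h1 := sum_aux N e k (by omega)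
    obtain ⟨r, hr⟩ : ∃ r, N = k + e + r := ⟨N - (k + e), by omega⟩
    rw [sum_range_succ, show N - (k + e) = r by omega]
    generalize ∑ a ∈ range k, (N - (a + e)) = s at h1 ⊢
    subst hr
    linarith only [h1]

theorem pow_seven {m : ℕ} (h : 7 ≤ m) : (4 * m + 1) * (4 * m + 1) < 9 * 2 ^ m := by
  induction m, h using Nat.le_induction with
  | base => norm_num
  | succ m hm ih => rw [pow_succ]; nlinarith

theorem pow_five {k : ℕ} (h : 5 ≤ k) : k * k + 1 < 2 ^ k := by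
  induction k, h using Nat.le_induction with
  | base => norm_num
  | succ k hk ih => rw [pow_succ]; nlinarith only [ih]

theorem pow_three {m : ℕ} (h : 3 ≤ m) : 6 * (m * m) + 4 < 2 ^ m * (2 ^ m - 1) + 2 * m ∧ 8 * m < 2 ^ (m - 1) * 2 ^ m := by
  obtain ⟨n, rfl⟩ : ∃ n, m = n + 3 := ⟨m - 3, by omega⟩
  obtain ⟨u, hu⟩ : ∃ u, 2 ^ n = n + 1 + u := Nat.exists_eq_add_of_le Nat.lt_two_pow_self
  rw [show n + 3 - 1 = n + 2 from rfl, pow_add, pow_add, hu, show (n + 1 + u) * 2 ^ 3 - 1 = 8 * n + 7 + 8 * u by omega]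
  constructor <;> linarith only [Nat.zero_le (n * u), _root_.mul_self_nonneg (↑n : ℤ), _root_.mul_self_nonneg (↑u : ℤ), _root_.Nat.cast_nonneg (α := ℤ) (n), _root_.Nat.cast_nonneg (α := ℤ) (u)]

theorem num3 {k e c s t : ℕ} (hk : 1 ≤ k) (hm : 3 ≤ k + e) (hc : 2 ^ (k + e) ≤ c + 1 * 2 ^ e)
    (hs : 2 * s + 3 * (k * k) ≤ 4 * k * (k + e) + k) (ht : t * c ≤ 2 * s) : t * 2 ^ (k + e) + 4 ≤ 8 * (k + e) := by
  rcases Nat.eq_zero_or_pos t with rfl | ht0
  · omega
  rcases eq_or_lt_of_le hk with rfl | hk2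
  · rw [add_comm 1 e, pow_succ] at *
    have h1 : t * 2 ^ e ≤ t * c := Nat.mul_le_mul_left t (by omega)
    rw [← mul_assoc]
    omega
  by_cases h7 : 7 ≤ k + e
  · have h1 := pow_seven h7
    have h2 : 4 * 2 ^ e ≤ 2 ^ (k + e) := by
      rw [pow_add]; exact Nat.mul_le_mul_right _ (Nat.pow_le_pow_right (n := 2) two_pos hk2)
    have h3 : c ≤ t * c := Nat.le_mul_of_pos_left c ht0
    have h4 : 12 * (2 * s) ≤ (4 * (k + e) + 1) * (4 * (k + e) + 1) := by
      zify at hs ⊢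
      linarith only [hs, sq_nonneg (4 * ((k : ℤ) + e) + 1 - 6 * k)]
    omega
  · have h1 : t * (2 ^ (k + e) - 2 ^ e) ≤ t * c := Nat.mul_le_mul_left t (by omega)
    have h2 : k ≤ 6 := by omega
    have h3 : e ≤ 4 := by omega
    clear hc
    interval_cases k <;> interval_cases e <;> first
      | exact absurd (by decide) h7
      | (simp only [Nat.reduceAdd, Nat.reducePow, Nat.reduceSub] at h1 ⊢; omega)

theorem num1 {k e c s t : ℕ} (hk : 2 ≤ k) (hm : 3 ≤ k + e) (hc : 2 ^ (k + e) ≤ c + (k + 1) * 2 ^ e)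
    (hs : 2 * s + k ≤ k * k) (ht : t * c ≤ 2 * s) : t * 2 ^ (k + e) + 4 ≤ 8 * (k + e) := by
  have h0 : k < 2 ^ k := Nat.lt_two_pow_self
  obtain ⟨r, hr⟩ : ∃ r, 2 ^ k = k + 1 + r := Nat.exists_eq_add_of_le h0
  rw [pow_add, hr, add_mul (k + 1)] at hc
  have h1 : t * (r * 2 ^ e) ≤ t * c := Nat.mul_le_mul_left t (by omega)
  rw [mul_left_comm] at h1
  rw [pow_add, mul_left_comm]
  generalize t * 2 ^ e = u at h1 ⊢
  by_cases h5 : 5 ≤ k
  · have h2 := pow_five h5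
    rcases Nat.eq_zero_or_pos u with rfl | hu
    · omega
    · have : r ≤ r * u := Nat.le_mul_of_pos_right r hu
      omega
  · have h2 : k ≤ 4 := by omega
    interval_cases k
    · obtain rfl : r = 1 := by omega
      omega
    · obtain rfl : r = 4 := by omega
      omega
    · obtain rfl : r = 11 := by omega
      omega

variable {m : ℕ}

/-! ### roots of type `B` -/

/-- the root combinatorics of type `B` -/
abbrev rB (m : ℕ) : RC (Fin m) (PR m) := (eC m).dual.rc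

theorem card_roots (S : Finset (PR m)) {k N e : ℕ} (h : ∀ b ∈ S, ps b.1.1 < k ∧ ps b.1.1 + e ≤ ps b.1.2 ∧ ps b.1.2 < N)
    (hk : k + e ≤ N + 1) : 2 * S.card + k * k + 2 * k * e ≤ 2 * k * N + k := by
  have h1 : S.card ≤ ((range k).sigma fun a => Ico (a + e) N).card :=
    card_le_card_of_injOn (fun b => ⟨ps b.1.1, ps b.1.2⟩) (fun b hb => by simpa only [and_assoc, _root_.Finset.coe_sigma, _root_.Finset.coe_range, _root_.Finset.coe_Ico, _root_.Set.mem_sigma_iff, _root_.Set.mem_Iio, _root_.Set.mem_Ico] using h b hb)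
      fun a _ b _ e => by
        simp only [Sigma.mk.injEq, heq_eq_eq] at e
        exact PR.ext' e.1 e.2
  simp only [card_sigma, Nat.card_Ico] at h1
  have := sum_aux N e k hk
  omega

theorem cf_pos (b : PR m) (K : Fin m) : 0 < (rB m).cf b K ↔ ps b.1.1 ≤ K ∧ ps b.1.2 + K + 1 < 2 * m := by
  have h1 := coC_eq b K
  have h2 := b.2
  have h3 := K.2
  rw [PS_cv, PS_wv, PS_wv] at h1
  show 0 < coC b K ↔ _
  omega

theorem cf_le (b : PR m) {K : Fin m} (hK : K.1 = 0) : (rB m).cf b K ≤ 1 := by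
  have h1 := coC_eq b K
  have h2 := b.2
  have h3 : ps b.1.1 = ps b.1.2 ∨ ps b.1.1 ≠ ps b.1.2 := em _
  rw [PS_cv, PS_wv, PS_wv] at h1
  show coC b K ≤ 1
  (clear * - hK h1; omega)

theorem pair_B (a b : PR m) :
    (rB m).pair ((rB m).wt (true, a)) (true, b) = xv (cv a) b.1.1 + xv (cv a) b.1.2 :=
  (Euc.pair_wt _ _).trans (rv_dot b _)

theorem pair_ge (z x : Bool × PR m) : -2 ≤ (rB m).pair ((rB m).wt z) x := by
  obtain ⟨a, b, -, h1, -⟩ := rt_exists x
  obtain ⟨c, d, -, -, h2⟩ := rt_exists z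
  have h3 : ∀ e, -1 ≤ xv ((eC m).cx z) e := fun e => by
    rw [h2]
    split_ifs with h
    · rw [xv_wv']; omega
    · rw [ps_eq] at h
      rw [xv_add, xv_wv', xv_wv']; omega
  rw [Euc.pair_wt]
  show -2 ≤ (eC m).rx x ⬝ᵥ (eC m).cx z
  rw [h1, add_dotProduct, wv_dot, wv_dot]
  have := h3 a
  have := h3 b
  omega

theorem nz {a b : PR m} (h : (rB m).pair ((rB m).wt (true, a)) (true, b) < 0) : (rB m).NZ 2 (true, b) (true, a) := by
  refine (rB m).nz_of_zero (by decide) ((rB m).isRt_add (by simp [ng]) h) fun ⟨z, hz⟩ => ?_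
  have h1 := pair_ge z (true, b)
  have h2 := (rB m).pair_string (true, b) (true, a) 1
  rw [one_smul, ← hz] at h2
  rw [RC.wt] at h1
  omega

theorem idl_add {S : Finset (PR m)} (hS : (rB m).Idl 2 S) {b β : PR m} (hb : b ∈ S)
    (h : (rB m).pair ((rB m).wt (true, b)) (true, β) < 0) : ∃ a ∈ S, cv a = cv β + cv b := by
  obtain ⟨z, hz⟩ := (nz h).1
  have h1 : z.1 = true := (rB m).pos_of_vec_ge fun j => by
    rw [hz, Pi.add_apply, RC.vec_true, RC.vec_true]; positivity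
  obtain ⟨t, a⟩ := z
  cases h1
  exact ⟨a, hS b hb β a ((rB m).cf_of_vec hz) (nz h), (eC m).dual.cf_add_iff'.1 ((rB m).cf_of_vec hz)⟩

/-- the radical of a maximal parabolic subalgebra -/
def rad (K : Fin m) : Finset (PR m) := univ.filter fun b => 0 < (rB m).cf b K

theorem mem_rad' {K : Fin m} {b : PR m} : b ∈ rad K ↔ 0 < (rB m).cf b K := by simp only [rad, _root_.Finset.mem_filter, _root_.Finset.mem_univ, _root_.true_and]

theorem mem_rad {K : Fin m} {b : PR m} : b ∈ rad K ↔ ps b.1.1 ≤ K ∧ ps b.1.2 + K + 1 < 2 * m :=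
  mem_rad'.trans (cf_pos b K)

theorem up_rad (K : Fin m) : (rB m).Up (rad K) := fun b hb β a n h => by
  rw [mem_rad'] at hb ⊢
  rw [h, Pi.add_apply]; omega

theorem zi_rad {K j : Fin m} (h : j ≠ K) : (rB m).zi j ∉ rad K := by
  rw [mem_rad', RC.cf_zi, Pi.single_eq_of_ne' h]; exact lt_irrefl _

theorem s_rad {K j : Fin m} (h : j ≠ K) (b : PR m) (hb : b ∈ rad K) : (rB m).s j b ∈ rad K := by
  have h1 := (rB m).cf_s j b (fun e => zi_rad h (e ▸ hb)) K
  rw [if_neg h.symm] at h1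
  rw [mem_rad'] at hb ⊢
  omega

/-- an abelian ideal lies in the radical of a maximal parabolic subalgebra -/
theorem exists_rad {S : Finset (PR m)} (h0 : S.Nonempty) (hA : (rB m).Ab 2 S) (hI : (rB m).Idl 2 S) :
    ∃ K, S ⊆ rad K := by
  obtain ⟨b0, hb0, hm⟩ := exists_max_image S (fun b => ps b.1.1) h0
  obtain ⟨K, hK⟩ := exists_inl b0.lt
  have h1 : ps b0.1.1 = K := by rw [hK]; rfl
  refine ⟨K, fun b hb => mem_rad.2 ⟨h1 ▸ hm b hb, ?_⟩⟩
  by_contra h2
  have h3 := b.2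
  have h4 := b0.2
  have h5 := K.2
  have h6 := ps_swap b.1.2
  by_cases h7 : ps b.1.2 + K + 1 = 2 * m
  · refine hA b hb b0 hb0 (nz ?_)
    simp only [pair_B, xv_cv, xv_wv']
    (clear * - h1 h7; omega)
  · obtain ⟨a, ha, h8⟩ := idl_add hI hb0 (β := ⟨(b.1.2.swap, inr K), by simp only [ps_inr]; omega⟩) (by
      simp only [pair_B, xv_cv, xv_wv', ps_inr]
      omega)
    refine hA b hb a ha (nz ?_)
    simp only [pair_B, h8, xv_add, xv_cv, xv_wv', ps_inr]
    omega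

/-- the root with the positions `p`, `q` lies in `S` -/
def In (S : Finset (PR m)) (p q : ℕ) : Prop := ∃ b ∈ S, ps b.1.1 = p ∧ ps b.1.2 = q

section inv

variable {S : Finset (PR m)} {K : Fin m} (hs : ∀ j, j ≠ K → ∀ b ∈ S, (rB m).s j b ∈ S)
include hs

theorem step {p q p' q' j : ℕ} (hj : j < m) (hK : j ≠ K) (h : In S p q)
    (h1 : p' = if p = j then j + 1 else if p = j + 1 then j else if p = 2 * m - 1 - j then 2 * m - 2 - j
      else if p = 2 * m - 2 - j then 2 * m - 1 - j else p)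
    (h2 : q' = if q = j then j + 1 else if q = j + 1 then j else if q = 2 * m - 1 - j then 2 * m - 2 - j
      else if q = 2 * m - 2 - j then 2 * m - 1 - j else q) (h3 : p' ≤ q' ∧ p' + q' + 1 < 2 * m) : In S p' q' := by
  obtain ⟨b, hb, rfl, rfl⟩ := h
  replace h1 : p' = ps (rI ⟨j, hj⟩ b.1.1) := h1.trans (ps_rI ⟨j, hj⟩ _).symm
  replace h2 : q' = ps (rI ⟨j, hj⟩ b.1.2) := h2.trans (ps_rI ⟨j, hj⟩ _).symm
  subst h1 h2
  have h4 := hs ⟨j, hj⟩ (Fin.ne_of_val_ne hK) b hb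
  rw [show (rB m).s ⟨j, hj⟩ b = ⟨(_, _), h3⟩ from dif_pos h3] at h4
  exact ⟨_, h4, rfl, rfl⟩

theorem stepA {p q : ℕ} (h1 : p < q) (h2 : q < m) (h3 : q ≠ K) : In S p q ↔ In S p (q + 1) :=
  ⟨fun h => step hs h2 h3 h (by (first | (lia; done) | (split_ifs <;> omega))) (by (first | (lia; done) | (split_ifs <;> omega))) (by omega),
    fun h => step hs h2 h3 h (by (first | (lia; done) | (split_ifs <;> omega))) (by (first | (lia; done) | (split_ifs <;> omega))) (by omega)⟩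

theorem stepB {p q : ℕ} (h1 : p + 1 < q) (h2 : q < m) (h3 : p ≠ K) : In S p q ↔ In S (p + 1) q :=
  ⟨fun h => step hs (j := p) (by omega) h3 h (by (first | (lia; done) | (split_ifs <;> omega))) (by (first | (lia; done) | (split_ifs <;> omega))) (by omega),
    fun h => step hs (j := p) (by omega) h3 h (by (first | (lia; done) | (split_ifs <;> omega))) (by (first | (lia; done) | (split_ifs <;> omega))) (by omega)⟩

theorem stepC {p : ℕ} (h1 : p + 1 < m) (h3 : p ≠ K) : In S p p ↔ In S (p + 1) (p + 1) :=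
  ⟨fun h => step hs (j := p) (by omega) h3 h (by (first | (lia; done) | (split_ifs <;> omega))) (by (first | (lia; done) | (split_ifs <;> omega))) (by omega),
    fun h => step hs (j := p) (by omega) h3 h (by (first | (lia; done) | (split_ifs <;> omega))) (by (first | (lia; done) | (split_ifs <;> omega))) (by omega)⟩

theorem all_plus {p q : ℕ} (h : In S p q) (h1 : p < q) (h2 : q ≤ K) {a b : ℕ} (h3 : a < b) (h4 : b ≤ K) : In S a b := by
  have hK := K.2
  have hA : ∀ p q : ℕ, p + 1 ≤ q → q < K → (In S p q ↔ In S p (q + 1)) := fun p q h h' => stepA hs h (by omega) (by omega)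
  refine chain (hA a) (a := K) (by omega) le_rfl h3 h4 ?_
  refine chain (P := fun p => In S p K) (lo := 0) (hi := K - 1) (fun p _ h => stepB hs (by omega) hK (by omega))
    (a := p) (by omega) (by omega) (by omega) (by omega) ?_
  exact chain (hA p) h1 h2 (by omega) le_rfl h

theorem all_short (hI : (rB m).Idl 2 S) {p q : ℕ} (h : In S p q) (h1 : p ≤ K) (h2 : ¬ (p < q ∧ q ≤ K)) {a : ℕ}
    (h3 : a ≤ K) : In S a a := by
  have hK := K.2
  refine chain (P := fun p => In S p p) (lo := 0) (hi := K) (fun p _ h => stepC hs (by omega) (by omega)) (a := p)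
    (by omega) h1 (by omega) h3 ?_
  have h4 : p ≤ q := by obtain ⟨b, -, rfl, rfl⟩ := h; exact b.2.1
  rcases eq_or_lt_of_le h4 with rfl | h4
  · exact h
  obtain ⟨q', h5, b, hb, rfl, rfl⟩ : ∃ q', m ≤ q' ∧ In S p q' := by
    by_cases h5 : m ≤ q
    · exact ⟨q, h5, h⟩
    · exact ⟨m, le_rfl, chain (P := In S p) (lo := K + 1) (hi := m) (fun q h h' => stepA hs (by omega) h' (by omega)) (a := q)
        (by omega) (by omega) hK le_rfl h⟩
  have h6 := ps_swap b.1.2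
  have h7 := b.2
  obtain ⟨a, ha, h8⟩ := idl_add hI hb (β := ⟨(b.1.2.swap, b.1.2.swap), by dsimp only; omega⟩) (by
    simp only [pair_B, xv_cv, xv_wv']
    omega)
  have h9 : a = ⟨(b.1.1, b.1.1), by dsimp only; omega⟩ := cv_inj (by
    rw [h8, cv, cv, cv, if_pos rfl, if_pos rfl, if_neg (by rw [ps_eq]; omega), wv_swap]
    abel)
  exact ⟨a, ha, by rw [h9], by rw [h9]⟩

end inv

/-! ### the weights of the spin module -/

/-- sign vectors -/
def sg (T : Finset (Fin m)) : Fin m → ℤ := fun i => if i ∈ T then -1 else 1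

/-- the weight of a sign vector -/
def tb (T : Finset (Fin m)) : Fin m → ℤ := fun i => (rv (zc i) ⬝ᵥ sg T) / 2

theorem xv_sg (T : Finset (Fin m)) (a : II m) : xv (sg T) a = 1 ∨ xv (sg T) a = -1 := by
  rcases a with i | i <;> simp only [xv, sg] <;> split_ifs <;> simp

theorem xv_sg_of {T : Finset (Fin m)} {a : II m} {i : Fin m} (h : ps a = i) : xv (sg T) a = -1 ↔ i ∈ T := by
  rw [ps_inj (b := inl i) h, xv_inl, sg]
  split_ifs with e <;> simp [e]

theorem isW_tb (T : Finset (Fin m)) : (eC m).dual.IsW 2 (tb T) (sg T) := fun i => by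
  show rv (zc i) ⬝ᵥ sg T = 2 * ((rv (zc i) ⬝ᵥ sg T) / 2)
  have h1 := xv_sg T (zc i).1.1
  have h2 := xv_sg T (zc i).1.2
  rw [rv_dot]
  omega

theorem tb_inj : Function.Injective (tb (m := m)) := fun T T' h => by
  have h1 := (isW_tb T).uniq (h ▸ isW_tb T')
  ext i
  have h2 := congrFun h1 i
  simp only [sg] at h2
  split_ifs at h2 with e e' e' <;> simp [e, e'] at h2 ⊢

theorem pair_tb (T : Finset (Fin m)) (b : PR m) :
    2 * (rB m).pair (tb T) (true, b) = xv (sg T) b.1.1 + xv (sg T) b.1.2 :=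
  ((isW_tb T).pair (true, b)).symm.trans (rv_dot b _)

theorem card_compl (K : Fin m) (U : Finset (Finset (Fin m))) :
    (univ.filter fun T : Finset (Fin m) => T ∩ Iic K ∈ U).card ≤ U.card * 2 ^ (m - 1 - K) := by
  rw [← Fin.card_Ioi, ← card_powerset, ← card_product]
  refine card_le_card_of_injOn (fun T => (T ∩ Iic K, T ∩ Ioi K)) (fun T hT => ?_) fun T _ T' _ e => ?_
  · exact mem_coe.2 (mem_product.2 ⟨(mem_filter.1 hT).2, mem_powerset.2 inter_subset_right⟩)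
  · ext i
    have h1 := Finset.ext_iff.1 (congrArg Prod.fst e) i
    have h2 := Finset.ext_iff.1 (congrArg Prod.snd e) i
    rcases le_or_gt i K with h | h
    · simpa [h] using h1
    · simpa only [h, _root_.Finset.mem_inter, _root_.Finset.mem_Ioi, _root_.and_true] using h2

section spin

variable {k L : Type} [Field k] [AddCommGroup L] [Module k L] (H : HW (rB m) 2 k L) (h : okL H.lam)
include h

theorem ext_iff {ν : Fin m → ℤ} : H.Ext ν ↔ ∃ T, ν = tb T := by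
  have h0 : (eC m).dual.IsW 2 H.lz (sg ∅) := fun i => by
    show rv (zc i) ⬝ᵥ sg ∅ = 2 * (H.lam i : ℤ)
    rw [rv_zc_dot]
    split_ifs with hi
    · simp [sg, h i hi]
    · obtain ⟨j, hj⟩ := H.exists_lam_pos
      have h1 : ¬ j.1 + 1 < m := fun e => hj.ne' (h j e)
      have h2 := H.lam_lt j
      rw [show i = j from Fin.ext (by omega), show H.lam j = 1 by omega]
      simp [sg]
  rw [bc_B.ext_iff H two_ne_zero h0]
  constructor
  · rintro ⟨π, ε, h1⟩
    refine ⟨univ.filter fun i => ε i = -1, h1.inj two_ne_zero ?_⟩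
    convert isW_tb _ using 1
    funext i
    rcases Int.units_eq_one_or (ε i) with e | e <;> simp only [sp, sg, e, _root_.Units.val_one, _root_.Finset.notMem_empty, ↓ _root_.reduceIte, _root_.mul_one, _root_.Finset.mem_filter, _root_.Finset.mem_univ, _root_.units_ne_neg_self, _root_.and_false, _root_.Units.val_neg, _root_.Int.reduceNeg, _root_.and_self]
  · rintro ⟨T, rfl⟩
    refine ⟨1, fun i => if i ∈ T then -1 else 1, ?_⟩
    convert isW_tb T using 1
    funext i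
    by_cases e : i ∈ T <;> simp only [sp, sg, e, ↓ _root_.reduceIte, _root_.Units.val_neg, _root_.Units.val_one, _root_.Int.reduceNeg, _root_.Equiv.Perm.coe_one, _root_.id_eq, _root_.Finset.notMem_empty, _root_.mul_one]

theorem ext_tb (T : Finset (Fin m)) : H.Ext (tb T) := (ext_iff H h).2 ⟨T, rfl⟩

theorem min : H.Min := fun b => by
  obtain ⟨T, hT⟩ := (ext_iff H h).1 H.ext_lz
  have h1 := pair_tb T b
  have h2 := xv_sg T b.1.1
  have h3 := xv_sg T b.1.2
  rw [hT]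
  omega

theorem le_d : 2 ^ m ≤ H.d := by
  have h1 := H.card_le_d (univ.image tb) fun μ hμ => by
    obtain ⟨T, -, rfl⟩ := mem_image.1 hμ
    exact (ext_tb H h T).isWt
  simpa only [card_image_of_injective _ tb_inj, _root_.ge_iff_le, _root_.Finset.card_univ, _root_.Fintype.card_finset, _root_.Fintype.card_fin] using h1

theorem faith (b : PR m) : H.E (true, b) 1 ≠ 0 := by
  have h1 : ∀ a, a = b.1.1 ∨ a = b.1.2 → xv (sg (univ.filter fun i => inl i = b.1.1 ∨ inl i = b.1.2)) a = -1 := by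
    rintro (i | i) ha
    · simp only [xv, sg, ha, _root_.Finset.mem_filter, _root_.Finset.mem_univ, _root_.and_self, ↓ _root_.reduceIte, _root_.Int.reduceNeg]
    · have h2 := b.2
      have h3 := i.2
      rw [xv_inr, sg, if_neg]
      simp only [mem_filter, mem_univ, true_and, ps_eq, ps_inl, ps_inr] at ha ⊢
      omega
  have h2 := pair_tb (univ.filter fun i => inl i = b.1.1 ∨ inl i = b.1.2) b
  rw [h1 _ (Or.inl rfl), h1 _ (Or.inr rfl)] at h2
  obtain ⟨v, hv, h0⟩ := H.isWt_iff.1 (ext_tb H h (univ.filter fun i => inl i = b.1.1 ∨ inl i = b.1.2)).isWt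
  exact fun e => h0 ((min H h).x.ext (ext_tb H h _) (x := (true, b)) (by omega) hv (by rw [e]; rfl))

theorem le_cL (S : Finset (PR m)) (K : Fin m) (U : Finset (Finset (Fin m)))
    (hU : ∀ T, T ∩ Iic K ∉ U → ∃ i ∈ T, ∃ j ∈ T, In S i j) : 2 ^ m ≤ H.cL S + U.card * 2 ^ (m - 1 - K) := by
  have h1 := (min H h).x.card_le_cL S ((univ.filter fun T : Finset (Fin m) => ¬ T ∩ Iic K ∈ U).image tb) fun ν hν => by
    obtain ⟨T, hT, rfl⟩ := mem_image.1 hν
    obtain ⟨i, hi, j, hj, b, hb, h1, h2⟩ := hU T (mem_filter.1 hT).2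
    have h3 := pair_tb T b
    rw [(xv_sg_of h1).2 hi, (xv_sg_of h2).2 hj] at h3
    exact ⟨ext_tb H h T, b, hb, by omega⟩
  have h2 := card_compl K U
  have h3 := card_filter_add_card_filter_not (s := univ) fun T : Finset (Fin m) => T ∩ Iic K ∈ U
  rw [card_image_of_injective _ tb_inj] at h1
  rw [card_univ, Fintype.card_finset, Fintype.card_fin] at h3
  omega

theorem cG_le {K : Fin m} (hK : K.1 = 0) : H.cG (rad K) ≤ 2 ^ (m - 1) := by
  refine ((min H h).cG_le _ ((univ.erase K).powerset.image fun T => tb (insert K T)) ?_).trans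
    (card_image_le.trans (by simp only [_root_.Finset.card_powerset, _root_.Finset.mem_univ, _root_.Finset.card_erase_of_mem, _root_.Finset.card_univ, _root_.Fintype.card_fin, _root_.Std.le_refl]))
  rintro μ hμ ⟨b, hb, h1⟩
  obtain ⟨T, rfl⟩ := (ext_iff H h).1 hμ
  have h2 := pair_tb T b
  have h3 := xv_sg T b.1.1
  have h4 := xv_sg T b.1.2
  have h5 : K ∈ T := (xv_sg_of (a := b.1.1) (by have := (mem_rad.1 hb).1; omega)).1 (by omega)
  exact mem_image.2 ⟨T.erase K, mem_powerset.2 (erase_subset_erase _ (subset_univ _)), by rw [insert_erase h5]⟩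

theorem cubic {K : Fin m} (hK : K.1 = 0) : ∀ a ∈ rad K, ∀ b ∈ rad K, ∀ c ∈ rad K, ∀ l r n, 0 < l → 0 < r → 0 < n →
    H.E (true, a) l * H.E (true, b) r * H.E (true, c) n = 0 := by
  let θ : PR m := ⟨(inl K, inl K), by have := K.2; simp only [ps]; omega⟩
  have h1 : ∀ a ∈ rad K, (rB m).pair ((rB m).wt (true, a)) (true, θ) = 2 := fun a ha => by
    have h2 := mem_rad.1 ha
    have h3 := a.2
    simp only [pair_B, θ, xv_cv, xv_wv', ps_inl]
    omega
  refine H.cubic_of_wt _ fun a ha b hb c hc l r n hl hr hn μ hμ h2 => ?_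
  have h3 := (min H h).pair_le h2 (true, θ)
  have h4 := (min H h).pair_le hμ (false, θ)
  simp only [RC.pair_add, RC.pair_smul, h1 a ha, h1 b hb, h1 c hc] at h3
  rw [RC.pair_false] at h4
  omega

end spin

theorem card_rad {K : Fin m} (hK : K.1 = 0) : 2 * m - 1 ≤ (rad K).card := by
  have h1 : (univ.erase (inr K : II m)).card ≤ (rad K).card := by
    refine card_le_card_of_surjOn (fun b => b.1.2) fun c hc => ?_
    have h2 : ps c ≠ ps (inr K : II m) := fun e => (mem_erase.1 hc).1 (ps_inj e)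
    have h3 := ps_lt c
    rw [ps_inr] at h2
    exact ⟨⟨(inl K, c), by simp only [ps_inl]; omega⟩, mem_coe.2 (mem_rad.2 (by simp only [ps_inl]; omega)), rfl⟩
  simpa only [two_mul, _root_.tsub_le_iff_right, _root_.ge_iff_le, _root_.Finset.mem_univ, _root_.Finset.card_erase_of_mem, _root_.Finset.card_univ, _root_.Fintype.card_sum, _root_.Fintype.card_fin] using h1

/-- the lower bound for the codimension -/
theorem key (hm : 3 ≤ m) {S : Finset (PR m)} {K : Fin m} (h0 : S.Nonempty) (hS : S ⊆ rad K) (hI : (rB m).Idl 2 S)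
    (hs : ∀ j, j ≠ K → ∀ b ∈ S, (rB m).s j b ∈ S) : ∃ c, (∀ t, t * c ≤ 2 * S.card → t * 2 ^ m + 4 ≤ 8 * m) ∧
      ∀ (k L : Type) [Field k] [AddCommGroup L] [Module k L] (H : HW (rB m) 2 k L), okL H.lam → c ≤ H.cL S := by
  have hK := K.2
  obtain ⟨e, he⟩ : ∃ e, m = K + 1 + e := ⟨m - 1 - K, by omega⟩
  have he' : m - 1 - K = e := by omega
  by_cases h1 : ∀ b ∈ S, ps b.1.1 < ps b.1.2 ∧ ps b.1.2 ≤ K
  · obtain ⟨b, hb⟩ := h0
    have h2 := card_roots S (k := K + 1) (N := K + 1) (e := 1) (fun b hb => by have := h1 b hb; omega) le_rfl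
    have h3 := h1 b hb
    refine ⟨2 ^ m - (K + 1 + 1) * 2 ^ e, fun t ht => ?_, fun k L _ _ _ H h => ?_⟩
    · have h4 := num1 (k := K + 1) (e := e) (by omega) (by omega) (by rw [← he]; omega) (by linarith only [h2]) ht
      rwa [← he] at h4
    · have h4 := le_cL H h S K (insert ∅ ((Iic K).image singleton)) fun T hT => by
        obtain ⟨i, j, hi, hj, hij⟩ : ∃ i j, i ∈ T ∩ Iic K ∧ j ∈ T ∩ Iic K ∧ i ≠ j := by
          refine one_lt_card_iff.1 (lt_of_not_ge fun h5 => hT ?_)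
          rcases eq_empty_or_nonempty (T ∩ Iic K) with h6 | ⟨i, hi⟩
          · rw [h6]; exact mem_insert_self _ _
          · exact mem_insert_of_mem (mem_image.2 ⟨i, (mem_inter.1 hi).2,
              (eq_singleton_iff_unique_mem.2 ⟨hi, fun j hj => card_le_one.1 h5 j hj i hi⟩).symm⟩)
        rw [mem_inter, mem_Iic] at hi hj
        rcases lt_or_gt_of_ne hij with h5 | h5
        · exact ⟨i, hi.1, j, hj.1, all_plus hs ⟨b, hb, rfl, rfl⟩ h3.1 h3.2 h5 hj.2⟩
        · exact ⟨j, hj.1, i, hi.1, all_plus hs ⟨b, hb, rfl, rfl⟩ h3.1 h3.2 h5 hi.2⟩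
      have h5 : (insert ∅ ((Iic K).image singleton) : Finset (Finset (Fin m))).card ≤ K + 1 + 1 :=
        (card_insert_le _ _).trans (Nat.succ_le_succ (card_image_le.trans (Fin.card_Iic K).le))
      have h6 := Nat.mul_le_mul_right (2 ^ e) h5
      rw [he'] at h4
      omega
  · simp only [not_forall] at h1
    obtain ⟨b, hb, h1⟩ := h1
    have h2 := card_roots S (k := K + 1) (N := K + 1 + 2 * e) (e := 0) (fun b hb => by
      have := mem_rad.1 (hS hb); have := b.2; omega) (by omega)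
    refine ⟨2 ^ m - 1 * 2 ^ e, fun t ht => ?_, fun k L _ _ _ H h => ?_⟩
    · have h4 := num3 (k := K + 1) (e := e) (by omega) (by omega) (by rw [← he]; omega) (by linarith only [h2]) ht
      rwa [← he] at h4
    · have h4 := le_cL H h S K {∅} fun T hT => by
        obtain ⟨i, hi⟩ := nonempty_iff_ne_empty.2 fun e => hT (mem_singleton.2 e)
        rw [mem_inter, mem_Iic] at hi
        exact ⟨i, hi.1, i, hi.1, all_short hs hI ⟨b, hb, rfl, rfl⟩ (mem_rad.1 (hS hb)).1 h1 hi.2⟩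
      rw [he', card_singleton] at h4
      omega

end Spin

open Spin in
/-- **type `B`, characteristic two, spin modules** -/
theorem boxSpin : BoxSpin := by
  rintro m hm k G _ _ _ ⟨D, R, h1, h2, h3, h4, h5, h6, cm, h8⟩ rfl
  refine ⟨fun L _ _ H h => Spin.faith H h, fun σ F hok hT S h0 hA hI hv => ?_,
    fun _ σ J _ _ L _ _ H rep hok S _ _ sl hsl _ hle => ?_⟩
  · obtain ⟨K, hK⟩ := exists_rad h0 hA hI
    obtain ⟨S', hS, h0', hI', hv', hs⟩ := hT (rad K) (up_rad K) ⟨S, hK, h0, hv⟩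
    obtain ⟨c, hc, hc'⟩ := key hm h0' hS hI' fun j hj => hs j (zi_rad hj) (s_rad hj)
    have hp : 2 ^ m = 2 * 2 ^ (m - 1) := by rw [← pow_succ', Nat.sub_add_cancel (by omega)]
    have hd : ∀ j, F.dbl j = false := fun j => by
      by_contra hj
      have e1 := (single_le_sum (fun _ _ => Nat.zero_le _) (mem_univ j)).trans hv'
      rw [if_pos (by simpa using hj)] at e1
      have e2 := Nat.mul_le_mul (hc' k _ (F.H j) (hok j)) (show 2 ^ m ≤ 2 * (F.H j).d - (F.H j).cL S' by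
        have := le_d (F.H j) (hok j); have := (F.H j).cL_le_d S'; omega)
      have e3 := hc (2 ^ (m - 1)) (by rw [hp] at e2; linarith only [e1, e2])
      have e4 := (pow_three hm).2
      omega
    have ht := hc (Fintype.card F.J) (by
      have e1 : ∑ _j : F.J, 2 * c ≤ F.val S' := sum_le_sum fun j _ => by
        rw [if_neg (by simp [hd j])]; exact Nat.mul_le_mul_left 2 (hc' k _ (F.H j) (hok j))
      rw [sum_const, card_univ, smul_eq_mul, mul_left_comm] at e1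
      omega)
    let K0 : Fin m := ⟨0, by omega⟩
    have e0 := card_rad (K := K0) rfl
    refine ⟨rad K0, card_pos.1 (by omega), fun b hb => hb, fun b hb b' hb' s t => ?_,
      fun j _ => cubic (F.H j) (hok j) rfl, fun j hj => by simp [hd j] at hj, ?_⟩
    · have e1 := cm b b' s t
      rw [Set.eq_empty_of_forall_notMem (s := Set.ofPred _), Subgroup.closure_empty, Subgroup.mem_bot] at e1
      · exact commutatorElement_eq_one_iff_commute.1 e1
      · rintro _ ⟨a, u, ⟨r, n, hr, hn, e2⟩, -⟩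
        have e3 := congrFun e2 K0
        have e4 := cf_le a (K := K0) rfl
        have e5 := Nat.mul_pos hr (mem_rad'.1 hb)
        have e6 := Nat.mul_pos hn (mem_rad'.1 hb')
        simp only [Pi.add_apply, Pi.smul_apply, smul_eq_mul, rB] at e3 e4 e5 e6
        omega
    · have e1 : F.valG (rad K0) ≤ ∑ _j : F.J, 2 ^ m := sum_le_sum fun j _ => by
        rw [if_neg (by simp [hd j]), hp]; exact Nat.mul_le_mul_left 2 (cG_le (F.H j) (hok j) rfl)
      rw [sum_const, card_univ, smul_eq_mul] at e1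
      omega
  · exfalso
    obtain ⟨j⟩ := ‹Nonempty J›
    have e1 := (single_le_sum (fun _ _ => Nat.zero_le _) (mem_univ j)).trans hle
    have e2 := le_d (H j) (hok j)
    have e3 := Nat.mul_le_mul e2 (Nat.sub_le_sub_right e2 1)
    obtain ⟨n, hn⟩ : ∃ n, 2 * m = n + 1 := ⟨2 * m - 1, by omega⟩
    have e4 := card_roots S (k := m) (N := n) (e := 0) (fun b _ => by have := b.2; omega) (by omega)
    have e5 := (pow_three hm).1
    have e6 : 2 * m * n + 2 * m = 4 * (m * m) := by rw [← mul_add_one, ← hn]; ring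
    omega

end Cfsg.Agent.TwoF.DC.TC
end

-- part: TwoF/DC/TC/Sp4A
section
/-!
# TwoF, defining characteristic, `Sp_4(2^f)` (1): patterns and the graph automorphism (helper62)
-/

set_option autoImplicit false
set_option linter.unusedSectionVars false
set_option linter.unusedVariables false
set_option maxHeartbeats 400000

namespace Cfsg.Agent.TwoF.DC.TC.S4

open Module Finset Cfsg.Agent.H45.Uni Cfsg.Agent.H45.UniE Cfsg.Agent.TwoF.Gen

variable [hp : Fact (Nat.Prime 2)] {Φ k G : Type} [Fintype Φ] [DecidableEq Φ] [Field k] [IsAlgClosed k] [CharP k 2]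
  [Group G] {D : RDat 2 (Fin 2) Φ k G} {T S : Type} [Group T] [Finite T] [Group S]

/-- the highest weight of the natural module -/
def w1 : Fin 2 → ℕ := Pi.single 0 1

theorem w1_lt (i : Fin 2) : w1 i < 2 := by revert i; decide

theorem w1_ne : w1 ≠ 0 := by decide

theorem eq_w1 {ν : Fin 2 → ℕ} (h0 : ν 0 = 1) (h1 : ν 1 = 0) : ν = w1 := funext (Fin.forall_fin_two.2 ⟨h0, h1⟩)

/-- the fixed vectors in the natural module -/
noncomputable def F1 (M : Std D T S) (B : Subgroup T) : ℕ := finrank k (fx (ρc D w1) (B.map M.φ))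

/-- the data of `Sp_4(2^f)` with its graph automorphism -/
structure G4 (M : Std D T S) (C : Can D) (θ : MulAut T) : Prop where
  cfa : C.Fa
  deg1 : Deg1 D
  pow : M.Pow C
  triv : ∀ γ : M.Gr, γ = 1
  two : 2 ≤ M.f
  Δ0 : ∀ s, D.Δ 0 (M.φ (θ s)) = D.Δ 1 (M.φ s)
  sq : ∀ s, M.φ (θ (θ s)) = M.Fr (M.φ s)
  thU : ∀ u ∈ M.E.U, θ u ∈ M.E.U
  aut : ∀ β : MulAut T, ∃ (s : T) (i : ℕ), β = MulAut.conj s * θ ^ i
  d1 : dd D w1 = 4
  ab : ∀ Sg : Finset Φ, D.R.Ab 2 Sg → Sg.card ≤ 3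
  u1 : ∀ Sg : Finset Φ, Sg.Nonempty → C.u w1 Sg ≤ 3
  u2 : ∀ Sg : Finset Φ, 2 ≤ Sg.card → C.u w1 Sg ≤ 2
  cen : ∃ x ∈ M.E.U, (∀ u ∈ M.E.U, u * x = x * u) ∧ θ (θ x) = x ∧ θ x ≠ x
  zz : ∃ Z : Subgroup T, IsElementaryAbelian 2 Z ∧ 2 ^ (2 * M.f) ≤ Nat.card Z ∧ 2 ≤ F1 M Z ∧
    2 ≤ F1 M (Z.map θ.toMonoidHom)

variable (M : Std D T S)

/-- the action of the graph automorphism on patterns -/
def ta (n : Fin M.f → Fin 2 → ℕ) : Fin M.f → Fin 2 → ℕ := fun a i => if i = 0 then n a 1 else n (M.pos (a + 1)) 0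

theorem ta_zero (n : Fin M.f → Fin 2 → ℕ) (a : Fin M.f) : ta M n a 0 = n a 1 := rfl

theorem ta_one (n : Fin M.f → Fin 2 → ℕ) (a : Fin M.f) : ta M n a 1 = n (M.rot 1 a) 0 := rfl

theorem ta_mem {n : Fin M.f → Fin 2 → ℕ} (hn : n ∈ M.pats) : ta M n ∈ M.pats :=
  M.mem_pats.2 fun a => Fin.forall_fin_two.2 ⟨M.mem_pats.1 hn _ _, M.mem_pats.1 hn _ _⟩

/-- the number of factors -/
def tt (n : Fin M.f → Fin 2 → ℕ) : ℕ := ∑ a, n a 0 + ∑ a, n a 1

theorem tt_ta (n : Fin M.f → Fin 2 → ℕ) : tt M (ta M n) = tt M n := by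
  rw [tt, tt, add_comm]
  exact congrArg (· + _) (Equiv.sum_comp (M.rot 1) fun a => n a 0)

theorem tt_pos {n : Fin M.f → Fin 2 → ℕ} (h : n ≠ 0) : 0 < tt M n := by
  by_contra h0
  have h1 : ∑ a, n a 0 = 0 ∧ ∑ a, n a 1 = 0 := by rw [tt] at h0; omega
  rw [Finset.sum_eq_zero_iff, Finset.sum_eq_zero_iff] at h1
  exact h (funext fun a => funext (Fin.forall_fin_two.2 ⟨h1.1 a (mem_univ a), h1.2 a (mem_univ a)⟩))

theorem single_mem (a : Fin M.f) {ν : Fin 2 → ℕ} (h : ∀ i, ν i < 2) : (Pi.single a ν : Fin M.f → Fin 2 → ℕ) ∈ M.pats :=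
  M.mem_pats.2 fun c i => by
    by_cases hc : c = a
    · rw [hc, Pi.single_eq_same]; exact h i
    · rw [Pi.single_eq_of_ne hc]; exact two_pos

theorem Dn_single (a : Fin M.f) (ν : Fin 2 → ℕ) : M.Dn (Pi.single a ν) = dd D ν := by
  rw [Std.Dn, Finset.prod_eq_single a (fun c _ hc => by rw [Pi.single_eq_of_ne hc, dd_zero]) (by simp only [_root_.Finset.mem_univ, _root_.not_true_eq_false, _root_.Pi.single_eq_same, _root_.IsEmpty.forall_iff]),
    Pi.single_eq_same]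

theorem F1_conj (g : T) (B : Subgroup T) : F1 M (B.map (MulAut.conj g).toMonoidHom) = F1 M B := by
  rw [F1, F1, ← fx_comp M.φ, ← fx_comp M.φ, fx_conj, finrank_map_rho]

namespace G4

variable {M} {C : Can D} {θ : MulAut T} (H : G4 M C θ)

include H

theorem act_eq (γ : M.Gr) (j : ℕ) (n : Fin M.f → Fin 2 → ℕ) (a : Fin M.f) : M.act γ j n a = n (M.rot j a) := by
  rw [M.act_apply', H.triv (_ * _), M.comp_gι_one, M.rot_apply]

theorem ta_ta (n : Fin M.f → Fin 2 → ℕ) : ta M (ta M n) = M.act 1 1 n :=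
  funext fun a => by rw [H.act_eq]; exact funext (Fin.forall_fin_two.2 ⟨rfl, rfl⟩)

theorem ta_inj : Function.Injective (ta M) := fun n n' e =>
  M.act_inj (Commute.one_left _) 1 (by rw [← H.ta_ta, e, H.ta_ta])

theorem rot_ne (a : Fin M.f) : M.rot 1 a ≠ a := fun e => by
  have h1 : (a + 1) % M.f = a := congrArg Fin.val e
  have h2 := H.two
  have h3 := a.2
  rcases Nat.lt_or_ge (a + 1) M.f with h | h
  · rw [Nat.mod_eq_of_lt h] at h1; omega
  · rw [show (a : ℕ) + 1 = M.f by omega, Nat.mod_self] at h1; omega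

theorem iter_eq (m : ℕ) (s : T) : M.Fr^[m] (M.φ s) = M.Fr^[m % M.f] (M.φ s) := by
  rw [M.iter_eq m, H.triv (_⁻¹), M.gr_one]

theorem φ_pow (j : ℕ) (s : T) : M.φ ((θ ^ (2 * j)) s) = M.Fr^[j] (M.φ s) := by
  induction j with
  | zero => rfl
  | succ j ih =>
    rw [mul_add, mul_one, add_comm, pow_add, pow_two, MulAut.mul_apply, MulAut.mul_apply, H.sq, ih,
      Function.iterate_succ_apply']

theorem cP_ta (n : Fin M.f → Fin 2 → ℕ) (s : T) : M.cP (ta M n) (M.ΦT (θ s)) = M.cP n (M.ΦT s) := by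
  have h1 : ∀ a : Fin M.f, D.Δ 0 (M.ΦT (θ s) a) = D.Δ 1 (M.ΦT s a) := fun a => by
    rw [M.ΦT_apply, M.ΦT_apply, M.Δ_iter, M.Δ_iter, H.Δ0]
  have h2 : ∀ a : Fin M.f, D.Δ 1 (M.ΦT (θ s) a) = D.Δ 0 (M.ΦT s (M.rot 1 a)) := fun a => by
    rw [M.ΦT_apply, M.ΦT_apply, M.Δ_iter, ← H.Δ0, H.sq, ← M.Δ_iter, ← Function.iterate_succ_apply, H.iter_eq]
    rfl
  simp only [Std.cP, FDat.cc, Fin.prod_univ_two, Finset.prod_mul_distrib, h1, h2, ta_zero, ta_one]
  rw [mul_comm, Equiv.prod_comp (M.rot 1) fun a => D.Δ 0 (M.ΦT s a) ^ n a 0]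

theorem trf {n : Fin M.f → Fin 2 → ℕ} (hn : n ∈ M.pats) : Trf M M θ n (ta M n) :=
  trf_of H.cfa H.pow H.cfa H.pow hn (ta_mem M hn) (H.cP_ta n)

theorem Dn_ta {n : Fin M.f → Fin 2 → ℕ} (hn : n ∈ M.pats) : M.Dn (ta M n) = M.Dn n :=
  (H.pow.dim _ (ta_mem M hn)).symm.trans ((H.trf hn).dim.symm.trans (H.pow.dim _ hn))

theorem ta_single (a : Fin M.f) {ν : Fin 2 → ℕ} (h : ν 1 = 1) : ta M (Pi.single a ν) a = w1 :=
  eq_w1 (by rw [ta_zero, Pi.single_eq_same, h]) (by rw [ta_one, Pi.single_eq_of_ne (H.rot_ne a)]; rfl)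

theorem dd_two {ν : Fin 2 → ℕ} (h : ν 0 + ν 1 ≤ 1) : dd D ν = 4 ^ (ν 0 + ν 1) := by
  rcases Nat.eq_zero_or_pos (ν 1) with h1 | h1
  · rcases Nat.eq_zero_or_pos (ν 0) with h0 | h0
    · rw [show ν = 0 from funext (Fin.forall_fin_two.2 ⟨h0, h1⟩), dd_zero]; rfl
    · rw [eq_w1 (show ν 0 = 1 by omega) h1, H.d1]; rfl
  · have h2 : ν 1 = 1 := by omega
    have h0 : ν 0 = 0 := by omega
    have h3 : ta M (Pi.single M.z0 ν) = Pi.single M.z0 w1 := funext fun c => by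
      by_cases hc : c = M.z0
      · rw [hc, H.ta_single _ h2, Pi.single_eq_same]
      · rw [Pi.single_eq_of_ne hc]
        refine funext (Fin.forall_fin_two.2 ⟨by rw [ta_zero, Pi.single_eq_of_ne hc]; rfl, ?_⟩)
        rw [ta_one, Pi.single_apply]
        split_ifs
        · exact h0
        · rfl
    rw [← Dn_single M M.z0, ← H.Dn_ta (single_mem M _ (Fin.forall_fin_two.2 ⟨by omega, by omega⟩)), h3, Dn_single,
      H.d1, h0, h2]
    rfl

theorem Dn_of {n : Fin M.f → Fin 2 → ℕ} (h : ∀ a, dd D (n a) = 4 ^ (n a 0 + n a 1)) : M.Dn n = 4 ^ tt M n := by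
  rw [Std.Dn, Finset.prod_congr rfl fun a _ => h a, Finset.prod_pow_eq_pow_sum, Finset.sum_add_distrib, tt]

theorem dd_eq {ν : Fin 2 → ℕ} (h : ∀ i, ν i < 2) : dd D ν = 4 ^ (ν 0 + ν 1) := by
  have h0 := h 0
  have h1 := h 1
  by_cases h2 : ν 0 + ν 1 ≤ 1
  · exact H.dd_two h2
  rw [← Dn_single M M.z0, ← H.Dn_ta (single_mem M _ h), H.Dn_of fun c => H.dd_two ?_, tt_ta, tt,
    Finset.sum_eq_single M.z0 (fun c _ hc => by rw [Pi.single_eq_of_ne hc]; rfl) (by simp only [_root_.Finset.mem_univ, _root_.not_true_eq_false, _root_.Fin.isValue, _root_.Pi.single_eq_same, _root_.IsEmpty.forall_iff]),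
    Finset.sum_eq_single M.z0 (fun c _ hc => by rw [Pi.single_eq_of_ne hc]; rfl) (by simp only [_root_.Finset.mem_univ, _root_.not_true_eq_false, _root_.Fin.isValue, _root_.Pi.single_eq_same, _root_.IsEmpty.forall_iff]), Pi.single_eq_same]
  rw [ta_zero, ta_one]
  by_cases hc : c = M.z0
  · rw [hc, Pi.single_eq_same, Pi.single_eq_of_ne (H.rot_ne _), Pi.zero_apply]; omega
  · rw [Pi.single_eq_of_ne hc, Pi.single_apply, Pi.zero_apply]
    split_ifs
    · omega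
    · exact Nat.zero_le _

theorem Dn_eq {n : Fin M.f → Fin 2 → ℕ} (hn : n ∈ M.pats) : M.Dn n = 4 ^ tt M n :=
  H.Dn_of fun a => H.dd_eq (M.mem_pats.1 hn a)

/-! ### fixed vectors -/

theorem fix_w1 {n : Fin M.f → Fin 2 → ℕ} (hn : n ∈ M.pats) {a : Fin M.f} (ha : n a = w1) {B : Subgroup T}
    (hB : IsPGroup 2 B) : 4 * finrank k (M.fxW n B) ≤ F1 M B * M.Dn n := by
  have h := fxW_le_mul C M hn hB a
  rw [Std.Dn, ← Finset.mul_prod_erase _ _ (mem_univ a), ha, H.d1, mul_left_comm]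
  rw [ha] at h
  exact Nat.mul_le_mul_left 4 h

theorem fix_le {n : Fin M.f → Fin 2 → ℕ} (hn : n ∈ M.pats) (h0 : n ≠ 0) {B : Subgroup T} (hB : IsPGroup 2 B) {x : ℕ}
    (h1 : F1 M B ≤ x) (h2 : F1 M (B.map θ.toMonoidHom) ≤ x) : 4 * finrank k (M.fxW n B) ≤ x * M.Dn n := by
  obtain ⟨a, ha⟩ := Function.ne_iff.1 h0
  have h3 := M.mem_pats.1 hn a
  by_cases h4 : n a 1 = 0
  · refine (H.fix_w1 hn (a := a) (eq_w1 ?_ h4) hB).trans (Nat.mul_le_mul_right _ h1)
    by_contra h5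
    exact ha (funext (Fin.forall_fin_two.2 ⟨by have := h3 0; show n a 0 = 0; omega, h4⟩))
  have h5 := single_mem M a h3
  have h6 := H.fix_w1 (ta_mem M h5) (H.ta_single a (by have := h3 1; omega)) (hB.map θ.toMonoidHom)
  rw [← (H.trf h5).fix, H.Dn_ta h5, Dn_single, (H.pow.single a _ h3 B).1] at h6
  refine (Nat.mul_le_mul_left 4 (fxW_le_mul C M hn hB a)).trans ?_
  rw [Std.Dn, ← Finset.mul_prod_erase _ _ (mem_univ a), ← mul_assoc, ← mul_assoc]
  exact Nat.mul_le_mul_right _ (h6.trans (Nat.mul_le_mul_right _ h2))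

theorem F1_le {B : Subgroup T} (hB : IsElementaryAbelian 2 B) {r : ℕ} (hr : Nat.card B = 2 ^ r) :
    r ≤ 3 * M.f ∧ (0 < r → F1 M B ≤ 3) ∧ (M.f < r → F1 M B ≤ 2) := by
  obtain ⟨g, hg⟩ := M.exists_conj_U (elemAb_isPGroup hB)
  obtain ⟨Sg, h1, h2, h3⟩ := H.pow.inner H.cfa (B.map (MulAut.conj g).toMonoidHom)
    (by rintro _ ⟨x, hx, rfl⟩; exact hg x hx) fun x hx y hy => elemAb_comm (elemAb_map hB _) hx hy
  rw [card_map_conj, hr, Nat.pow_le_pow_iff_right one_lt_two] at h1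
  have h4 : ∀ a, F1 M B ≤ C.u w1 (Sg a) := fun a => by
    have h5 := h3 _ (single_mem M a w1_lt)
    rwa [(H.pow.single a _ w1_lt _).1, Finset.prod_eq_single a (fun c _ hc => by
      rw [Pi.single_eq_of_ne hc, C.u_zero]) (by simp only [_root_.Finset.mem_univ, _root_.not_true_eq_false, _root_.Pi.single_eq_same, _root_.IsEmpty.forall_iff]), Pi.single_eq_same, ← F1, F1_conj] at h5
  have h5 : ∀ c, (∀ a, (Sg a).card ≤ c) → r ≤ c * M.f := fun c hc => h1.trans (by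
    simpa only [mul_comm, _root_.Finset.card_univ, _root_.Fintype.card_fin, _root_.smul_eq_mul] using Finset.sum_le_card_nsmul univ (fun a => (Sg a).card) c fun a _ => hc a)
  refine ⟨h5 3 fun a => H.ab _ (h2 a).1, fun h => ?_, fun h => ?_⟩
  · by_contra h6
    have h7 := h5 0 fun a => by
      by_contra h8
      exact h6 ((h4 a).trans (H.u1 _ (Finset.card_pos.1 (by omega))))
    omega
  · by_contra h6
    have h7 := h5 1 fun a => by
      by_contra h8
      exact h6 ((h4 a).trans (H.u2 _ (by omega)))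
    omega

theorem two_le_fix {n : Fin M.f → Fin 2 → ℕ} (hn : n ∈ M.pats) (h : tt M n = 1) {B : Subgroup T} (h1 : 2 ≤ F1 M B)
    (h2 : 2 ≤ F1 M (B.map θ.toMonoidHom)) : 2 ≤ finrank k (M.fxW n B) := by
  have key : ∀ n ∈ M.pats, ∑ a, n a 0 = 1 → ∑ a, n a 1 = 0 → ∀ B, finrank k (M.fxW n B) = F1 M B := by
    intro n hn h3 h4 B
    obtain ⟨a, -, ha⟩ := Finset.exists_ne_zero_of_sum_ne_zero (h3 ▸ one_ne_zero)
    rw [Finset.sum_eq_zero_iff] at h4
    rw [← Finset.add_sum_erase _ _ (mem_univ a)] at h3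
    have h5 : ∑ c ∈ univ.erase a, n c 0 = 0 := by omega
    rw [Finset.sum_eq_zero_iff] at h5
    have h6 : n = Pi.single a w1 := funext fun c => by
      by_cases hc : c = a
      · rw [hc, Pi.single_eq_same]
        exact eq_w1 (by have := M.mem_pats.1 hn a 0; omega) (h4 a (mem_univ a))
      · rw [Pi.single_eq_of_ne hc]
        exact funext (Fin.forall_fin_two.2 ⟨h5 c (mem_erase.2 ⟨hc, mem_univ c⟩), h4 c (mem_univ c)⟩)
    rw [h6]
    exact (H.pow.single a _ w1_lt B).1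
  rw [tt] at h
  rcases Nat.eq_zero_or_pos (∑ a, n a 1) with h3 | h3
  · rwa [key n hn (by omega) h3]
  · rwa [(H.trf hn).fix, key _ (ta_mem M hn) (show ∑ a, n a 1 = 1 by omega)
      ((Equiv.sum_comp (M.rot 1) fun a => n a 0).trans (by omega))]

/-! ### modules -/

variable {Y U : Type} [Group Y] [Finite Y] [AddCommGroup U] [Module k U] {ρ : Representation k Y U} {ψ : T →* Y}
  {irrK : Prop} (X : Cty M C ρ ψ irrK)

include X

theorem cod_ge {B : Subgroup T} (hB : IsPGroup 2 B) {x c : ℕ} (hx : x + c = 4) (h1 : F1 M B ≤ x)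
    (h2 : F1 M (B.map θ.toMonoidHom) ≤ x) : c * finrank k U ≤ 4 * cod ρ (B.map ψ) := by
  rw [X.cod_eq, X.finrank_U', Finset.mul_sum, Finset.mul_sum]
  refine Finset.sum_le_sum fun n hn => ?_
  have h3 := H.fix_le (Cty.pats hn) (X.ne_zero hn) hB h1 h2
  rw [mul_left_comm, mul_left_comm 4]
  refine Nat.mul_le_mul_left _ ?_
  have h4 : x * M.Dn n + c * M.Dn n = 4 * M.Dn n := by rw [← add_mul, hx]
  omega

/-- **large modules** -/
theorem cod_big (h : 16 * M.f ≤ finrank k U) {B : Subgroup T} (hB : IsElementaryAbelian 2 B) {r : ℕ} (h0 : 0 < r)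
    (hr : Nat.card B = 2 ^ r) : 2 * r + 4 ≤ cod ρ (B.map ψ) := by
  obtain ⟨h1, h2, h3⟩ := H.F1_le hB hr
  obtain ⟨-, h4, h5⟩ := H.F1_le (elemAb_map hB θ.toMonoidHom)
    ((Subgroup.card_map_of_injective θ.injective).trans hr)
  have h6 := H.two
  rcases Nat.lt_or_ge M.f r with h7 | h7
  · have := H.cod_ge X (elemAb_isPGroup hB) (c := 2) rfl (h3 h7) (h5 h7)
    omega
  · have := H.cod_ge X (elemAb_isPGroup hB) (c := 1) rfl (h2 h0) (h4 h0)
    omega

omit H in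
theorem sum_digit (H : G4 M C θ) {O : Finset (Fin M.f → Fin 2 → ℕ)} (hO : O ⊆ M.N ρ ψ) (hs : M.Sh O) (i : Fin 2) :
    ∑ n ∈ O, M.mult (ρ.comp ψ) n * ∑ a, n a i = M.f * ∑ n ∈ O, M.mult (ρ.comp ψ) n * n M.z0 i := by
  simp only [Finset.mul_sum univ]
  rw [Finset.sum_comm, Finset.sum_congr rfl (g := fun _ => ∑ n ∈ O, M.mult (ρ.comp ψ) n * n M.z0 i), Finset.sum_const,
    Finset.card_univ, Fintype.card_fin, smul_eq_mul]
  intro c _
  rw [← M.sum_act (Commute.one_left _) (j := c) (fun n hn => hs.act c hn) fun n => M.mult (ρ.comp ψ) n * n M.z0 i]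
  exact Finset.sum_congr rfl fun n hn => by rw [X.mult_actN (hO hn), M.act_z0]

omit H X in
theorem eight_le {t : ℕ} (h : 2 ≤ t) : 8 * t ≤ 4 ^ t := by
  induction t, h using Nat.le_induction with
  | base => norm_num
  | succ t h ih => rw [pow_succ]; omega

theorem dim_ge {O : Finset (Fin M.f → Fin 2 → ℕ)} (hO : O ⊆ M.N ρ ψ) (h : ∀ n ∈ O, 2 ≤ tt M n) :
    8 * ∑ n ∈ O, M.mult (ρ.comp ψ) n * tt M n ≤ finrank k U := by
  rw [X.finrank_U', Finset.mul_sum]
  refine le_trans (Finset.sum_le_sum fun n hn => ?_) (Finset.sum_le_sum_of_subset hO)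
  rw [mul_left_comm, H.Dn_eq (Cty.pats (hO hn))]
  exact Nat.mul_le_mul_left _ (eight_le (h n hn))

/-- both kinds of digits in all patterns -/
theorem mixed (h : ∀ n ∈ M.N ρ ψ, ∀ i, ∃ a, n a i ≠ 0) : 16 * M.f ≤ finrank k U := by
  have h1 : ∀ n ∈ M.N ρ ψ, ∀ i, 1 ≤ ∑ a, n a i := fun n hn i => by
    obtain ⟨a, ha⟩ := h n hn i
    exact (Nat.pos_of_ne_zero ha).trans_le (Finset.single_le_sum (f := fun a => n a i) (fun _ _ => Nat.zero_le _) (mem_univ a))
  have h2 : ∀ i, M.f ≤ ∑ n ∈ M.N ρ ψ, M.mult (ρ.comp ψ) n * ∑ a, n a i := fun i => by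
    have h3 : 0 < ∑ n ∈ M.N ρ ψ, M.mult (ρ.comp ψ) n * ∑ a, n a i :=
      Finset.sum_pos (fun n hn => Nat.mul_pos (Cty.one_le_mult hn) (h1 n hn i)) X.N_nonempty
    rw [sum_digit X H subset_rfl X.sh] at h3 ⊢
    exact Nat.le_mul_of_pos_right _ (Nat.pos_of_mul_pos_left h3)
  have h3 := H.dim_ge X subset_rfl fun n hn => Nat.add_le_add (h1 n hn 0) (h1 n hn 1)
  simp only [tt, mul_add, Finset.sum_add_distrib] at h3
  have := h2 0
  have := h2 1
  omega

theorem sum_tt (hm : ∀ n ∈ M.pats, M.mult (ρ.comp ψ) (ta M n) = M.mult (ρ.comp ψ) n)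
    {O : Finset (Fin M.f → Fin 2 → ℕ)} (hO : O ⊆ M.N ρ ψ) (hs : ∀ n ∈ O, ta M n ∈ O) :
    ∃ m, ∑ n ∈ O, M.mult (ρ.comp ψ) n * tt M n = 2 * M.f * m := by
  have h1 : M.Sh O := fun n hn => H.ta_ta n ▸ hs _ (hs n hn)
  have h2 : ∑ n ∈ O, M.mult (ρ.comp ψ) n * n M.z0 1 = ∑ n ∈ O, M.mult (ρ.comp ψ) n * n M.z0 0 :=
    Finset.sum_nbij (ta M) hs (fun a _ b _ e => H.ta_inj e)
      (Finset.surjOn_of_injOn_of_card_le _ hs (fun a _ b _ e => H.ta_inj e) le_rfl)
      fun n hn => by rw [hm n (Cty.pats (hO hn)), ta_zero]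
  refine ⟨∑ n ∈ O, M.mult (ρ.comp ψ) n * n M.z0 0, ?_⟩
  simp only [tt, mul_add, Finset.sum_add_distrib]
  rw [sum_digit X H hO h1, sum_digit X H hO h1, h2]
  ring

/-- **modules which are invariant under the graph automorphism** -/
theorem graph (hψ : Function.Injective ψ) (hm : ∀ n ∈ M.pats, M.mult (ρ.comp ψ) (ta M n) = M.mult (ρ.comp ψ) n) :
    16 * M.f ≤ finrank k U ∨ Std.Inner 2 ρ ψ := by
  classical
  have hN : ∀ n ∈ M.N ρ ψ, ta M n ∈ M.N ρ ψ := fun n hn =>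
    (M.mem_N ρ ψ).2 ⟨ta_mem M (Cty.pats hn), by rw [hm n (Cty.pats hn)]; exact ((M.mem_N ρ ψ).1 hn).2⟩
  by_cases h1 : ∃ n ∈ M.N ρ ψ, 2 ≤ tt M n
  · obtain ⟨n, hn, h1⟩ := h1
    obtain ⟨m, h2⟩ := H.sum_tt X hm (O := (M.N ρ ψ).filter fun n => 2 ≤ tt M n) (filter_subset _ _) fun n hn =>
      mem_filter.2 ⟨hN n (mem_filter.1 hn).1, by rw [tt_ta]; exact (mem_filter.1 hn).2⟩
    have h3 := H.dim_ge X (O := (M.N ρ ψ).filter fun n => 2 ≤ tt M n) (filter_subset _ _) fun n hn => (mem_filter.1 hn).2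
    have h4 : 0 < ∑ n ∈ (M.N ρ ψ).filter fun n => 2 ≤ tt M n, M.mult (ρ.comp ψ) n * tt M n :=
      Finset.sum_pos (fun n hn => Nat.mul_pos (Cty.one_le_mult (mem_filter.1 hn).1) (by have := (mem_filter.1 hn).2; omega))
        ⟨n, mem_filter.2 ⟨hn, h1⟩⟩
    rw [h2] at h3 h4
    have h5 := Nat.le_mul_of_pos_right (2 * M.f) (Nat.pos_of_mul_pos_left h4)
    exact Or.inl (by omega)
  have h2 : ∀ n ∈ M.N ρ ψ, tt M n = 1 := fun n hn => by
    have h3 := tt_pos M (X.ne_zero hn)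
    have h4 : ¬ 2 ≤ tt M n := fun h => h1 ⟨n, hn, h⟩
    omega
  have h3 : ∀ n ∈ M.N ρ ψ, M.Dn n = 4 := fun n hn => by rw [H.Dn_eq (Cty.pats hn), h2 n hn, pow_one]
  obtain ⟨m, h4⟩ := H.sum_tt X hm subset_rfl hN
  rw [Finset.sum_congr rfl fun n hn => by rw [h2 n hn, mul_one]] at h4
  have h5 := X.finrank_U'
  rw [Finset.sum_congr rfl fun n hn => by rw [h3 n hn], ← Finset.sum_mul, h4] at h5
  refine (Nat.lt_or_ge 1 m).imp (fun h => ?_) fun h => ?_
  · have := Nat.mul_le_mul_left (2 * M.f) (show 2 ≤ m from h)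
    omega
  obtain ⟨Z, h6, h7, h8, h9⟩ := H.zz
  have h10 := fun n (hn : n ∈ M.N ρ ψ) => H.two_le_fix (Cty.pats hn) (h2 n hn) h8 h9
  have h11 : cod ρ (Z.map ψ) ≤ 2 * M.f * 2 := by
    refine (X.cod_le_sum Z).trans ((Finset.sum_le_sum fun n hn => Nat.mul_le_mul_left _ (show _ ≤ 2 by
      have := h10 n hn; rw [h3 n hn]; omega)).trans ?_)
    rw [← Finset.sum_mul, h4]
    exact Nat.mul_le_mul_right _ ((Nat.mul_le_mul_left _ h).trans (mul_one _).le)
  have h12 := Subgroup.card_map_of_injective (K := Z) hψ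
  refine ⟨Z.map ψ, Subgroup.map_le_range _ _, ⟨elemAb_map h6 _, fun e => ?_, ?_⟩, X.cub_of fun n hn => ?_⟩
  · rw [← h12, e, Subgroup.card_bot] at h7
    exact (Nat.one_lt_two_pow (by have := H.two; omega)).not_ge h7
  · rw [h12]
    exact (Nat.pow_le_pow_right two_pos h11).trans (by rw [pow_mul]; exact Nat.pow_le_pow_left h7 2)
  · have := X.pow.fd n (Cty.pats hn)
    refine cub_of_cod_le_two (elemAb_isPGroup h6) ?_
    have h13 := h10 n hn
    rw [cod, M.finrank_fxW, X.finrank_Wc (Cty.pats hn), h3 n hn]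
    omega

end G4

end Cfsg.Agent.TwoF.DC.TC.S4
end

-- part: TwoF/DC/TC/Sp4B
section
/-!
# TwoF, defining characteristic, `Sp_4(2^f)` (2): the offenders (helper62)
-/

set_option autoImplicit false
set_option linter.unusedSectionVars false
set_option linter.unusedVariables false
set_option maxHeartbeats 400000

namespace Cfsg.Agent.TwoF.DC.TC.S4

open Module Finset Cfsg.Agent.H45.Uni Cfsg.Agent.H45.UniE Cfsg.Agent.TwoF.Gen

theorem mul_conj {T : Type} [Group T] (g : MulAut T) (s : T) : g * MulAut.conj s = MulAut.conj (g s) * g :=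
  MulEquiv.ext fun t => by simp only [_root_.MulAut.mul_apply, _root_.MulAut.conj_apply, _root_.map_mul, _root_.map_inv]

theorem cyc_two {Q : Type} [Group Q] [Finite Q] [IsCyclic Q] {x y : Q} (hx : x ^ 2 = 1) (hy : y ^ 2 = 1) (h1 : x ≠ 1)
    (h2 : y ≠ 1) : x = y := by
  classical
  have := Fintype.ofFinite Q
  by_contra h
  have h3 := (Finset.card_le_card (s := {1, x, y}) (by
    simp only [Finset.insert_subset_iff, hx, hy, _root_.Finset.mem_filter, _root_.Finset.mem_univ, _root_.one_pow, _root_.and_self, _root_.Finset.singleton_subset_iff])).trans (IsCyclic.card_pow_eq_one_le (α := Q) two_pos)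
  rw [Finset.card_eq_three.2 ⟨1, x, y, h1.symm, h2.symm, h, rfl⟩] at h3
  omega

/-- two involutions modulo inner automorphisms -/
theorem inner_of {T : Type} [Group T] [Finite T] {θ : MulAut T} (h : ∀ β : MulAut T, ∃ (s : T) (i : ℕ), β = MulAut.conj s * θ ^ i)
    {a b : MulAut T} (ha : a ^ 2 = 1) (hb : b ^ 2 = 1) (h1 : ∀ s, a ≠ MulAut.conj s) (h2 : ∀ s, b ≠ MulAut.conj s) :
    ∃ s, a * b = MulAut.conj s := by
  let I : Subgroup (MulAut T) := (MulAut.conj : T →* MulAut T).range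
  have : I.Normal := ⟨by rintro _ ⟨s, rfl⟩ g; exact ⟨g s, by rw [mul_conj, mul_inv_cancel_right]⟩⟩
  have h3 : ∀ x : MulAut T, QuotientGroup.mk' I x = 1 ↔ ∃ s, x = MulAut.conj s := fun x =>
    (QuotientGroup.eq_one_iff _).trans ⟨fun ⟨s, e⟩ => ⟨s, e.symm⟩, fun ⟨s, e⟩ => ⟨s, e.symm⟩⟩
  have : IsCyclic (MulAut T ⧸ I) := ⟨⟨QuotientGroup.mk' I θ, fun q => by
    obtain ⟨x, rfl⟩ := QuotientGroup.mk'_surjective I q
    obtain ⟨s, i, rfl⟩ := h x
    exact ⟨i, by rw [map_mul, (h3 _).2 ⟨s, rfl⟩, one_mul, map_pow]; exact zpow_natCast _ _⟩⟩⟩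
  have h4 : ∀ x : MulAut T, x ^ 2 = 1 → QuotientGroup.mk' I x ^ 2 = 1 := fun x hx => by rw [← map_pow, hx, map_one]
  rw [← h3, map_mul, cyc_two (h4 a ha) (h4 b hb) (fun e => ((h3 _).1 e).elim h1) fun e => ((h3 _).1 e).elim h2, ← sq,
    h4 b hb]

variable [hp : Fact (Nat.Prime 2)] {Φ k G : Type} [Fintype Φ] [DecidableEq Φ] [Field k] [IsAlgClosed k] [CharP k 2]
  [Group G] {D : RDat 2 (Fin 2) Φ k G} {T S : Type} [Group T] [Finite T] [Group S]
  {Y U : Type} [Group Y] [Finite Y] [AddCommGroup U] [Module k U]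

/-- the module and the action of `Y` on `T` -/
structure Sit (M : Std D T S) (C : Can D) (ρ : Representation k Y U) (ψ : T →* Y) (β : Y →* MulAut T) (irrK : Prop) :
    Prop where
  inj : Function.Injective ρ
  ψinj : Function.Injective ψ
  cj : ∀ y t, y * ψ t * y⁻¹ = ψ (β y t)
  cent : ∀ y, (∀ s, y * ψ s * y⁻¹ = ψ s) → y ∈ ψ.range
  cty : ∀ g : MulAut T, Cty M C ρ (ψ.comp g.toMonoidHom) irrK

variable {M : Std D T S} {C : Can D} {θ : MulAut T} {ρ : Representation k Y U} {ψ : T →* Y} {β : Y →* MulAut T}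
  {irrK : Prop}

theorem range_comp (ψ : T →* Y) (g : MulAut T) : (ψ.comp g.toMonoidHom).range = ψ.range := by
  rw [MonoidHom.range_comp, MonoidHom.range_eq_top.2 g.surjective, ← MonoidHom.range_eq_map]

namespace Sit

variable (X : Sit M C ρ ψ β irrK)

include X

theorem cty1 : Cty M C ρ ψ irrK := X.cty 1

theorem conj (g : MulAut T) : Sit M C ρ (ψ.comp g.toMonoidHom) ((MulAut.conj g⁻¹).toMonoidHom.comp β) irrK where
  inj := X.inj
  ψinj := X.ψinj.comp g.injective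
  cj y t := (X.cj y _).trans (congrArg ψ (MulAut.apply_inv_self T g _).symm)
  cent y h := by
    rw [range_comp]
    exact X.cent y fun s => by obtain ⟨s, rfl⟩ := g.surjective s; exact h s
  cty g' := X.cty (g * g')

theorem mem_range {y : Y} {s : T} (h : β y = MulAut.conj s) : y ∈ ψ.range := by
  have h1 := X.cent ((ψ s)⁻¹ * y) fun t => by
    have h2 := X.cj y t
    rw [h, MulAut.conj_apply, map_mul, map_mul, map_inv] at h2
    calc _ = (ψ s)⁻¹ * (y * ψ t * y⁻¹) * ψ s := by group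
      _ = _ := by rw [h2]; group
  simpa only [_root_.MonoidHom.mem_range, _root_.mul_inv_cancel_left] using mul_mem (⟨s, rfl⟩ : ψ s ∈ ψ.range) h1

theorem cod_big (H : G4 M C θ) (h : 16 * M.f ≤ finrank k U) {B : Subgroup Y} (hB : IsElementaryAbelian 2 B)
    (h1 : B ≤ ψ.range) {r : ℕ} (h0 : 0 < r) (hr : Nat.card B = 2 ^ r) : 2 * r + 4 ≤ cod ρ B := by
  have h2 := Subgroup.map_comap_eq_self h1
  rw [← h2]
  refine H.cod_big X.cty1 h (elemAb_of (fun a ha b hb => X.ψinj ?_) fun a ha => X.ψinj ?_) h0 ?_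
  · rw [map_mul, map_mul]; exact elemAb_comm hB ha hb
  · rw [map_pow, map_one]; exact hB.2 _ ha
  · rw [← Subgroup.card_map_of_injective X.ψinj, h2, hr]

end Sit

namespace G4

variable (H : G4 M C θ)

include H

theorem powU (i : ℕ) {u : T} (hu : u ∈ M.E.U) : (θ ^ i) u ∈ M.E.U := by
  induction i with
  | zero => exact hu
  | succ i ih => rw [pow_succ']; exact H.thU _ ih

theorem invU {u : T} (hu : u ∈ M.E.U) : θ⁻¹ u ∈ M.E.U := by
  obtain ⟨i, hi⟩ := mem_powers_iff_mem_zpowers.2 (inv_mem (Subgroup.mem_zpowers θ))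
  exact hi ▸ H.powU i hu

/-- the automorphisms `u * θ ^ i` -/
def AU : Subgroup (MulAut T) := finSub
  { carrier := {g | ∃ u ∈ M.E.U, ∃ i : ℕ, g = MulAut.conj u * θ ^ i}
    one_mem' := ⟨1, one_mem _, 0, by simp⟩
    mul_mem' := by
      rintro _ _ ⟨u, hu, i, rfl⟩ ⟨u', hu', i', rfl⟩
      exact ⟨u * (θ ^ i) u', mul_mem hu (H.powU i hu'), i + i', by
        rw [map_mul, pow_add, mul_assoc, ← mul_assoc (θ ^ i), mul_conj]; simp only [mul_assoc]⟩ }

theorem exists_red {P : Subgroup (MulAut T)} (hP : IsPGroup 2 P) : ∃ g, ∀ x ∈ P, g * x * g⁻¹ ∈ H.AU := by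
  obtain ⟨g, -, hg⟩ := exists_conj_le (K := H.AU) (L := ⊤) (by
    rw [relIndex_eq_index_comap (K := H.AU) (L := ⊤) MulAut.conj (fun _ => trivial) fun g _ => by
      obtain ⟨s, i, rfl⟩ := H.aut g
      exact ⟨s, 1, one_mem _, i, by simp only [_root_.inv_mul_cancel_left, _root_.map_one, _root_.one_mul]⟩]
    exact fun h => M.syl (h.trans (Subgroup.index_dvd_of_le fun u hu => ⟨u, hu, 0, by simp⟩))) hP le_top
  exact ⟨g, hg⟩

theorem φ_pow' (s : T) (j : ℕ) (t : T) :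
    M.φ ((MulAut.conj s * θ ^ (2 * j)) t) = M.φ s * M.tw 1 j (M.φ t) * (M.φ s)⁻¹ := by
  rw [MulAut.mul_apply, MulAut.conj_apply, map_mul, map_mul, map_inv, H.φ_pow, M.tw_apply, M.gr_one]

theorem inner_of_fix {g : MulAut T} (hg : g ∈ H.AU) (h : ∀ x ∈ M.E.U, g x = x) : ∃ s, g = MulAut.conj s := by
  obtain ⟨u, hu, i, rfl⟩ := hg
  obtain ⟨j, rfl | rfl⟩ := Nat.even_or_odd' i
  · have : Nonempty Φ := ⟨D.zi 0⟩
    have h1 := (M.triv_U H.deg1 H.cfa.fa (M.tw_Tw 1 (j % M.f)) (Nat.mod_lt _ M.f_pos) (M.φ_U hu) fun x hx => by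
      rw [M.tw_apply, ← H.iter_eq, ← M.tw_apply, ← H.φ_pow', h x hx]).1
    refine ⟨u, ?_⟩
    rw [show θ ^ (2 * j) = 1 from MulEquiv.ext fun t => M.φ_inj (by rw [H.φ_pow, H.iter_eq, h1]; rfl), mul_one]
  · obtain ⟨x, hx, h1, h2, h3⟩ := H.cen
    have h4 : ∀ j : ℕ, (θ ^ (2 * j)) x = x := fun j => by
      induction j with
      | zero => rfl
      | succ j ih => rw [mul_add, mul_one, pow_add, MulAut.mul_apply, pow_two, MulAut.mul_apply, h2, ih]
    have h5 := h x hx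
    rw [MulAut.mul_apply, pow_succ', MulAut.mul_apply, h4, MulAut.conj_apply, mul_inv_eq_iff_eq_mul, ← h1 u hu] at h5
    exact (h3 (mul_left_cancel h5)).elim

variable (X : Sit M C ρ ψ β irrK) {A : Subgroup Y} (hA : Off 2 ρ A) (hU : ∀ a ∈ A, β a ∈ H.AU)

include X hA hU

/-- **large modules have no offenders** -/
theorem big (h : 16 * M.f ≤ finrank k U) : False := by
  have := X.cty1.fd
  obtain ⟨r, hr0, hr, hc⟩ := hA.exists_card
  rcases (inf_le_left : A ⊓ ψ.range ≤ A).eq_or_lt with h1 | h1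
  · have := X.cod_big H h hA.1 (h1 ▸ inf_le_right) hr0 hr
    omega
  obtain ⟨a, ha, h2⟩ := SetLike.exists_of_lt h1
  have h3 : ∀ s, β a ≠ MulAut.conj s := fun s e => h2 ⟨ha, X.mem_range e⟩
  have h4 : ∀ b ∈ A, β b ^ 2 = 1 := fun b hb => by rw [← map_pow, hA.1.2 b hb, map_one]
  obtain ⟨s, rfl, hs⟩ := card_step hr h1 (card_le_mul two_pos (hA.1.2 a ha) fun b hb => by
    by_cases h5 : ∃ s, β b = MulAut.conj s
    · exact ⟨0, by rw [pow_zero, one_mul]; exact ⟨hb, X.mem_range h5.choose_spec⟩⟩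
    · obtain ⟨s, h6⟩ := inner_of H.aut (h4 a ha) (h4 b hb) h3 (not_exists.1 h5)
      exact ⟨1, by rw [pow_one]; exact ⟨mul_mem ha hb, X.mem_range ((map_mul β a b).trans h6)⟩⟩)
  rcases Nat.eq_zero_or_pos s with rfl | h5
  swap
  · have := X.cod_big H h (elemAb_of_le hA.1 inf_le_left) inf_le_right h5 hs
    have := cod_mono (ρ := ρ) h1.le
    omega
  obtain ⟨x, hx, h6⟩ : ∃ x ∈ M.E.U, β a x ≠ x := by
    by_contra! h6
    exact (H.inner_of_fix (hU a ha) h6).elim h3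
  have h7 : β a x * x⁻¹ ∈ M.E.U := by
    obtain ⟨u, hu, i, e⟩ := hU a ha
    rw [e]
    exact mul_mem (mul_mem (mul_mem hu (H.powU i hx)) (inv_mem hu)) (inv_mem hx)
  have h8 : IsPGroup 2 (Subgroup.zpowers (β a x * x⁻¹)) := M.hyp.Up.to_le ((Subgroup.zpowers_le).2 h7)
  have h9 : Nontrivial (Subgroup.zpowers (β a x * x⁻¹)) :=
    (Subgroup.nontrivial_iff_ne_bot _).2 fun e => h6 (mul_inv_eq_one.1 (Subgroup.zpowers_eq_bot.1 e))
  obtain ⟨n, h10, h11⟩ := h8.nontrivial_iff_card.1 h9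
  obtain ⟨z, hz⟩ := exists_prime_orderOf_dvd_card' (G := Subgroup.zpowers (β a x * x⁻¹)) 2
    (h11 ▸ dvd_pow_self 2 h10.ne')
  have h12 : orderOf (ψ z) = 2 := by rw [orderOf_injective ψ X.ψinj, Subgroup.orderOf_coe, hz]
  have h13 := X.cod_big H h (B := Subgroup.zpowers (ψ z)) (elemAb_zpowers (h12 ▸ pow_orderOf_eq_one _))
    ((Subgroup.zpowers_le).2 ⟨_, rfl⟩) one_pos (by rw [Nat.card_zpowers, h12, pow_one])
  have h14 := cod_zpowers_commutator_le (ρ := ρ) a (ψ x)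
  rw [X.cj, ← map_inv, ← map_mul, ← MonoidHom.map_zpowers] at h14
  have h15 := cod_mono (ρ := ρ) ((Subgroup.zpowers_le).2 (Subgroup.mem_map_of_mem ψ z.2))
  have h16 := cod_mono (ρ := ρ) ((Subgroup.zpowers_le).2 ha)
  omega

omit hA hU in
theorem mult_ta (g : MulAut T) {n : Fin M.f → Fin 2 → ℕ} (hn : n ∈ M.pats) :
    M.mult (ρ.comp (ψ.comp (g * θ).toMonoidHom)) n = M.mult (ρ.comp (ψ.comp g.toMonoidHom)) (ta M n) :=
  (H.trf hn).mult (ρ.comp (ψ.comp g.toMonoidHom))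

omit hA hU in
theorem mult_even (j : ℕ) {n : Fin M.f → Fin 2 → ℕ} (hn : n ∈ M.pats) :
    M.mult (ρ.comp (ψ.comp (θ ^ (2 * j)).toMonoidHom)) n = M.mult (ρ.comp ψ) n := by
  induction j with
  | zero => rfl
  | succ j ih =>
    rw [mul_add, mul_one, pow_succ, pow_succ, H.mult_ta X _ hn, H.mult_ta X _ (ta_mem M hn), H.ta_ta,
      (X.cty _).mult_act hn, ih]

/-- an element which induces a graph automorphism -/
theorem odd {y : Y} {s : T} {j : ℕ} (h : β y = MulAut.conj s * θ ^ (2 * j + 1)) : Std.Inner 2 ρ ψ := by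
  refine (H.graph X.cty1 X.ψinj fun n hn => ?_).resolve_left (H.big X hA hU)
  rw [← H.mult_even X j (ta_mem M hn), ← H.mult_ta X _ hn, ← pow_succ]
  refine mult_conj M ρ (y := (ψ s)⁻¹ * y) (fun t => ?_) n
  have h1 := X.cj y t
  rw [h, MulAut.mul_apply, MulAut.conj_apply, map_mul, map_mul, map_inv] at h1
  calc _ = (ψ s)⁻¹ * (y * ψ t * y⁻¹) * ψ s := by group
    _ = _ := by rw [h1]; group; rfl

omit hA hU in
theorem acts {y : Y} {s : T} {j : ℕ} (h : β y = MulAut.conj s * θ ^ (2 * j)) : M.Acts ψ y s 1 1 j :=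
  Std.acts_of (X.cj y) (one_mem _) (Commute.one_left _) fun t => by rw [h, H.φ_pow', one_mul, inv_one, mul_one]

variable (hev : ∀ y s j, β y ≠ MulAut.conj s * θ ^ (2 * j + 1))

include hev

omit hA hU in
theorem all_acts (y : Y) : ∃ s h γ j, M.Acts ψ y s h γ j := by
  obtain ⟨s, i, e⟩ := H.aut (β y)
  obtain ⟨j, rfl | rfl⟩ := Nat.even_or_odd' i
  exacts [⟨s, 1, 1, j, H.acts X e⟩, (hev y s j e).elim]

theorem short (hM : M.Full fun l => l 1 = 0) (hmin : ∀ B < A, B ≠ ⊥ → Nat.card B ^ 2 < 2 ^ cod ρ B)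
    (h : ∀ n ∈ M.N ρ ψ, ∀ a, n a 1 = 0) : Std.Inner 2 ρ ψ ∨ ¬ irrK ∧ Cub ρ A :=
  (X.cty1.ctx hM (fun n hn a _ => h n hn a) X.inj (H.all_acts X hev) X.cent).main hA hmin fun a ha => by
    obtain ⟨u, hu, i, e⟩ := hU a ha
    obtain ⟨j, rfl | rfl⟩ := Nat.even_or_odd' i
    exacts [⟨1, j, u, hu, H.acts X e⟩, (hev a u j e).elim]

theorem even (hM : M.Full fun l => l 1 = 0) (hmin : ∀ B < A, B ≠ ⊥ → Nat.card B ^ 2 < 2 ^ cod ρ B) :
    Std.Inner 2 ρ ψ ∨ ¬ irrK ∧ Cub ρ A := by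
  by_cases h1 : ∀ n ∈ M.N ρ ψ, ∀ a, n a 1 = 0
  · exact H.short X hA hU hev hM hmin h1
  by_cases h0 : ∀ n ∈ M.N ρ ψ, ∀ a, n a 0 = 0
  · have e : ∀ (s : T) (i : ℕ), θ⁻¹ * (MulAut.conj s * θ ^ i) * θ⁻¹⁻¹ = MulAut.conj (θ⁻¹ s) * θ ^ i := fun s i => by
      rw [← mul_assoc, mul_conj]; group
    have h2 := H.short (X.conj θ) hA (fun a ha => by
      obtain ⟨u, hu, i, e'⟩ := hU a ha
      exact ⟨_, H.invU hu, i, by rw [← e, ← e']; rfl⟩) (fun y s j e' => hev y (θ s) j (by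
        rw [← MulAut.inv_apply_self T θ s, ← e] at e'
        exact (MulAut.conj θ⁻¹).injective e')) hM hmin fun n hn a =>
      h0 (ta M n) ((M.mem_N ρ ψ).2 ⟨ta_mem M (Cty.pats hn), by
        rw [← (H.trf (Cty.pats hn)).mult]; exact ((M.mem_N _ _).1 hn).2⟩) a
    rwa [Std.Inner, range_comp] at h2
  refine (H.big X hA hU (H.mixed X.cty1 fun n hn i => ?_)).elim
  obtain ⟨n', hn', a, ha⟩ : ∃ n' ∈ M.N ρ ψ, ∃ a, n' a i ≠ 0 := by
    push Not at h0 h1
    revert i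
    exact Fin.forall_fin_two.2 ⟨h0, h1⟩
  obtain ⟨γ, j, -, rfl⟩ := X.cty1.st.trans (H.all_acts X hev) n (Cty.pats hn) n' (Cty.pats hn') ((M.mem_N _ _).1 hn).2
    ((M.mem_N _ _).1 hn').2
  exact ⟨_, by rwa [H.act_eq] at ha⟩

omit hU hev in
/-- **the outer theorem for `Sp_4(2^f)`** -/
theorem main (hM : M.Full fun l => l 1 = 0) (hmin : ∀ B < A, B ≠ ⊥ → Nat.card B ^ 2 < 2 ^ cod ρ B) :
    Std.Inner 2 ρ ψ ∨ ¬ irrK ∧ Cub ρ A := by
  obtain ⟨g, hg⟩ := H.exists_red ((elemAb_isPGroup hA.1).map β)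
  have X' := X.conj g⁻¹
  have hU : ∀ a ∈ A, ((MulAut.conj g⁻¹⁻¹).toMonoidHom.comp β) a ∈ H.AU := fun a ha => hg _ ⟨a, ha, rfl⟩
  rw [Std.Inner, ← range_comp ψ g⁻¹]
  by_cases h : ∃ y s j, ((MulAut.conj g⁻¹⁻¹).toMonoidHom.comp β) y = MulAut.conj s * θ ^ (2 * j + 1)
  · obtain ⟨y, s, j, h⟩ := h
    exact Or.inl (H.odd X' hA hU h)
  · exact H.even X' hA hU (fun y s j e => h ⟨y, s, j, e⟩) hM hmin

end G4

end Cfsg.Agent.TwoF.DC.TC.S4
end

-- part: TwoF/DC/TC/Sp4C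
section
/-!
# TwoF, defining characteristic, `Sp_4(2^f)` (3): the row (helper62)
-/

set_option autoImplicit false
set_option linter.unusedSectionVars false
set_option linter.unusedVariables false
set_option maxHeartbeats 400000

namespace Cfsg.Agent.TwoF.DC.TC

namespace S4

open Module Finset Sum Cfsg.Agent.H45.Uni Cfsg.Agent.H45.UniE Cfsg.Agent.TwoF.Gen Cfsg.Agent.H45.UniS Cfsg.Agent.H421.UniS
open Cfsg.Agent.ClassicalGeometry Cfsg.Agent.ClassicalGeometry.Sp4Graph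

section abs

variable [hp : Fact (Nat.Prime 2)] {Φ k G : Type} [Fintype Φ] [DecidableEq Φ] [Field k] [IsAlgClosed k] [CharP k 2]
  [Group G] {D : RDat 2 (Fin 2) Φ k G} {T S : Type} [Group T] [Finite T] [Group S] {M : Std D T S} {C : Can D}
  {θ : MulAut T}

theorem G4.row (H : G4 M C θ) (hM : M.Full fun l => l 1 = 0) {S' : Type} [Group S']
    (hc : ∀ (K : Type) [Group K] [Finite K], IsQuasisimple K → ¬ 2 ∣ Nat.card (Subgroup.center K) →
      Nonempty (K ⧸ Subgroup.center K ≃* S') → Nonempty (T ≃* K)) : Row 2 S' := by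
  let _ : Algebra (ZMod 2) k := ZMod.algebra k 2
  have key : ∀ (Y : Type) [Group Y] [Finite Y] (V : Type) [AddCommGroup V] [Module (ZMod 2) V] [Finite V]
      (K : Subgroup Y) (ρ : Representation (ZMod 2) Y V), Stp 2 K ρ → Nonempty (K ⧸ Subgroup.center K ≃* S') →
      ∀ A, Off 2 ρ A → (∃ B ≤ K, Off 2 ρ B ∧ Cub ρ B) ∨ ¬ Irr ρ K ∧ ∃ B, Off 2 ρ B ∧ Cub ρ B := by
    intro Y _ _ V _ _ _ K ρ hs he A hA
    obtain ⟨e⟩ := hc K hs.qs hs.cop he
    obtain ⟨A, -, hA, hmin⟩ := exists_min_off ((off_bc k A).2 hA)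
    have := hs.normal
    have := hs.nontrivial
    have h1 : (K.subtype.comp e.toMonoidHom).range = K := by
      rw [MonoidHom.range_comp, MonoidHom.range_eq_top.2 e.surjective, ← MonoidHom.range_eq_map, Subgroup.range_subtype]
    have X : Sit M C (_root_.Cfsg.Agent.TwoF.Gen.bc k ρ) (K.subtype.comp e.toMonoidHom)
        ((MulAut.congr e.symm).toMonoidHom.comp MulAut.conjNormal) (Irr ρ K) :=
      { inj := bc_injective k hs.faithful
        ψinj := K.subtype_injective.comp e.injective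
        cj := fun y t => congrArg Subtype.val (e.apply_symm_apply (MulAut.conjNormal y (e t))).symm
        cent := fun y hy => by
          rw [h1]
          refine hs.cent fun x hx => ?_
          obtain ⟨s, rfl⟩ := h1.ge hx
          rw [← mul_inv_eq_iff_eq_mul.1 (hy s)]
        cty := fun g => ⟨H.cfa, H.deg1, boxDeg2 2 _ Φ k G D H.cfa.fa, H.pow,
          boxSt 2 _ Φ k G D T S M C H.cfa H.pow Y V K ρ hs _ ((range_comp _ g).trans h1), inferInstance,
          Module.nontrivial_of_finrank_pos (R := k) (by rw [Module.finrank_baseChange]; exact finrank_pos)⟩ }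
    rcases H.main X hA hM hmin with ⟨B, h8, h9, h10⟩ | ⟨h8, h9⟩
    · exact Or.inl ⟨B, h1 ▸ h8, (off_bc k B).1 h9, (cub_bc k B).1 h10⟩
    · exact Or.inr ⟨h8, A, (off_bc k A).1 hA, (cub_bc k A).1 h9⟩
  exact ⟨fun Y _ _ V _ _ _ K ρ hs he A hA => (key Y V K ρ hs he A hA).elim (fun ⟨B, _, h⟩ => ⟨B, h⟩) fun h => h.2,
    fun Y _ _ V _ _ _ K ρ hs he A hA hirr _ _ _ =>
      (key Y V K ρ hs he A hA).elim (fun ⟨B, h, h', _⟩ => ⟨B, h, h'⟩) fun h => (h.1 hirr).elim⟩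

end abs

/-! ### roots and weights -/

/-- `2 ε_0` -/
def r0 : PR 2 := pl 0 0 le_rfl
/-- `ε_0 + ε_1` -/
def r1 : PR 2 := pl 0 1 (by decide)
/-- `2 ε_1` -/
def r2 : PR 2 := pl 1 1 le_rfl
/-- `ε_0 - ε_1` -/
def r3 : PR 2 := TC.mn 0 1 (by decide)

theorem rt_cases (b : PR 2) : b = r0 ∨ b = r1 ∨ b = r2 ∨ b = r3 := by revert b; decide

/-- the weights of the natural module -/
def W4 : Finset (Fin 2 → ℤ) := {![1, 0], ![-1, 1], ![1, -1], ![-1, 0]}

theorem ab_le (Sg : Finset (PR 2)) (h : (eC 2).rc.Ab 2 Sg) : Sg.card ≤ 3 := by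
  by_contra h1
  have h2 : Sg = univ := Finset.eq_univ_of_card _ (le_antisymm (card_le_univ _)
    (by rw [show Fintype.card (PR 2) = 4 by decide]; omega))
  exact Sht.ab h r1 (b := r2) (b' := r3) (h2 ▸ mem_univ _) (h2 ▸ mem_univ _) (by decide) (by decide)

section hw

variable {k L : Type} [Field k] [AddCommGroup L] [Module k L] (H : HW (eC 2).rc 2 k L) (h : H.lam = w1)

include h

theorem lz_eq : H.lz = ![1, 0] := funext fun i => by rw [HW.lz_apply, h]; revert i; decide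

theorem min4 : H.Min := fun b => by rw [lz_eq H h]; revert b; decide +kernel

theorem ext4 {ν : Fin 2 → ℤ} (hν : ν ∈ W4) : H.Ext ν := by
  have h1 : ∀ ν ∈ W4, ∃ l ∈ ([[], [0], [1, 0], [0, 1, 0]] : List (List (Fin 2))), ν = (eC 2).rc.swl l ![1, 0] := by
    decide +kernel
  obtain ⟨l, -, e⟩ := h1 ν hν
  exact ⟨l, by rw [lz_eq H h]; exact e⟩

theorem d4 : H.d = 4 :=
  le_antisymm ((min4 H h).d_le W4 (by rw [lz_eq H h]; decide) (by decide +kernel))
    (H.card_le_d W4 fun ν hν => (ext4 H h hν).isWt)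

theorem le_cL {Sg : Finset (PR 2)} {b b' : PR 2} (hb : b ∈ Sg) (hb' : b' ∈ Sg) : (if b = b' then 1 else 2) ≤ H.cL Sg := by
  have h1 : ∀ b b' : PR 2, (if b = b' then 1 else 2) ≤
      (W4.filter fun ν => (eC 2).rc.pair ν (true, b) < 0 ∨ (eC 2).rc.pair ν (true, b') < 0).card := by decide +kernel
  exact (h1 b b').trans ((min4 H h).x.card_le_cL Sg _ fun ν hν => ⟨ext4 H h (mem_filter.1 hν).1,
    (mem_filter.1 hν).2.elim (fun e => ⟨b, hb, e⟩) fun e => ⟨b', hb', e⟩⟩)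

theorem cG4 : H.cG (Sie 2) ≤ 2 := Sht.cG_nat (o := 0) rfl fun i hi => by rw [h]; exact Pi.single_eq_of_ne hi _

end hw

/-! ### the graph homomorphism on root elements -/

section grp

variable {k : Type} [Field k] [CharP k 2]

theorem Z_val (b : PR 2) (t : k) (x y : II 2) : (Z b t).1 x y = (if x = y then 1 else 0) +
    if y = b.1.1.swap ∧ x = b.1.2 ∨ y = b.1.2.swap ∧ x = b.1.1 then t else 0 := by
  rw [entry, Z]
  rcases rt_cases b with rfl | rfl | rfl | rfl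
  on_goal 1 => rw [show r0.1.2 = r0.1.1 from rfl, X_long]
  on_goal 2 => rw [X_short (by decide) (by decide)]
  on_goal 3 => rw [show r2.1.2 = r2.1.1 from rfl, X_long]
  on_goal 4 => rw [X_short (by decide) (by decide)]
  all_goals
    rcases x with x | x <;> rcases y with y | y <;> (revert x y; simp only [r0, r1, r2, r3, pl, TC.mn, bv, om, sg, CharTwo.neg_eq, CharTwo.sub_eq_add, _root_.Fin.forall_fin_succ, Nat.reduceMul, Fin.isValue, _root_.Sum.swap_inl, _root_.ne_eq, reduceCtorEq, _root_.not_false_eq_true, _root_.Pi.single_eq_of_ne, _root_.MulZeroClass.mul_zero, _root_.zero_smul, _root_.Pi.add_apply, _root_.Pi.zero_apply, _root_.add_zero, _root_.Sum.inl.injEq, _root_.false_and, _root_.or_self, ↓reduceIte, _root_.Fin.succ_zero_eq_one, _root_.IsEmpty.forall_iff, _root_.and_true, _root_.Pi.single_eq_same, _root_.zero_ne_one, _root_.and_self, _root_.Fin.succ_ne_zero, _root_.true_and, _root_.one_mul, _root_.Pi.smul_apply,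 _root_.smul_eq_mul, _root_.zero_add, _root_.Sum.inr.injEq, _root_.mul_one, _root_.Pi.single_eq_of_ne', _root_.MulZeroClass.zero_mul, _root_.implies_true, _root_.and_false, _root_.Pi.sub_apply, _root_.one_ne_zero, _root_.or_false, _root_.false_or, _root_.Cfsg.Agent.TwoF.DC.TC.mn, _root_.Sum.swap_inr])

theorem gr_Z {b b' : PR 2} {n : ℕ} (h : (b, b', n) ∈ [(r0, r1, 1), (r1, r0, 2), (r2, r3, 1), (r3, r2, 2)]) (t : k) :
    graphHom k (Z b t) = Z b' (t ^ n) := by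
  refine Subtype.ext (Matrix.ext fun x y => ?_)
  rw [graphHom_coe, mn_apply]
  simp only [Z_val]
  simp only [List.mem_cons, Prod.mk.injEq, List.not_mem_nil, or_false] at h
  rcases h with ⟨rfl, rfl, rfl⟩ | ⟨rfl, rfl, rfl⟩ | ⟨rfl, rfl, rfl⟩ | ⟨rfl, rfl, rfl⟩ <;>
    rcases x with x | x <;> rcases y with y | y <;> (revert x y; simp only [r0, r1, r2, r3, pl, TC.mn, pa, pb, CharTwo.add_self_eq_zero, sq, _root_.Fin.forall_fin_succ, Fin.isValue, ↓reduceIte, Nat.reduceMul, _root_.Sum.swap_inl, reduceCtorEq, _root_.and_true, _root_.or_self, _root_.add_zero, _root_.one_mul, _root_.false_and, _root_.Sum.inl.injEq, _root_.ite_eq_left_iff, _root_.imp_false, _root_.Decidable.not_not, _root_.zero_ne_one, _root_.MulZeroClass.zero_mul, _root_.Fin.succ_ne_zero, _root_.ite_eq_right_iff, _root_.ite_not, _root_.Sum.inr.injEq, _root_.one_ne_zero, _root_.Fin.succ_zero_eq_one, _root_.IsEmpty.forall_iff, _root_.true_and, _root_.left_eq_ite_iff,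 _root_.and_self, _root_.zero_add, _root_.pow_one, _root_.mul_ite, _root_.MulZeroClass.mul_zero, _root_.mul_one, _root_.or_false, _root_.false_or, _root_.not_true_eq_false, _root_.and_false, _root_.mul_eq_zero, _root_.true_or, _root_.implies_true, _root_.not_false_eq_true, _root_.add_eq_left, _root_.Cfsg.Agent.TwoF.DC.TC.mn, _root_.Sum.swap_inr, _root_.add_left_inj, _root_.add_right_inj])

theorem mn_gr (g : SG 2 k) : H45.UniS.mn 0 (graphHom k g).1 = H45.UniS.mn 1 g.1 := by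
  have h1 : ∀ A : Matrix (II 2) (II 2) k, H45.UniS.mn 0 A = A (inl 0) (inl 0) := fun A => Matrix.det_fin_one _
  have h2 : ∀ A : Matrix (II 2) (II 2) k, H45.UniS.mn 1 A =
      A (inl 0) (inl 0) * A (inl 1) (inl 1) - A (inl 0) (inl 1) * A (inl 1) (inl 0) := fun A => Matrix.det_fin_two _
  rw [h1, h2, CharTwo.sub_eq_add]
  rfl

theorem gr_le {A : Set (PR 2)} (h : ∀ b ∈ A, ∃ b' ∈ A, ∃ n, (b, b', n) ∈ [(r0, r1, 1), (r1, r0, 2), (r2, r3, 1), (r3, r2, 2)])
    {g : SG 2 k} (hg : g ∈ Subgroup.closure {g : SG 2 k | ∃ b ∈ A, ∃ t, g = Z b t}) :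
    graphHom k g ∈ Subgroup.closure {g : SG 2 k | ∃ b ∈ A, ∃ t, g = Z b t} := by
  refine Subgroup.mem_comap.1 ((Subgroup.closure_le _).2 ?_ hg)
  rintro _ ⟨b, hb, t, rfl⟩
  obtain ⟨b', h1, n, h2⟩ := h b hb
  exact Subgroup.subset_closure ⟨b', h1, _, gr_Z h2 t⟩

theorem Z_comm (b : PR 2) (s t : k) : Z b s * Z r0 t = Z r0 t * Z b s := by
  have h : ∀ b : PR 2, b.1.1 ≠ b.1.2.swap ∧ b.1.1 ≠ r0.1.1.swap ∧ b.1.2 ≠ r0.1.1.swap := by decide
  exact R0 (h b).1 (h r0).1 (h b).2.1 (h b).2.1 (h b).2.2 (h b).2.2 s t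

variable [hp : Fact (Nat.Prime 2)] [IsAlgClosed k] {T S : Type} [Group T] [Finite T] [Group S]
  (M : Std (DC 2 2 k) T S) (C : Can (DC 2 2 k))

include C in
theorem two_le_F1 {B : Subgroup T}
    (h : B.map M.φ ≤ Subgroup.closure {g : SG 2 k | ∃ b ∈ ({r0, r1} : Finset (PR 2)), ∃ t, g = Z b t}) : 2 ≤ F1 M B := by
  have h1 := ((C.rep w1 w1_lt w1_ne).cod_le_cG h).trans (((C.H w1 w1_lt w1_ne).cG_mono (S' := Sie 2) (by decide)).trans
    (cG4 _ (C.lam _ _ _)))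
  have h2 : dd (DC 2 2 k) w1 = 4 := d4 _ (C.lam w1 w1_lt w1_ne)
  rw [C.ρ_eq, cod] at h1
  rw [dd] at h2
  rw [F1]
  omega

theorem g4 (hC : C.Fa) {θ : MulAut T} (triv : ∀ γ : M.Gr, γ = 1) (two : 2 ≤ M.f) (hFr : M.Fr = mapS (frobenius k 2))
    (hθ : ∀ s, M.φ (θ s) = graphHom k (M.φ s)) (aut : ∀ β : MulAut T, ∃ (s : T) (i : ℕ), β = MulAut.conj s * θ ^ i) :
    G4 M C θ := by
  have h1 := boxDeg1 2 _ _ k _ (DC 2 2 k)
  have h2 : dd (DC 2 2 k) w1 = 4 := d4 _ (C.lam w1 w1_lt w1_ne)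
  have h3 : ∀ s, M.φ (θ (θ s)) = M.Fr (M.φ s) := fun s => by
    rw [hθ, hθ, hFr]
    exact Subtype.ext (Matrix.ext fun x y => by rw [graphHom_graphHom, mapS_val, frobenius_def])
  have h4 : (DC 2 2 k).U = Subgroup.closure {g : SG 2 k | ∃ b ∈ (Set.univ : Set (PR 2)), ∃ t, g = Z b t} :=
    congrArg Subgroup.closure (Set.ext fun g => exists_congr fun b => (and_iff_right trivial).symm)
  have h5 := fun Sg => C.cL_add_u w1 w1_lt w1_ne Sg
  refine ⟨hC, h1, Pw.boxPow 2 _ _ k _ _ T S M C, triv, two, fun s => ?_, h3, fun u hu => ?_, aut, h2, ab_le,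
    fun Sg ⟨b, hb⟩ => ?_, fun Sg h => ?_, ?_, ?_⟩
  · rw [hθ, DC_Δ, DC_Δ, mn_gr]
  · refine M.mem_U_of h1 hC.fa ?_
    have h6 := M.φ_U hu
    rw [hθ]
    rw [h4] at h6 ⊢
    refine gr_le (fun b _ => ?_) h6
    rcases rt_cases b with rfl | rfl | rfl | rfl
    exacts [⟨r1, trivial, 1, by simp⟩, ⟨r0, trivial, 2, by simp⟩, ⟨r3, trivial, 1, by simp⟩, ⟨r2, trivial, 2, by simp⟩]
  · have h6 : _ ≤ (C.H w1 w1_lt w1_ne).cL Sg := le_cL _ (C.lam w1 w1_lt w1_ne) hb hb
    have h7 := h5 Sg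
    rw [if_pos rfl] at h6
    omega
  · obtain ⟨b, hb, b', hb', e⟩ := Finset.one_lt_card.1 h
    have h6 : _ ≤ (C.H w1 w1_lt w1_ne).cL Sg := le_cL _ (C.lam w1 w1_lt w1_ne) hb hb'
    have h7 := h5 Sg
    rw [if_neg e] at h6
    omega
  · obtain ⟨x, hx, e⟩ := M.exists_of_fix h1 hC.fa ((DC 2 2 k).z_mem_U r0 1) (by
      rw [M.tw_apply, triv M.σ, M.gr_one, M.iter_z, one_pow])
    refine ⟨x, hx, fun u hu => M.φ_inj ?_, M.φ_inj (by rw [h3, e, M.Fr_z, one_pow]), fun e' => ?_⟩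
    · rw [map_mul, map_mul, e]
      refine (Subgroup.mem_centralizer_singleton_iff.1 ((Subgroup.closure_le _).2 ?_ (M.φ_U hu)))
      rintro _ ⟨b, t, rfl⟩
      exact Subgroup.mem_centralizer_singleton_iff.2 (Z_comm b t 1)
    · have h6 := hθ x
      rw [e', e, DC_z, gr_Z (b' := r1) (n := 1) (by simp)] at h6
      have h7 := congrArg (fun g : SG 2 k => g.1 (inl 0) (inr 0)) h6
      simp [Z_val, r0, r1, pl] at h7
  · have hc : ∀ b ∈ ({r0, r1} : Finset (PR 2)), ∀ b' ∈ ({r0, r1} : Finset (PR 2)), ∀ s t : k,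
        Commute (Z b s) (Z b' t) := fun b hb b' hb' s t => by
      rcases mem_insert.1 hb' with rfl | hb'
      · exact Z_comm b s t
      rcases mem_insert.1 hb with rfl | hb
      · exact (Z_comm b' t s).symm
      · rw [mem_singleton.1 hb, mem_singleton.1 hb']
        exact (Z_add r1 s t).symm.trans (add_comm s t ▸ Z_add r1 t s)
    obtain ⟨B, hB1, hB2, hB3⟩ := h1.sub hC.fa _ _ _ _ (M.tw_Tw M.σ M.f) M.f_pos {r0, r1}
      (fun b hb => by rwa [triv M.σ, map_one]) hc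
    have h6 : (B.comap M.φ).map M.φ = B := Subgroup.map_comap_eq_self fun x hx => by
      obtain ⟨u, -, e⟩ := M.exists_of_fix h1 hC.fa
        (Subgroup.closure_mono (by rintro _ ⟨b, -, t, rfl⟩; exact ⟨b, t, rfl⟩) (hB1 hx)) (hB2 x hx)
      exact ⟨u, e⟩
    have h7 : IsElementaryAbelian 2 B := elemAb_of_le (elemAb_closure
      (by rintro _ ⟨b, hb, t, rfl⟩ _ ⟨b', hb', t', rfl⟩; exact hc b hb b' hb' t t')
      (by rintro _ ⟨b, hb, t, rfl⟩; exact (DC 2 2 k).z_pow b t)) hB1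
    refine ⟨B.comap M.φ, elemAb_of (fun a ha b hb => M.φ_inj ?_) fun a ha => M.φ_inj ?_, ?_,
      two_le_F1 M C (h6.le.trans hB1), two_le_F1 M C ?_⟩
    · rw [map_mul, map_mul]; exact elemAb_comm h7 ha hb
    · rw [map_pow, map_one]; exact h7.2 _ ha
    · rw [← Subgroup.card_map_of_injective M.φ_inj, h6, hB3, mul_comm]; rfl
    · rintro _ ⟨_, ⟨x, hx, rfl⟩, rfl⟩
      refine (hθ x).symm ▸ gr_le (A := ({r0, r1} : Finset (PR 2))) (fun b hb => ?_) (hB1 hx)
      rcases mem_insert.1 hb with rfl | hb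
      · exact ⟨r1, by simp, 1, by simp⟩
      · exact ⟨r0, by simp, 2, by simp [mem_singleton.1 hb]⟩

end grp

/-! ### the finite group -/

section fin

open Cfsg.Agent.ClassicalGeometry.Sp4GraphAut Cfsg.Agent.H183.OutSp4

theorem aut_congr {A B : Type} [Group A] [Group B] (e : A ≃* B) {θ : MulAut A}
    (h : ∀ β : MulAut A, ∃ (s : A) (i : ℕ), β = MulAut.conj s * θ ^ i) (β : MulAut B) :
    ∃ (s : B) (i : ℕ), β = MulAut.conj s * MulAut.congr e θ ^ i := by
  obtain ⟨β, rfl⟩ := (MulAut.congr e).surjective β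
  obtain ⟨s, i, rfl⟩ := h β
  exact ⟨e s, i, by rw [map_mul, map_pow]; congr 1; ext; simp only [MulAut.congr, _root_.MulEquiv.coe_mk, _root_.Equiv.coe_fn_mk, _root_.MulEquiv.trans_apply, _root_.MulAut.conj_apply, _root_.map_mul, _root_.MulEquiv.apply_symm_apply, _root_.map_inv]⟩

variable {F : Type} [Field F] [Fintype F] [CharP F 2]

theorem aut_psp {f : ℕ} (hf : 1 ≤ f) (hF : Fintype.card F = 2 ^ f) (β : MulAut (PSp 2 F)) :
    ∃ (s : PSp 2 F) (i : ℕ), β = MulAut.conj s * gamma F ^ i := by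
  let g : Out (PSp 2 F) := QuotientGroup.mk (gamma F)
  have h1 : 2 * f ∣ orderOf g := by
    have h1 : gamma F ^ orderOf g ∈ Inn (PSp 2 F) := by
      rw [← QuotientGroup.eq_one_iff, QuotientGroup.mk_pow]
      exact pow_orderOf_eq_one g
    rcases Nat.even_or_odd' (orderOf g) with ⟨j, hj | hj⟩ <;> rw [hj] at h1
    · exact hj ▸ Nat.mul_dvd_mul_left 2 (dvd_of_pow_eq hf hF (pow_eq_of_inn h1))
    · exact (gamma_pow_odd_not_inn j h1).elim
  have h2 : Subgroup.zpowers g = ⊤ := Subgroup.eq_top_of_card_eq _ (by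
    rw [Nat.card_zpowers]
    exact le_antisymm orderOf_le_card ((out_psp4 hf hF).2.le.trans (Nat.le_of_dvd ((orderOf_pos g :)) h1)))
  obtain ⟨i, hi⟩ := mem_powers_iff_mem_zpowers.2 (h2.ge (Subgroup.mem_top (QuotientGroup.mk β)))
  obtain ⟨s, hs⟩ := QuotientGroup.eq.1 (show (QuotientGroup.mk (gamma F ^ i) : Out (PSp 2 F)) = QuotientGroup.mk β from hi)
  exact ⟨(gamma F ^ i) s, i, by rw [← mul_conj, show MulAut.conj s = _ from hs, mul_inv_cancel_left]⟩

theorem aut_sp {f : ℕ} (hf : 1 ≤ f) (hF : Fintype.card F = 2 ^ f) (β : MulAut (SG 2 F)) :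
    ∃ (s : SG 2 F) (i : ℕ), β = MulAut.conj s * (show MulAut (SG 2 F) from graphEquiv F) ^ i := by
  let e : SG 2 F ≃* PSp 2 F := MulEquiv.ofBijective (QuotientGroup.mk' _)
    ⟨fun A B h => mk_injective one_le_two h, QuotientGroup.mk'_surjective _⟩
  have h := aut_congr e.symm (aut_psp hf hF) β
  rwa [show MulAut.congr e.symm (gamma F) = graphEquiv F from MulEquiv.ext fun x => e.symm_apply_eq.2 rfl] at h

theorem gr_map {k : Type} [Field k] [CharP k 2] (ω : F →+* k) (g : SG 2 F) :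
    mapS ω (graphHom F g) = graphHom k (mapS ω g) :=
  Subtype.ext (Matrix.ext fun x y => by simp only [mapS_val, graphHom_coe, mn_apply, map_add, map_mul])

theorem exists_θ {k : Type} [Field k] [CharP k 2] (ω : F →+* k) {f : ℕ} (hf : 1 ≤ f) (hF : Fintype.card F = 2 ^ f)
    {K : Subgroup (SG 2 k)} (hK : K = (mapS ω).range) : Subgroup.center K = ⊥ ∧ ∃ θ : MulAut K,
      (∀ s, (θ s : SG 2 k) = graphHom k s) ∧ ∀ β : MulAut K, ∃ (s : K) (i : ℕ), β = MulAut.conj s * θ ^ i := by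
  subst hK
  let e := MonoidHom.ofInjective (mapS_inj (m := 2) ω)
  refine ⟨(Subgroup.eq_bot_iff_forall _).2 fun x hx => ?_, _, fun s => ?_, aut_congr e (aut_sp hf hF)⟩
  · obtain ⟨x, rfl⟩ := e.surjective x
    rw [Subgroup.mem_bot.1 ((center_eq_bot one_le_two).le (Subgroup.mem_center_iff.2 fun g => e.injective (by
      rw [map_mul, map_mul, Subgroup.mem_center_iff.1 hx]) : x ∈ _)), map_one]
  · obtain ⟨s, rfl⟩ := e.surjective s
    exact (congrArg (fun x => (e (graphHom F x) : SG 2 k)) (e.symm_apply_apply s)).trans (gr_map ω s)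

end fin

end S4

open S4 in
/-- **`Sp_4(2^f)`** -/
theorem boxSp4 (hS : BoxShort) : BoxSp4 := by
  intro F _ _ _ h3
  obtain ⟨⟨f, hf⟩, -, hF⟩ := FiniteField.card F 2
  replace hF : Fintype.card F = 2 ^ f := hF
  let k := AlgebraicClosure F
  let ω := algebraMap F k
  have h1 : okS = fun l : Fin 2 → ℕ => l 1 = 0 := funext fun l => propext
    ⟨fun h => h 1 (by decide), fun h => Fin.forall_fin_two.2 ⟨fun e => (e (by decide)).elim, fun _ => h⟩⟩
  have hC := comb_C (k := k) (ok := fun l => l 1 = 0) hf (h1 ▸ hS 2 le_rfl k _ (DC 2 2 k) rfl) ⟨w1, w1_lt, w1_ne, rfl⟩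
  have hfin := (PC 2 2 k f hf).finite_TT hC.fa
  have h2 := TT_eq hf hF ω hC.fa
  obtain ⟨π, hπ, hk⟩ := exists_π ω h2
  obtain ⟨hZ, θ, h4, h5⟩ := exists_θ ω hf hF h2
  have h6 := S0270.result (F := F) 2 le_rfl fun _ => h3
  have h7 := H837.RC.KilledP2.psp_nonab (F := F) le_rfl fun _ => h3
  have h8 := (PC 2 2 k f hf).cover_of hC.fa h6 h7 hπ hk (S2092.result hF 2 le_rfl (fun _ => hF ▸ h3) (by omega))
    (d := Nat.gcd 2 (2 ^ f - 1)) (a := 0)
    (by rw [Nat.card_congr Multiplicative.toAdd, Nat.card_zmod, pow_zero, mul_one]) (Nat.gcd_pos_of_pos_left _ two_pos)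
    (le_card_Zc hf two_pos)
  let M := (PC 2 2 k f hf).std hC.fa (1 : _ →* Unit) (fun _ => ⟨1, rfl⟩)
    ((PC 2 2 k f hf).perfect_of hC.fa (perfect_of_simple h6 h7) hπ hk) fun K _ _ hK _ e =>
      (not_nontrivial _ (e.nontrivial_congr.1 hK.2.toNontrivial)).elim
  have hM : M.Full fun l => l 1 = 0 := Tws.full _ hC.fa hC fun α =>
    ⟨1, 1, 1, 0, one_mem _, Commute.one_left _, fun s => ⟨s, by rw [M.gr_one]; simp, rfl⟩⟩
  obtain ⟨C⟩ := boxHW 2 _ _ k _ (DC 2 2 k)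
  refine (g4 M C (C.fa_of_full hM) (fun _ => rfl) ?_ rfl h4 h5).row hM fun K _ _ hK hp ⟨e⟩ => ?_
  · by_contra h9
    rw [hF, show f = 1 by have : ¬ 2 ≤ f := h9; omega] at h3
    omega
  obtain ⟨ψ, hψ, h9⟩ := h8 K hK hp e
  refine ⟨MulEquiv.ofBijective ψ ⟨(injective_iff_map_eq_one _).2 fun s hs => Subgroup.mem_bot.1 (hZ.le (hk ?_)), hψ⟩⟩
  rw [MonoidHom.mem_ker, ← h9, hs, QuotientGroup.mk_one, map_one]

end Cfsg.Agent.TwoF.DC.TC
end

-- part: TwoF/DC/TC/Final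
section
/-!
# TwoF, defining characteristic, type C: the field `psp` of `Types` (helper34)
-/

set_option autoImplicit false

namespace Cfsg.Agent.TwoF.DC.TC

/-- **symplectic groups in defining characteristic** -/
theorem psp : TBox fun p S _ => IsPSpChar p S := psp_of (boxShort boxSie) boxSpin (boxSp4 (boxShort boxSie))

end Cfsg.Agent.TwoF.DC.TC
end

-- part: TwoF/SpC/Odd
section
/-!
# TwoF SP-C : tools for odd characteristic (helper83)
-/

set_option autoImplicit false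

namespace Cfsg.Agent.TwoF.SpC

open Cfsg Subgroup Cfsg.Agent.TwoF.Gen Cfsg.Agent.TwoF.XE Cfsg.Agent.FS.Real Cfsg.Agent.H859

/-- the model of a subgroup -/
noncomputable def subM {Γ : Type} [Group Γ] (M : Mdl Γ) (G : Subgroup Γ) : Mdl G where
  R c g := M.R c g
  mul := M.mul
  one := M.one
  eqv := M.eqv
  neq := M.neq
  ok _ _ := false
  R_one := M.R_one
  R_mul := M.R_mul
  eq_of := fun h1 h2 h => Subtype.ext (M.eq_of h1 h2 h)
  ne_of := fun h1 h2 h e => M.ne_of h1 h2 h (congrArg Subtype.val e)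
  ex_of := fun h => nomatch h

theorem sub_gen {Γ : Type} [Group Γ] {M : Mdl Γ} {G : Subgroup Γ} {g : ℕ → ℕ} (hg : ∀ i, ∃ y ∈ G, M.R (g i) y)
    {W : List (List ℕ)} {X : ℕ → ℕ} {n : ℕ} (h : allB n (fun i => Nat.beq (X i) (wc M g (W.getD i []))) = true) :
    ∃ x : ℕ → G, ∀ i, i < n → (subM M G).R (X i) (x i) := by
  choose y h3 h4 using fun i => in_wc hg (W.getD i [])
  exact ⟨fun i => ⟨y i, h3 i⟩, fun i hi => beq_eq (allB_spec h hi) ▸ h4 i⟩

variable {p : ℕ} [hp : Fact p.Prime] {S : Type} [Group S] [Finite S]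

theorem exists_pow_lt {e a : S} (he : e ^ p = 1) (h : a ∈ zpowers e) : ∃ k < p, a = e ^ k := by
  obtain ⟨k, rfl⟩ := (isOfFinOrder_of_finite e).mem_powers_iff_mem_zpowers.2 h
  exact ⟨k % p, Nat.mod_lt _ hp.out.pos, pow_eq_pow_mod k he⟩

/-- an element that normalises a Sylow subgroup of order `p ^ 2` and none of its subgroups of order `p` -/
theorem row88_of_elt (h3 : ¬ p ^ 3 ∣ Nat.card (MulAut S)) (h3' : ¬ p ^ 3 ∣ Nat.card S) {f g y : S} (hc : f * g = g * f)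
    (hf : f ^ p = 1) (hg : g ^ p = 1) {a b c d : ℕ} (h1 : y * f = f ^ a * g ^ b * y) (h2 : y * g = f ^ c * g ^ d * y)
    (h : ∀ i < p, ∀ j < p, ∀ k < p, y * (f ^ i * g ^ j) = (f ^ i * g ^ j) ^ k * y → i = 0 ∧ j = 0) : Row88 p S := by
  have hR := elemAb_two hc hf hg
  have key : ∀ e ∈ zpowers f ⊔ zpowers g, y * e * y⁻¹ ∈ zpowers e → e = 1 := fun e he h4 => by
    obtain ⟨k, hk, h5⟩ := exists_pow_lt (hR.2 e he) h4
    obtain ⟨i, hi, j, hj, rfl⟩ := exists_pow_of_mem_sup hp.out.pos hc.symm hf hg he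
    obtain ⟨rfl, rfl⟩ := h i hi j hj k hk (by rw [← h5, inv_mul_cancel_right])
    simp
  have cz : ∀ e ∈ zpowers f ⊔ zpowers g, e ≠ 1 → Nat.card (zpowers e) = p := fun e he h4 => by
    rw [Nat.card_zpowers, orderOf_eq_prime (hR.2 e he) h4]
  have hN : zpowers y ≤ normalizer ((zpowers f ⊔ zpowers g : Subgroup S) : Set S) := by
    have h4 : ∀ i j, f ^ i * g ^ j ∈ zpowers f ⊔ zpowers g := fun i j =>
      mul_mem (mem_sup_left (pow_mem (mem_zpowers f) i)) (mem_sup_right (pow_mem (mem_zpowers g) j))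
    rw [sup_eq] at h4 ⊢
    refine zpowers_le.2 (SpA.mem_normalizer_closure ?_)
    rintro x (rfl | rfl)
    · rw [h1, mul_inv_cancel_right]
      exact h4 a b
    · rw [h2, mul_inv_cancel_right]
      exact h4 c d
  have f0 : f ∈ zpowers f ⊔ zpowers g := mem_sup_left (mem_zpowers f)
  have f1 : f ≠ 1 := fun e => one_ne_zero (h 1 hp.out.one_lt 0 hp.out.pos 0 hp.out.pos (by simp [e])).1
  have hP : Nat.card (zpowers f ⊔ zpowers g : Subgroup S) = p ^ 2 := by
    obtain ⟨r, hr⟩ := (elemAb_isPGroup hR).exists_card_eq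
    have h4 := SpD.le_of_card hr h3'
    have h5 : ¬ r ≤ 1 := fun e => f1 (key f f0 (by
      rw [eq_of_le_of_card_ge (le_sup_left : zpowers f ≤ zpowers f ⊔ zpowers g) (by
        rw [cz f f0 f1, hr]
        exact (Nat.pow_le_pow_right hp.out.pos e).trans (pow_one p).le)]
      exact (mem_normalizer_iff.1 (hN (mem_zpowers y)) f).1 f0))
    rw [hr, show r = 2 by omega]
  refine XS.row88_of_sq h3 hP hN fun E hE hn => by_contra fun h4 => ?_
  rw [not_or] at h4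
  obtain ⟨⟨e, he⟩, h5⟩ := ne_bot_iff_exists_ne_one.1 h4.1
  have h6 : e ≠ 1 := fun e' => h5 (Subtype.ext e')
  refine h6 (key e (hE he) ?_)
  rw [eq_of_le_of_card_ge (zpowers_le.2 he) (by rw [cz e (hE he) h6, XS.card_eq_of_sq hP hE h4.1 h4.2])]
  exact hn y (mem_zpowers y) e he

/-- Sylow subgroups `3 ^ (1 + 2)` -/
theorem row_of_heis {a b s : S} (h : Heis.Rel 3 a b s) (ho : ¬ 3 ∣ Nat.card (Out S)) (he : ¬ 3 ^ 4 ∣ Nat.card S) :
    haveI : Fact (Nat.Prime 3) := ⟨Nat.prime_three⟩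
    Row 3 S := by
  have : Fact (Nat.Prime 3) := ⟨Nat.prime_three⟩
  refine SpA.row_of_card ho fun E hE => ?_
  obtain ⟨j, hj⟩ := (elemAb_isPGroup hE).exists_card_eq
  rw [hj, small_three]
  exact Nat.pow_le_pow_right (by decide) (not_lt.1 fun e => e.ne' (SpD.heis_mem h he hE e.le hj).1)

end Cfsg.Agent.TwoF.SpC
end

private theorem dce_ca4891419865 : _root_.True := by
  try have : _root_.True := by simp only [_root_.Cfsg.Agent.TwoF.DC.TC.sr.eq_1]
  try have : _root_.True := by simp only [_root_.Cfsg.Agent.TwoF.DC.TC.S4.r2.eq_1]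
  try have : _root_.True := by simp only [_root_.Cfsg.Agent.TwoF.DC.TC.S4.F1.eq_1]
  try have : _root_.True := by simp only [_root_.Cfsg.Agent.TwoF.DC.TC.S4.tt.eq_1]
  try have : _root_.True := by simp only [_root_.Cfsg.Agent.TwoF.DC.Tws.TT.eq_1]
  try have : _root_.True := by simp only [_root_.Cfsg.Agent.TwoF.DC.TC.Spin.rad.eq_1]
  try have : _root_.True := by simp only [_root_.Cfsg.Agent.TwoF.DC.TC.Spin.sg.eq_1]
  try have : _root_.True := by simp only [_root_.Cfsg.Agent.TwoF.DC.TC.PC.congr_simp]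
  try have : _root_.True := by simp only [_root_.Cfsg.Agent.TwoF.DC.TC.sr.congr_simp]
  try have : _root_.True := by simp only [_root_.Cfsg.Agent.TwoF.DC.TC.S4.r1.eq_1]
  try have : _root_.True := by simp only [_root_.Cfsg.Agent.TwoF.DC.TC.S4.r3.eq_1]
  try have : _root_.True := by simp only [_root_.Cfsg.Agent.TwoF.DC.TC.ee.eq_1]
  try have : _root_.True := by simp only [_root_.Cfsg.Agent.TwoF.DC.Std.Inner.eq_1]
  try have : _root_.True := by simp only [_root_.Cfsg.Agent.ClassicalGeometry.Sp4Graph.graphHom.congr_simp]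
  try have : _root_.True := by simp only [_root_.Cfsg.Agent.TwoF.DC.TC.ZB.congr_simp]
  try have : _root_.True := by simp only [_root_.Cfsg.Agent.TwoF.DC.Tws.std.congr_simp]
  try have : _root_.True := by simp only [_root_.Cfsg.Agent.TwoF.DC.Std.Dn.eq_1]
  try have : _root_.True := by simp only [_root_.Cfsg.Agent.TwoF.DC.TC.ZB.eq_1]
  try have : _root_.True := by simp only [_root_.Cfsg.Agent.TwoF.DC.TC.su.eq_1]
  try have : _root_.True := by simp only [_root_.Cfsg.Agent.TwoF.DC.TC.okL.eq_1]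
  try have : _root_.True := by simp only [_root_.Cfsg.Agent.TwoF.DC.TC.su.congr_simp]
  try have : _root_.True := by simp only [_root_.Cfsg.Agent.TwoF.DC.TC.S4.r0.eq_1]
  exact _root_.True.intro
end

-- part: TwoF/SpC/J2
section
set_option linter.all false
open scoped Cfsg.Agent.FastGrp

/-!
# TwoF SP-C : the row of `J2` (helper83)
-/

set_option autoImplicit false
set_option maxRecDepth 100000

namespace Cfsg.Agent.TwoF.SpC

open Cfsg Subgroup Cfsg.Agent.TwoF.Gen Cfsg.Agent.FS.Real Cfsg.Agent.H859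
open Cfsg.Agent.SporadicA.J2Hundred

namespace J2

/-- the indices of `f, g, y, z, q` -/
def K' (i : ℕ) : ℕ := K ([1, 2, 3, 5, 6].getD i 0)

theorem ex : ∃ v : ℕ → G, ∀ i, i < 5 → (subM MM G).R (K' i) (v i) :=
  sub_gen hg (W := [[3, 4, 0, 5, 8, 5, 8, 8, 9, 9, 9], [2, 9, 8, 7], [9, 4, 5, 8, 5, 9, 8, 9, 9, 9], [5, 5, 4, 6, 9, 5, 8, 7, 8, 9], [8, 4, 2, 5, 9, 5, 9, 7]]) (by decide +kernel)

theorem iso : Nonempty (Spor.J2 ≃* G) := J2.HundredGens.J2_iso S1619.result.2.2.2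

theorem card_out : Nat.card (Out G) = 2 := iso.elim fun e => (H55.OutGen.card_out_congr e).symm.trans S2066.result

theorem center_eq : center G = ⊥ := (eq_bot_iff_forall _).2 fun _ hc => Subtype.ext
  (H269.CubeJ2.cent_triv fun g hg => congrArg Subtype.val (mem_center_iff.1 hc ⟨g, hg⟩))

theorem row3 : haveI : Fact (Nat.Prime 3) := ⟨Nat.prime_three⟩
    Row 3 G := by
  obtain ⟨v, h⟩ := ex
  have hy := h 2 (by decide)
  have hz := h 3 (by decide)
  have hq := h 4 (by decide)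
  let N := subM MM G
  exact row_of_heis ⟨N.eq_of (Mdl.R_pw hy 3) N.R_one (by decide +kernel),
    N.eq_of (Mdl.R_pw hq 3) N.R_one (by decide +kernel), N.eq_of (Mdl.R_pw hz 3) N.R_one (by decide +kernel),
    N.eq_of (N.R_mul hy hz) (N.R_mul hz hy) (by decide +kernel),
    N.eq_of (N.R_mul hq hz) (N.R_mul hz hq) (by decide +kernel),
    N.eq_of (N.R_mul hq hy) (N.R_mul (N.R_mul hy hq) hz) (by decide +kernel),
    N.ne_of hz N.R_one (by decide +kernel)⟩ (by rw [card_out]; decide) (by rw [card_G]; decide)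

theorem chk5 : (allB 5 fun i => allB 5 fun j => (Nat.beq i 0 && Nat.beq j 0) ||
    force (MM.mul (MM.pw (K' 0) i) (MM.pw (K' 1) j)) fun e => allB 5 fun k =>
      MM.neq (MM.mul (K' 2) e) (MM.mul (MM.pw e k) (K' 2))) = true := by decide +kernel

theorem row5 : haveI : Fact (Nat.Prime 5) := ⟨Nat.prime_five⟩
    Row 5 G := by
  have : Fact (Nat.Prime 5) := ⟨Nat.prime_five⟩
  obtain ⟨v, h⟩ := ex
  have hf := h 0 (by decide)
  have hg := h 1 (by decide)
  have hy := h 2 (by decide)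
  let N := subM MM G
  refine ⟨row88_of_elt (by rw [XE.card_aut center_eq, card_G, card_out]; decide) (by rw [card_G]; decide)
    (N.eq_of (N.R_mul hf hg) (N.R_mul hg hf) (by decide +kernel))
    (N.eq_of (Mdl.R_pw hf 5) N.R_one (by decide +kernel)) (N.eq_of (Mdl.R_pw hg 5) N.R_one (by decide +kernel))
    (N.eq_of (N.R_mul hy hf) (N.R_mul (N.R_mul (Mdl.R_pw hf 0) (Mdl.R_pw hg 1)) hy) (by decide +kernel))
    (N.eq_of (N.R_mul hy hg) (N.R_mul (N.R_mul (Mdl.R_pw hf 4) (Mdl.R_pw hg 4)) hy) (by decide +kernel))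
    fun i hi j hj k hk e => ?_, row89_of_not_dvd (by rw [card_out]; decide)⟩
  have h1 := allB_spec (allB_spec chk5 hi) hj
  rw [Bool.or_eq_true, Bool.and_eq_true, force_eq] at h1
  have h2 := N.R_mul (Mdl.R_pw hf i) (Mdl.R_pw hg j)
  exact (h1.resolve_right fun h3 => N.ne_of (N.R_mul hy h2) (N.R_mul (Mdl.R_pw h2 k) hy) (allB_spec h3 hk) e).imp
    beq_eq beq_eq

end J2

/-- **the row of `J2`** -/
theorem row_j2 (p : ℕ) [hp : Fact p.Prime] : Row p Spor.J2 := by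
  obtain ⟨e⟩ := J2.iso
  refine Row.of_equiv ?_ e
  by_cases h2 : p = 2
  · subst h2
    exact J2.row
  by_cases h3 : p = 3
  · subst h3
    exact J2.row3
  by_cases h5 : p = 5
  · subst h5
    exact J2.row5
  have h4 : ∀ {q : ℕ}, q.Prime → p ≠ q → ∀ n, p.Coprime (q ^ n) := fun hq h n =>
    ((Nat.coprime_primes hp.out hq).2 h).pow_right n
  refine row_of_not_sq (fun h => h2 ((Nat.prime_dvd_prime_iff_eq hp.out Nat.prime_two).1 (J2.card_out ▸ h))) ?_
  rw [card_G, show 604800 = 2 ^ 7 * 3 ^ 3 * 5 ^ 2 * 7 by norm_num]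
  exact not_sq_dvd hp.out (((h4 Nat.prime_two h2 7).mul_right (h4 Nat.prime_three h3 3)).mul_right
    (h4 Nat.prime_five h5 2)) (by decide +kernel)

end Cfsg.Agent.TwoF.SpC
end

-- part: TwoF/XE/TD4
section
set_option linter.all false
open scoped Cfsg.Agent.FastGrp

/-!
# TwoF / XE : the box of the groups `³D₄(q)` (helper4)
-/

set_option autoImplicit false

namespace Cfsg.Agent.TwoF.XE.TD4

open Cfsg.Lie Subgroup Gen TypeD4Two H379.TD H83.MeetTD4

/-- `c` is the code of `g` -/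
def Rp (g : M) (c : ℕ) : Prop := ap g = lin c

theorem Rp.mul {g h : M} {c e : ℕ} (h1 : Rp g c) (h2 : Rp h e) : Rp (g * h) (mulC c e) := by
  rw [Rp, ap_mul', lin_mulC, h1, h2]

theorem Rp.pow {g : M} {c : ℕ} (h1 : Rp g c) (k : ℕ) : Rp (g ^ k) (powC c k) := by
  rw [Rp, ap_pow, lin_powC, h1]

theorem Rp.eq_one {g : M} (h1 : Rp g oneC) : g = 1 := Subtype.ext (Units.ext (h1.trans lin_one))

theorem Rp.inv {g h : M} {c e : ℕ} (h1 : Rp g c) (h2 : Rp h e) (h3 : mulC c e = oneC) : Rp g⁻¹ e := by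
  rwa [inv_eq_of_mul_eq_one_right (Rp.eq_one (h3 ▸ h1.mul h2))]

theorem Rp.ne_one {g : M} {c : ℕ} (h1 : Rp g c) (h2 : c < 8 ^ 64) (h3 : c ≠ oneC) : g ≠ 1 := fun e => by
  rw [e] at h1
  exact h3 (lin_inj h2 (encF_lt _ _) (h1.symm.trans lin_one.symm))

theorem wv_lt (l : List ℕ) : wv l < 8 ^ 64 := by
  cases l with
  | nil => exact encF_lt _ _
  | cons k l => exact mulC_lt _ _

theorem wm_ne {l l' : List ℕ} (h : wv l ≠ wv l') : wm l ≠ wm l' := fun e =>
  h (lin_inj (wv_lt l) (wv_lt l') (by rw [← ap_wm, e, ap_wm]))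

theorem zc (p : ℕ) : Zc p M 1 := by
  obtain ⟨e⟩ := iso_M F8 F8.card_F8
  exact (zc_of_cyclic (S2110.result (q := 2) Nat.prime_two.isPrimePow F8.card_F8)).of_equiv e

theorem center_M : center M = ⊥ :=
  haveI := simple_M.1
  center_eq_bot M (by rw [card_M]; norm_num)

theorem card_out : Nat.card (Out M) = 3 := by
  have := XE.card_aut center_M
  rw [H83.MeetTD4.card_aut, card_M] at this
  omega

theorem wm_nil : wm [] = 1 := rfl

theorem li_seven [Fact (Nat.Prime 3)] : ∀ x : M, x ≠ 1 → x ^ 7 = 1 → Li 3 x 18 := by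
  refine li_rank_two_all (zc 3) Nat.prime_seven (by norm_num) (by norm_num) d_y2.eq.symm d_pow y2_pow ?_ ?_
    (by rw [card_M]; norm_num) [(1, 0, 0, 2), (3, 2, 1, 2)] ?_ (N := 6) (by decide +kernel)
  · rw [← wm_nil]
    exact wm_ne (by rw [wv_fast]; decide +kernel)
  · intro i hi
    rw [d, ← wm_wp]
    exact wm_ne (by rw [wv_fast]; revert i; decide +kernel)
  · simp only [List.mem_cons, List.not_mem_nil, or_false, forall_eq_or_imp, forall_eq, d, y2]
    refine ⟨⟨wm [4, 3, 4, 2, 4, 2, 3], ?_, ?_⟩, ⟨wm [1, 0, 2, 1, 0, 0, 4, 1, 0, 2, 4, 2, 1, 0, 3, 4, 1], ?_, ?_⟩⟩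
    all_goals
      simp only [← wm_wp, ← wm_append]
      exact wm_eq (wv_of2 (by decide +kernel))

/-- the `k`-th power has order seven -/
def ok7 (c k : ℕ) : Bool :=
  (fun u => u != oneC && (fun v => mulC (mulC v v) u == oneC) (mulC (mulC u u) u)) (powC c k)

theorem li_ok [Fact (Nat.Prime 3)] {g : M} {c k : ℕ} (h1 : Rp g c) (h : ok7 c k = true) : Li 3 g 18 := by
  rw [ok7, Bool.and_eq_true, bne_iff_ne, beq_iff_eq] at h
  have h2 := h1.pow k
  have h3 := (h2.mul h2).mul h2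
  refine Li.of_pow k (li_seven _ (h2.ne_one ?_ h.1) ?_)
  · cases k with
    | zero => exact encF_lt _ _
    | succ k => exact mulC_lt _ _
  · rw [← Rp.eq_one (h.2 ▸ (h3.mul h3).mul h2)]
    simp only [pow_succ (g ^ k), pow_zero, one_mul, mul_assoc]

/-- conjugating elements: word, code, code of the inverse, code of the image under `psi` -/
def Gs : List (List ℕ × ℕ × ℕ × ℕ) := [
  ([2, 0, 0, 0], 0x100000e000000001c0000c00003000020000000004000038,
    0x100000e000000001c0000c00003000020000000004000038, 0x5c000048000002950002d480029a4002db40000017000012),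
  ([1, 2, 0, 4, 3, 0, 4], 0x140000540000000080000e8000408002ce80140005540015,
    0xb40000400000012480038e00024000028000b4002d400010, 0x940000ec000003d280031b0001e8c0027580940025ec003b),
  ([0, 3, 4, 5, 1, 5], 0x6000000300007800000350000304006000180354c078001e,
    0xc000006180000c0000082000140a00186c30c001806180c3, 0xa00000810000280000a5f000f788007e342800cd4029f30a),
  ([4, 1, 3, 0, 3], 0xc00000018000cc000001a000018a0000003001ab80000033,
    0x600000c300001800001450000804000c36180000c0000186, 0x400000c28000b40000fe4000db8e006f9c10012480036dad),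
  ([3, 4, 0, 3, 2, 5, 1], 0x48000002db40a0000002080003f000480012490000a2db68,
    0x10000a10000a00028a00828a07028a87828090002a90142, 0x2c000074df80c00000610a008220006f9c0b2d8000b65fb0)]

/-- an entry of the list -/
def gq (j : ℕ) : List ℕ × ℕ × ℕ × ℕ := Gs.getD j ([], oneC, oneC, oneC)

theorem Gs_ok : ∀ q ∈ ([], oneC, oneC, oneC) :: Gs, wv q.1 = q.2.1 ∧ wv (wi q.1) = q.2.2.1 ∧
    wv (wd ++ fw q.1 ++ wi wd) = q.2.2.2 := by rw [wv_fast]; decide +kernel

theorem gq_ok (j : ℕ) : ∃ g : M, Rp g (gq j).2.1 ∧ Rp g⁻¹ (gq j).2.2.1 ∧ Rp (psi g) (gq j).2.2.2 := by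
  obtain ⟨h1, h2, h3⟩ := Gs_ok (gq j) (by
    rw [gq, List.getD_eq_getElem?_getD]
    cases e : Gs[j]? with
    | none => exact List.mem_cons_self
    | some q => exact List.mem_cons_of_mem _ (List.mem_of_getElem? e))
  exact ⟨wm _, by rw [← h1]; exact ap_wm _, by rw [← wm_wi, ← h2]; exact ap_wm _,
    by rw [psi_wm, ← h3]; exact ap_wm _⟩

/-- certificates for the inner elements -/
def CI : List (ℕ × ℕ) := [
  (0, 0), (0, 1), (1, 1), (3, 1), (0, 1), (0, 1), (3, 1), (1, 1), (0, 1), (3, 1), (0, 3), (1, 1), (2, 4), (1, 1),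
  (1, 1), (2, 1), (1, 1), (0, 3), (3, 1), (0, 3), (1, 1), (2, 1), (1, 1), (1, 1), (2, 4), (1, 1), (0, 3), (2, 1),
  (3, 1), (1, 2), (4, 1), (3, 2), (2, 3), (3, 1), (1, 2), (2, 1), (4, 1), (0, 3), (0, 3), (3, 1), (1, 2), (2, 1),
  (2, 1), (0, 3), (1, 2), (2, 1), (1, 2), (0, 3), (2, 1), (4, 3), (1, 2), (3, 1), (3, 3), (3, 2), (2, 1), (2, 1),
  (1, 2), (3, 1), (0, 3), (3, 3), (4, 1), (1, 2), (4, 3), (3, 1), (1, 2), (0, 3), (2, 1), (2, 1), (1, 2), (2, 1),
  (2, 3), (0, 3), (3, 1), (3, 2), (3, 2), (4, 1), (1, 2), (3, 1), (2, 1), (0, 3), (1, 2)]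

/-- certificates for the outer elements -/
def CO : List (ℕ × ℕ × ℕ) := [
  (1, 1, 0), (0, 1, 8), (1, 1, 7), (1, 1, 6), (0, 1, 5), (0, 1, 4), (1, 1, 3), (4, 4, 2), (0, 1, 1), (1, 3, 18),
  (0, 1, 26), (4, 1, 25), (1, 3, 24), (0, 1, 23), (0, 1, 22), (1, 3, 21), (3, 3, 20), (0, 1, 19), (1, 3, 9),
  (0, 1, 17), (1, 3, 16), (2, 1, 15), (0, 1, 14), (0, 1, 13), (1, 3, 12), (3, 2, 11), (0, 1, 10), (1, 3, 54),
  (0, 3, 77), (0, 3, 64), (2, 1, 60), (2, 2, 74), (0, 3, 70), (1, 4, 57), (3, 2, 80), (0, 3, 67), (1, 3, 75),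
  (0, 3, 71), (0, 3, 58), (1, 3, 72), (0, 3, 68), (3, 2, 55), (4, 3, 78), (2, 2, 65), (0, 3, 61), (3, 4, 69),
  (1, 2, 56), (1, 2, 79), (2, 3, 66), (0, 3, 62), (4, 2, 76), (4, 3, 63), (3, 2, 59), (0, 3, 73), (1, 3, 27),
  (0, 3, 41), (0, 3, 46), (1, 3, 33), (3, 2, 38), (0, 3, 52), (2, 3, 30), (0, 3, 44), (0, 3, 49), (3, 4, 51),
  (1, 2, 29), (1, 2, 43), (3, 3, 48), (0, 3, 35), (0, 3, 40), (2, 4, 45), (0, 3, 32), (2, 2, 37), (1, 3, 39),
  (0, 3, 53), (0, 3, 31), (1, 3, 36), (0, 3, 50), (0, 3, 28), (4, 3, 42), (0, 3, 47), (0, 3, 34)]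

/-- the check for an inner element -/
def cI (h : ℕ) (c : ℕ × ℕ) : Bool := ok7 (mulC h (mulC (mulC (gq c.1).2.1 h) (gq c.1).2.2.1)) c.2

/-- the check for an outer element -/
def cO (h : ℕ) (c : ℕ × ℕ × ℕ) : Bool := c.2.2 < 81 && mulC h (T3.getD c.2.2 0) == oneC &&
  ok7 (mulC (mulC (mulC h (gq c.1).2.2.2) (T3.getD c.2.2 0)) (gq c.1).2.2.1) c.2.1

theorem CI_ok : ∀ m : Fin 81, m.1 = 0 ∨ cI (T3.getD m.1 0) (CI.getD m.1 (0, 0)) = true := by
  unfold cI ok7
  rw [powC_fast, mulC_fast]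
  decide +kernel

theorem CO_ok : ∀ m : Fin 81, cO (T3.getD m.1 0) (CO.getD m.1 (0, 0, 0)) = true := by
  unfold cO ok7
  rw [powC_fast, mulC_fast]
  decide +kernel

theorem li_cI [Fact (Nat.Prime 3)] {h : M} {a : ℕ} {c : ℕ × ℕ} (h1 : Rp h a) (e : cI a c = true) : Li 3 h 9 := by
  obtain ⟨g, g1, g2, -⟩ := gq_ok c.1
  exact Li.two g (li_ok (h1.mul ((g1.mul h1).mul g2)) e) (by norm_num)

theorem le_cO [Fact (Nat.Prime 3)] {h : M} {a : ℕ} {c : ℕ × ℕ × ℕ} (h1 : Rp h a) (e : cO a c = true) :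
    Le 3 (MulAut.conj h * psi) 9 := by
  rw [cO, Bool.and_eq_true, Bool.and_eq_true, decide_eq_true_eq, beq_iff_eq] at e
  obtain ⟨g, -, g2, g3⟩ := gq_ok c.1
  have h2 : Rp _ (T3.getD c.2.2 0) := (ap_F _).trans (congrArg lin (cf_eq ⟨_, e.1.1⟩))
  exact Le.comm g (li_ok (((h1.mul g3).mul (h1.inv h2 e.1.2)).mul g2) e.2) (by norm_num)

theorem li_three [Fact (Nat.Prime 3)] {h : M} (hh : h ∈ K3) (h1 : h ≠ 1) : Li 3 h 9 := by
  obtain ⟨m, e1, e2⟩ := exists_code hh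
  rcases CI_ok m with e | e
  · exact (h1 (by rw [e1, e]; simp [F])).elim
  · exact li_cI e2 e

theorem le_outer [Fact (Nat.Prime 3)] {h : M} (hh : h ∈ K3) : Le 3 (MulAut.conj h * psi) 9 := by
  obtain ⟨m, -, e2⟩ := exists_code hh
  exact le_cO e2 (CO_ok m)

theorem noOff_three [Fact (Nat.Prime 3)] : NoOff 3 M := by
  have h0 := not_elemAb_of_pow (p := 3) (k := 2) (a := MulAut.conj x) (by rw [← map_pow, show x ^ 3 ^ 2 = 1 from x_pow, map_one])
    (by
      rw [← map_pow, Ne, conj_eq_one_iff center_M, x, ← wm_wp, ← wm_nil]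
      exact wm_ne (by rw [wv_fast]; decide +kernel))
  refine noOff_of_le (r₀ := 4) (card_le_of_not_elemAb (by rw [H83.MeetTD4.card_aut]; norm_num) h0.1 h0.2)
    fun α h1 h2 => le_of_sylow isPGroup_P3 index_P3 ?_ h1 h2
  rintro _ ⟨h, hh, i, rfl⟩ h3 -
  rw [pow_eq_pow_mod i psi3] at h3 ⊢
  obtain e | e | e : i % 3 = 0 ∨ i % 3 = 1 ∨ i % 3 = 2 := by omega
  · rw [e, pow_zero, mul_one] at h3 ⊢
    exact li_three hh fun e' => h3 (by rw [e', map_one])
  · rw [e, pow_one]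
    exact le_outer hh
  · refine Le.of_pow 2 ?_
    rw [e, pow_two (_ * _), mul_form, pow_eq_pow_mod (2 + 2) psi3, pow_one]
    exact le_outer (mul_mem hh (psi_pow_mem hh 2))

theorem row88_seven [Fact (Nat.Prime 7)] : Row88 7 M := by
  refine row88_of_sylow' (by rw [H83.MeetTD4.card_aut]; decide) (x := wm [0, 3, 4, 2, 4, 2]) ?_
    (Li.two (wm [1, 5, 2, 1]) (Li.of_prime (s := 13) (n := 12) center_M (by norm_num) (by norm_num) ?_ ?_
      fun d _ _ => by interval_cases d <;> norm_num) (by decide))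
  all_goals simp only [← wm_wi, ← wm_append, ← wm_wp]
  · exact wm_one (wv_of (by decide +kernel))
  · rw [← wm_nil]
    exact wm_ne (by rw [wv_fast]; decide +kernel)
  · exact wm_one (wv_of (by decide +kernel))

theorem row (p : ℕ) [hp : Fact p.Prime] (h2 : p ≠ 2) : Row p M := by
  by_cases h3 : p = 3
  · subst h3
    exact noOff_three.row
  refine ⟨?_, row89_of_not_dvd (by rwa [card_out, Nat.prime_dvd_prime_iff_eq hp.out Nat.prime_three])⟩
  by_cases h7 : p = 7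
  · subst h7
    exact row88_seven
  refine row88_of_not_dvd fun e => ?_
  rw [H83.MeetTD4.card_aut, small_of_ne h2 h3] at e
  have h4 := (Nat.mem_primeFactorsList (by norm_num)).2 ⟨hp.out, (dvd_pow_self p two_ne_zero).trans e⟩
  simp only [Nat.primeFactorsList_ofNat, List.mem_cons, List.not_mem_nil, or_false, h2, h3, h7,
    false_or] at h4
  subst h4
  norm_num at e

end TD4

theorem box3D4 : Box fun K _ => Lie.Iso3D4 K := box3D4_of fun p _ F _ _ hF hp => by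
  obtain ⟨e⟩ := H379.TD.iso_M F hF
  exact (TD4.row p hp).of_equiv e.symm

end Cfsg.Agent.TwoF.XE

private theorem dce_e5dc89e54fd1 : _root_.True := by
  try have : _root_.True := by simp only [_root_.Cfsg.Agent.TwoF.XE.TD4.cO.eq_1]
  try have : _root_.True := by simp only [_root_.Cfsg.Agent.TwoF.XE.TD4.gq.eq_1]
  try have : _root_.True := by simp only [_root_.Cfsg.Agent.TwoF.XE.TD4.Rp.eq_1]
  try have : _root_.True := by simp only [_root_.Cfsg.Agent.TwoF.XE.TD4.ok7.eq_1]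
  exact _root_.True.intro
end

-- part: TwoF/SpE/T2
section
prune_inst 0x100019004d00100000180512c0003e42ea000590006b8000c8800f40068a7d6309022721fc801d000808824c003c8008131000900200000020008400411c01a014c052062340b000260016810002000000000000000000000000000000041004000000000
set_option linter.all false
open scoped Cfsg.Agent.FastGrp

/-!
# TwoF / SP: more criteria for the sporadic rows (helper95)

* `EB.zc` : use of a bound `EB` in a setting; `EB.heis`, `eb_heis_all` : the elements of `r ^ (1 + 2)`;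
* `eb_pure` : an elementary abelian subgroup in one class;
* `exists_inner` : an offender in characteristic two meets `K`;
* `row88_two`, `row89_two`, `row_three`, `row_rank_two` : criteria.
-/

set_option autoImplicit false
set_option maxHeartbeats 400000
set_option linter.unusedSectionVars false

namespace Cfsg.Agent.TwoF.SpE

open Cfsg Subgroup Module Cfsg.Agent.TwoF.Gen Cfsg.Agent.TwoF.SpD Cfsg.Agent.TwoF.XE Cfsg.Agent.H859
open scoped commutatorElement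

section lift

variable {K S : Type*} [Group K] [Group S] {π : K →* S} {m r : ℕ}

/-- the canonical lift of an abelian subgroup of exponent `r` -/
def lf (hk : π.ker ≤ center K) (hm : Nat.card π.ker ∣ m) (hr : r.Coprime m) {E : Subgroup S}
    (hE : IsElementaryAbelian r E) : Subgroup K where
  carrier := {x | π x ∈ E ∧ x ^ r = 1}
  one_mem' := ⟨by rw [map_one]; exact one_mem _, one_pow r⟩
  mul_mem' := fun {a b} ha hb => ⟨by rw [map_mul]; exact mul_mem ha.1 hb.1, by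
    rw [(show Commute a b from comm_of_coprime hk (elemAb_comm hE ha.1 hb.1) (hE.2 _ ha.1)
      (hr.coprime_dvd_right hm)).mul_pow, ha.2, hb.2, one_mul]⟩
  inv_mem' := fun {a} ha => ⟨by rw [map_inv]; exact inv_mem ha.1, by rw [inv_pow, ha.2, inv_one]⟩

variable {hk : π.ker ≤ center K} {hm : Nat.card π.ker ∣ m} {hr : r.Coprime m} {E : Subgroup S}
  {hE : IsElementaryAbelian r E}

theorem mem_lf {x : K} : x ∈ lf hk hm hr hE ↔ π x ∈ E ∧ x ^ r = 1 := Iff.rfl

theorem lf_elemAb : IsElementaryAbelian r (lf hk hm hr hE) :=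
  elemAb_of (fun _ ha _ hb => comm_of_coprime hk (elemAb_comm hE ha.1 hb.1) (hE.2 _ ha.1) (hr.coprime_dvd_right hm))
    fun _ ha => ha.2

theorem card_lf (hs : Function.Surjective π) : Nat.card (lf hk hm hr hE) = Nat.card E :=
  Nat.card_congr (Equiv.ofBijective (fun x => ⟨π x, x.2.1⟩) ⟨fun x y e =>
    Subtype.ext (lift_unique hk hm hr (congrArg Subtype.val e) x.2.2 y.2.2), fun e => by
      obtain ⟨y, h1, h2⟩ := lift_exists hs hm hr (hE.2 e e.2)
      exact ⟨⟨y, h1 ▸ e.2, h2⟩, Subtype.ext h1⟩⟩)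

theorem lift_conj (hs : Function.Surjective π) (hk : π.ker ≤ center K) (hm : Nat.card π.ker ∣ m) (hr : r.Coprime m)
    {x y : K} (h : IsConj (π x) (π y)) (hx : x ^ r = 1) (hy : y ^ r = 1) : IsConj x y := by
  obtain ⟨g, hg⟩ := isConj_iff.1 h
  obtain ⟨g, rfl⟩ := hs g
  exact isConj_iff.2 ⟨g, lift_unique hk hm hr (by rw [map_mul, map_mul, map_inv, hg])
    (by rw [conj_pow, hx, mul_one, mul_inv_cancel]) hy⟩

end lift

theorem cod_conj' {k : Type*} [Field k] {Y : Type*} [Group Y] {V : Type*} [AddCommGroup V] [Module k V]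
    {ρ : Representation k Y V} {s t : Y} (h : IsConj s t) : cod ρ (zpowers s) = cod ρ (zpowers t) := by
  obtain ⟨g, rfl⟩ := isConj_iff.1 h
  rw [cod_zpowers_conj]

/-- a non-abelian Sylow subgroup of order `r ^ 3` and exponent `r` -/
theorem exists_rel {G : Type*} [Group G] [Finite G] {r : ℕ} [hr : Fact r.Prime] (h3 : r ^ 3 ∣ Nat.card G)
    (h4 : ¬ r ^ 4 ∣ Nat.card G) (he : ∀ g : G, orderOf g ≠ r ^ 2 ∧ orderOf g ≠ r ^ 3) {y : G} (hy : y ^ r = 1)
    (hy' : ¬ r ^ 3 ∣ Nat.card (centralizer ({y} : Set G))) : ∃ a b w : G, Heis.Rel r a b w := by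
  obtain ⟨P, hP⟩ := (elemAb_isPGroup (elemAb_zpowers hy)).exists_le_sylow
  have c : Nat.card (P : Subgroup G) = r ^ 3 := by
    rw [P.card_eq_multiplicity]
    exact congrArg _ (le_antisymm (Nat.le_of_lt_succ (not_le.1 fun h => h4
      ((hr.out.pow_dvd_iff_le_factorization Nat.card_pos.ne').2 h)))
      ((hr.out.pow_dvd_iff_le_factorization Nat.card_pos.ne').1 h3))
  obtain ⟨q, hq, h5⟩ := SetLike.not_le_iff_exists.1 fun h : (P : Subgroup G) ≤ centralizer {y} =>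
    hy' (c ▸ card_dvd_of_le h)
  have h6 : ∀ x : (P : Subgroup G), x ^ r = 1 := fun x => by
    obtain ⟨l, h6, hl⟩ := (Nat.dvd_prime_pow hr.out).1 (c ▸ orderOf_dvd_natCard x)
    have h7 := he x
    rw [orderOf_coe, hl] at h7
    have h8 : l ≠ 2 := fun e => h7.1 (by rw [e])
    have h9 : l ≠ 3 := fun e => h7.2 (by rw [e])
    exact orderOf_dvd_iff_pow_eq_one.1 (hl ▸ (pow_dvd_pow r (by omega : l ≤ 1)).trans (pow_one r).dvd)
  let a : (P : Subgroup G) := ⟨y, hP (mem_zpowers y)⟩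
  let b : (P : Subgroup G) := ⟨q, hq⟩
  have h7 : b * a ≠ a * b := fun e => h5 (mem_centralizer_singleton_iff.2 (congrArg Subtype.val e))
  obtain ⟨h8, -⟩ := Heis.extraspecial c ⟨b, a, h7⟩ h6
  have h9 : ⁅b⁻¹, a⁻¹⁆ ∈ center (P : Subgroup G) := by
    rw [← h8.1.2.2]
    exact commutator_mem_commutator (mem_top _) (mem_top _)
  refine ⟨a, b, (⁅b⁻¹, a⁻¹⁆ : (P : Subgroup G)), hy, congrArg Subtype.val (h6 b), congrArg Subtype.val (h6 _),
    congrArg Subtype.val (mem_center_iff.1 h9 a), congrArg Subtype.val (mem_center_iff.1 h9 b), ?_, fun e => h7 ?_⟩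
  · exact congrArg Subtype.val (show b * a = a * b * ⁅b⁻¹, a⁻¹⁆ by rw [commutatorElement_def]; group)
  · have h10 : ⁅b⁻¹, a⁻¹⁆ = 1 := Subtype.ext e
    rw [commutatorElement_eq_one_iff_mul_comm, ← mul_inv_rev, ← mul_inv_rev, inv_inj] at h10
    exact h10.symm

variable {p : ℕ} [hp : Fact p.Prime] {m n n' : ℕ} {S : Type} [Group S] {s t : S}

/-- `y` is conjugate to `y z` under the centraliser of `z` -/
theorem _root_.Cfsg.Agent.TwoF.SpD.EB.heis {y z q : S} {r : ℕ} (h : EB p m z n) (hr : r.Prime) (hrp : r ≠ p)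
    (hrm : r.Coprime m) (h1 : y * z = z * y) (h2 : q * z = z * q) (h3 : q * y * q⁻¹ = y * z) (hy : y ^ r = 1)
    (hz : z ^ r = 1) (hn : r * n' < (r - 1) * n + r) : EB p m y n' := by
  intro K _ _ π k1 k2 k3 U _ _ _ σ k4 x k5
  obtain ⟨y', k6, k7, k8⟩ := lift_mem k3 hrm (k5 ▸ hy)
  obtain ⟨z, rfl, k9⟩ := lift_exists k1 k3 hrm hz
  obtain ⟨q, rfl⟩ := k1 q
  rw [k5] at k7
  subst k7
  have c := hrm.coprime_dvd_right k3
  have k10 := comm_of_coprime k2 h1 hy c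
  have k11 := heis_cod_eq (ρ := σ) k10 (comm_of_coprime k2 h2.symm hz c).symm (lift_unique k2 k3 hrm
    (by rw [map_mul, map_mul, map_inv, map_mul, h3]) (by rw [conj_pow, k8, mul_one, mul_inv_cancel])
    (by rw [(show Commute y' z from k10).mul_pow, k8, k9, one_mul])) hr (cast_ne hr hrp) k8 k9
  have k12 := Nat.mul_le_mul_left r (cod_mono (ρ := σ) (le_sup_left : zpowers z ≤ zpowers z ⊔ zpowers y'))
  have k13 := Nat.mul_le_mul_left (r - 1) (h K π k1 k2 k3 U σ k4 z rfl)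
  have k14 := Nat.mul_le_mul_left r (cod_mono (ρ := σ) (zpowers_le.2 k6))
  obtain ⟨r, rfl⟩ := Nat.exists_eq_succ_of_ne_zero hr.ne_zero
  rw [Nat.succ_sub_one] at hn k13
  refine Nat.lt_succ_iff.1 (lt_of_mul_lt_mul_left (a := r.succ) ?_ (Nat.zero_le _))
  rw [Nat.succ_mul r (cod σ (zpowers z))] at k12
  rw [Nat.mul_succ]
  omega

theorem _root_.Cfsg.Agent.TwoF.SpD.EB.of_mem [Finite S] (h : EB p m s n) (hs : s ∈ zpowers t) : EB p m t n := by
  obtain ⟨k, rfl⟩ := mem_powers_iff_mem_zpowers.2 hs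
  exact h.of_pow

theorem mem_zpowers_symm {G : Type*} [Group G] [Finite G] {r : ℕ} (hr : r.Prime) {a b : G} (hb : b ^ r = 1)
    (h : a ∈ zpowers b) (ha : a ≠ 1) : b ∈ zpowers a := by
  have := Fact.mk hr
  have h1 : b ≠ 1 := by
    rintro rfl
    exact ha (by simpa using h)
  have h2 := card_dvd_of_le (zpowers_le.2 h)
  rw [Nat.card_zpowers, Nat.card_zpowers, orderOf_eq_prime hb h1] at h2
  rw [eq_of_le_of_card_ge (zpowers_le.2 h) (by
    rw [Nat.card_zpowers, Nat.card_zpowers, orderOf_eq_prime hb h1,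
      ((Nat.dvd_prime hr).1 h2).resolve_left fun e => ha (orderOf_eq_one_iff.1 e)])]
  exact mem_zpowers b

/-- all the elements of order `r`, for a Sylow subgroup `r ^ (1 + 2)` -/
theorem eb_heis_all [Finite S] {r : ℕ} (hr : r.Prime) (hrp : r ≠ p) (hrm : r.Coprime m) {a b : S}
    (H : Heis.Rel r a b s) (h4 : ¬ r ^ 4 ∣ Nat.card S) (h : EB p m s n) (hn : r * n' < (r - 1) * n + r) (hn' : n' ≤ n)
    (ht : orderOf t = r) : EB p m t n' := by
  have := Fact.mk hr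
  obtain ⟨u, hu, h1⟩ := exists_conj (p := r) (s := t) (e := 1) (Heis.card H) h4
    (by rw [pow_one, ← ht, pow_orderOf_eq_one])
  refine EB.conj ?_ h1.symm
  obtain ⟨g, rfl⟩ := isConj_iff.1 h1
  rw [← MulAut.conj_apply, MulEquiv.orderOf_eq] at ht
  have h2 : u ≠ 1 := by
    rintro rfl
    exact hr.one_lt.ne (by rwa [orderOf_one] at ht)
  by_cases hc : ∀ x ∈ Heis.gp H, u * x = x * u
  · exact (h.of_mem (mem_zpowers_symm hr H.wp (Heis.center_le H hu hc) h2)).mono hn'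
  push Not at hc
  obtain ⟨x, hx, h3⟩ := hc
  have h5 := heis_comm H _ (inv_mem hu) _ hx
  have h6 : ⁅u⁻¹, x⁆ ≠ 1 := fun e => h3 (Commute.inv_left_iff.1 (commutatorElement_eq_one_iff_mul_comm.1 e))
  obtain ⟨j, hj⟩ := mem_zpowers_iff.1 h5
  exact (h.of_mem (mem_zpowers_symm hr H.wp h5 h6)).heis (q := x) hr hrp hrm
    (hj ▸ (Commute.zpow_right (Heis.w_comm H hu).symm j).eq) (hj ▸ (Commute.zpow_right (Heis.w_comm H hx).symm j).eq)
    (by rw [commutatorElement_def]; group) (ht ▸ pow_orderOf_eq_one u)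
    (by rw [← hj, ← zpow_natCast, ← zpow_mul, mul_comm, zpow_mul, zpow_natCast, H.wp, one_zpow]) hn

/-- an elementary abelian subgroup whose non-trivial elements are conjugate -/
theorem eb_pure {r e : ℕ} (hr : r.Prime) (hrp : r ≠ p) (hrm : r.Coprime m) {E : Subgroup S}
    (hE : IsElementaryAbelian r E) (hc : Nat.card E = r ^ (e + 1)) (h : ∀ a ∈ E, a ≠ 1 → IsConj a t) (h1 : t ≠ 1)
    (ht : t ^ r = 1) : EB p m t (r ^ e) := by
  classical
  intro K _ _ π k1 k2 k3 U _ _ _ σ k4 x k5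
  obtain ⟨y, k6, k7, k8⟩ := lift_mem k3 hrm (k5 ▸ ht)
  refine le_trans (Nat.le_of_dvd (cod_pos k4 fun e => h1 ?_) ?_) (cod_mono (zpowers_le.2 k6))
  · rw [← k5, ← k7, zpowers_eq_bot.1 e, map_one]
  have := Fintype.ofFinite (lf k2 k3 hrm hE)
  have k9 := sum_cod_elt (ρ := σ) (R := lf k2 k3 hrm hE) (fun a ha b hb => elemAb_comm lf_elemAb ha hb) hr
    (cast_ne hr hrp) fun a ha => ha.2
  rw [← Finset.add_sum_erase _ _ (Finset.mem_univ 1), Finset.sum_congr rfl (g := fun _ => cod σ (zpowers y))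
    fun (g : lf k2 k3 hrm hE) hg => cod_conj' (lift_conj k1 k2 k3 hrm (by
      rw [k7, k5]
      exact h _ g.2.1 fun e => Finset.ne_of_mem_erase hg (Subtype.ext
        (lift_unique k2 k3 hrm (e.trans (map_one π).symm) g.2.2 (one_pow r)))) g.2.2 k8), Finset.sum_const,
    Finset.card_erase_of_mem (Finset.mem_univ _), smul_eq_mul, Finset.card_univ, ← Nat.card_eq_fintype_card,
    card_lf k1, hc, OneMemClass.coe_one, zpowers_one_eq_bot, cod_bot, zero_add, pow_succ' r e, mul_comm (r - 1),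
    mul_assoc, mul_assoc] at k9
  refine Nat.Coprime.dvd_of_dvd_mul_left ?_ ⟨_, Nat.eq_of_mul_eq_mul_left hr.pos k9⟩
  refine Nat.Coprime.pow_left _ ((hr.coprime_iff_not_dvd).2 fun e => hr.not_dvd_one ((Nat.dvd_add_right e).1 ?_))
  rw [Nat.sub_add_cancel (Nat.mul_pos hr.pos (pow_pos hr.pos _))]
  exact dvd_mul_right r _

/-- the eigenvalues of an element of prime order -/
theorem eb_rat {r : ℕ} (hr : r.Prime) (hrp : r ≠ p) (hrm : r.Coprime m) (hs : orderOf s = r) (J : Finset (ZMod r))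
    (hJ : ∀ j ∈ J, ∃ i l : ℕ, IsConj s (s ^ i) ∧ j = ((i * p ^ l : ℕ) : ZMod r)) : EB p m s J.card := by
  intro K _ _ π h1 h2 h3 U _ _ _ σ h4 x h5
  obtain ⟨z, h6, h7, h8⟩ := lift_mem h3 hrm (h5 ▸ hs ▸ pow_orderOf_eq_one s)
  refine le_trans (le_of_eq_of_le (mul_one _).symm (card_mul_le_cod_zpowers (ρ := σ) hr h8 (cast_ne hr hrp)
    (fun e => hr.one_lt.ne ?_) J (fun j hj => ?_) fun _ _ h => h)) (cod_mono (zpowers_le.2 h6))
  · rw [← hs, ← h5, ← h7, h4 (e.trans (map_one σ).symm), map_one, orderOf_one]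
  · obtain ⟨i, l, h9, rfl⟩ := hJ j hj
    obtain ⟨g, hg⟩ := isConj_iff.1 (lift_conj (x := z) (y := z ^ i) h1 h2 h3 hrm (by rwa [map_pow, h7, h5]) h8
      (by rw [← pow_mul, mul_comm, pow_mul, h8, one_pow]))
    exact ⟨g⁻¹, i, l, by rw [inv_inv, hg], by rw [ZMod.card]⟩

section sit

variable {Y : Type} [Group Y] [Finite Y] {V : Type} [AddCommGroup V] [Module (ZMod p) V] [Finite V]
  {K : Subgroup Y} {ρ : Representation (ZMod p) Y V} {π : K →* S} {φ : Y →* MulAut S}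

theorem _root_.Cfsg.Agent.TwoF.SpD.EB.zc (h : EB p m s n) (H : Sit p K ρ π φ) (hm : Zc p S m) {x : K}
    (hx : π x = s) : n ≤ cod ρ (zpowers (x : Y)) := by
  have h1 := h K π H.surj H.ker_π.le (hm.ker_π H) V (ρ.comp K.subtype) (H.faithful.comp K.subtype_injective) x hx
  rwa [cod_comp, MonoidHom.map_zpowers] at h1

omit hp in
theorem zc_of_mul (hp : p.Prime) (h : HasCyclicSchurMultiplier S (p * m)) : Zc p S m := fun K _ _ π h1 h2 =>
  (hp.coprime_iff_not_dvd.2 h2).symm.dvd_of_dvd_mul_left (card_ker_dvd' h K π h1)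

omit [Finite V] in
theorem ord_img (H : Sit p K ρ π φ) {x : K} (h : (x : Y) ^ p = 1) (h1 : (x : Y) ≠ 1) : orderOf (π x) = p :=
  orderOf_eq_prime (by rw [← map_pow, show x ^ p = 1 from Subtype.ext h, map_one]) fun e =>
    h1 (H.toStp.eq_one_of_mem_centralizer (n := 1) (by rwa [pow_one]) (H.toFrm.π_eq_one_iff.1 e))

/-- an offender of rank two whose elements have codimension at least four -/
theorem cub_of_sq {A : Subgroup Y} (hA : Off p ρ A) (hc : Nat.card A = p ^ 2)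
    (h : ∀ a ∈ A, a ≠ 1 → 4 ≤ cod ρ (zpowers a)) : Cub ρ A := by
  by_contra hn
  obtain ⟨v, hv, h3⟩ := exists_asc_four (p := p) (elemAb_isPGroup hA.1) hn
  obtain ⟨ψ, a, ha, b, hb, c, hc', h4⟩ := exists_tri_ne h3
  have n : trad hv ψ ≠ A := fun e => h4 ((mem_trad.1 (e.ge ha)).2 b hb c hc')
  obtain ⟨d, hd, h5⟩ := (trad hv ψ).bot_or_exists_ne_one.resolve_left (XS.trad_ne_bot hA hv ψ)
  have h6 := XS.trad_le hv ψ hd
  obtain ⟨r, -, h7, h8⟩ := hA.exists_card
  rw [hc, Nat.pow_right_inj hp.out.one_lt] at h7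
  have h9 := XL.fx_eq_of_cod_le (ρ := ρ) (zpowers_le.2 h6) (by have := h d h6 h5; omega)
  refine h3 (mem_asc_three.2 fun c hc' b hb a ha => sub_eq_zero.2 ?_)
  have h10 : (ρ b - 1) ((ρ c - 1) v) ∈ fx ρ A := by
    rw [h9, fx_zpowers]
    exact (Module.forall_dual_apply_eq_zero_iff (ZMod p) _).1 fun χ =>
      (mem_trad.1 (XS.trad_le_trad hA hc hv hv n χ hd)).2 b hb c hc'
  exact h10 a ha

end sit

/-- characteristic three -/
theorem row_three [Fact (Nat.Prime 3)] (ho : ¬ 3 ∣ Nat.card (Out S)) (hm : Zc 3 S m) {e : ℕ}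
    (h1 : ∀ E : Subgroup S, IsElementaryAbelian 3 E → Nat.card E ≤ 3 ^ e)
    (h2 : ∀ t : S, orderOf t = 3 → EB 3 m t (2 * e)) : Row 3 S := by
  refine ⟨row88_of_sit fun Y _ _ V _ _ _ K ρ π φ H A hA => ⟨A, hA, ?_⟩, row89_of_not_dvd ho⟩
  have h3 := card_img H (elemAb_isPGroup hA.1)
  have h4 := H.toFrm.le_of_not_dvd (elemAb_isPGroup hA.1) ho
  rw [relIndex_eq_one.2 h4, mul_one] at h3
  exact SpO.cub_of_rank hA (h3.ge.trans (h1 _ (elemAb_img hA.1))) fun a ha h5 =>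
    (h2 _ (ord_img H (x := ⟨a, h4 ha⟩) (hA.1.2 a ha) h5)).zc H hm (x := ⟨a, h4 ha⟩) rfl

/-- rank at most two -/
theorem row_rank_two (ho : ¬ p ∣ Nat.card (Out S)) (hm : Zc p S m)
    (h1 : ∀ E : Subgroup S, IsElementaryAbelian p E → ∀ j, 2 ≤ j → Nat.card E = p ^ j → j = 2)
    (h2 : ∀ t : S, orderOf t = p → EB p m t 4) : Row p S := by
  refine ⟨row88_of_sit fun Y _ _ V _ _ _ K ρ π φ H A hA => ⟨A, hA, by_contra fun hc => hc ?_⟩, row89_of_not_dvd ho⟩
  obtain ⟨j, -, h5, -⟩ := hA.exists_card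
  have h3 := card_img H (elemAb_isPGroup hA.1)
  have h4 := H.toFrm.le_of_not_dvd (elemAb_isPGroup hA.1) ho
  rw [relIndex_eq_one.2 h4, mul_one, h5] at h3
  have h6 := (Nat.pow_dvd_pow_iff_le_right hp.out.one_lt).1 (h5 ▸ hA.pow_dvd_of_not_cub hc)
  have h7 := one_le_small p
  obtain rfl := h1 _ (elemAb_img hA.1) j (by omega) h3
  exact cub_of_sq hA h5 fun a ha h5 =>
    (h2 _ (ord_img H (x := ⟨a, h4 ha⟩) (hA.1.2 a ha) h5)).zc H hm (x := ⟨a, h4 ha⟩) rfl

omit hp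

section two

variable {Y : Type} [Group Y] [Finite Y] {V : Type} [AddCommGroup V] [Module (ZMod 2) V] [Finite V]
  {K : Subgroup Y} {ρ : Representation (ZMod 2) Y V} {π : K →* S} {φ : Y →* MulAut S} {A : Subgroup Y}

omit [Finite V] in
theorem rank_le (H : Sit 2 K ρ π φ) (ho : Nat.card (Out S) ∣ 2) (hA : IsElementaryAbelian 2 A) {r : ℕ}
    (h1 : Nat.card A = 2 ^ r) : ∃ j, Nat.card ((A.subgroupOf K).map π) = 2 ^ j ∧ r ≤ j + 1 ∧ (A ≤ K → r = j) := by
  have : Finite S := Finite.of_surjective π H.surj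
  have h3 := card_img H (elemAb_isPGroup hA)
  obtain ⟨j, hj⟩ := (elemAb_isPGroup (elemAb_img (π := π) hA)).exists_card_eq
  refine ⟨j, hj, (Nat.pow_le_pow_iff_right one_lt_two).1 ?_, fun h => ?_⟩
  · rw [← h1, ← h3, hj, pow_succ]
    exact Nat.mul_le_mul_left _ (Nat.le_of_dvd two_pos ((H.toFrm.relIndex_dvd A).trans ho))
  · rw [relIndex_eq_one.2 h, mul_one, hj, h1] at h3
    exact (Nat.pow_right_injective le_rfl h3).symm

/-- **an offender meets `K`** (the proof is that of `SpD.noOff_two`, helper55) -/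
theorem exists_inner (H : Sit 2 K ρ π φ) (ho : Nat.card (Out S) ∣ 2) (he : 2 ∣ Nat.card S)
    (h5 : ∀ y : K, orderOf (π y) = 2 → 5 ≤ cod ρ (zpowers (y : Y))) (hA : Off 2 ρ A) :
    ∃ x : K, (x : Y) ∈ A ∧ orderOf (π x) = 2 := by
  classical
  obtain ⟨r, h0, h1, h2⟩ := hA.exists_card
  have : Finite S := Finite.of_surjective π H.surj
  obtain ⟨j, hj, h4, -⟩ := rank_le H ho hA.1 h1
  rcases j.eq_zero_or_pos with rfl | h6
  swap
  · obtain ⟨_, ⟨x, h4, rfl⟩, h5⟩ := exists_elt h6 hj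
    exact ⟨x, h4, h5⟩
  exfalso
  obtain ⟨⟨u, hu⟩, h6⟩ := ne_bot_iff_exists_ne_one.1 hA.2.1
  have h7 : u ≠ 1 := fun e => h6 (Subtype.ext e)
  have h8 := hA.1.2 u hu
  have h9 : u ∉ K := fun e => h7 (H.toStp.eq_one_of_mem_centralizer (n := 1) h8 (H.toFrm.π_eq_one_iff (x := ⟨u, e⟩).1
    (mem_bot.1 (card_eq_one.1 hj ▸ mem_map_of_mem π (show (⟨u, e⟩ : K) ∈ A.subgroupOf K from hu)))))
  have := H.normal
  obtain ⟨P, hP⟩ := (elemAb_isPGroup hA.1).exists_le_sylow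
  by_cases hi : ∀ g : Y, g * u * g⁻¹ ∈ P → g * u * g⁻¹ = u
  · obtain ⟨N, h10, h11, h12⟩ := S0215.result P u (orderOf_eq_prime h8 h7) (hP hu) hi
    rcases H.toStp.normal_cases (N := N) (by rw [normalizer_eq_top]; exact le_top) with e | e
    · exact h11.not_two_dvd_nat ((he.mul_left _).trans (H.toFrm.card_K ▸ card_dvd_of_le e))
    · refine h9 (H.cent (H.toStp.le_centralizer_of_commutator (N := A) (commutator_le.2 fun a ha g _ => ?_) hu))
      have h13 : A = zpowers u := (eq_of_le_of_card_ge (zpowers_le.2 hu) (by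
        rw [Nat.card_zpowers, orderOf_eq_prime h8 h7, h1, show r = 1 by omega, pow_one])).symm
      rw [h13, mem_zpowers_iff_mem_range_orderOf, orderOf_eq_prime h8 h7] at ha
      obtain ⟨i, hi, rfl⟩ := Finset.mem_image.1 ha
      rcases (by have := Finset.mem_range.1 hi; omega : i = 0 ∨ i = 1) with rfl | rfl
      · rw [pow_zero, commutatorElement_one_left]; exact one_mem _
      · rw [pow_one]; exact e (h12 g)
  push Not at hi
  obtain ⟨g, h10, h11⟩ := hi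
  have h12 : K.index = 2 := ((Nat.dvd_prime Nat.prime_two).1 (H.toFrm.index_dvd.trans ho)).resolve_left fun e =>
    h9 (index_eq_one.1 e ▸ mem_top u)
  have h13 : g * u * g⁻¹ * u ∈ K := (mul_mem_iff_of_index_two h12).2
    (iff_of_false (fun e => h9 (by simpa [mul_assoc] using this.conj_mem' _ e g)) h9)
  obtain ⟨e, he⟩ := P.isPGroup' ⟨_, mul_mem h10 (hP hu)⟩
  obtain ⟨l, -, hl⟩ := (Nat.dvd_prime_pow Nat.prime_two).1
    (orderOf_dvd_of_pow_eq_one (show (g * u * g⁻¹ * u) ^ 2 ^ e = 1 from congrArg Subtype.val he))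
  obtain ⟨⟨y, hy⟩, h14⟩ := exists_prime_orderOf_dvd_card' (G := zpowers (g * u * g⁻¹ * u)) 2 (by
    rw [Nat.card_zpowers, hl]
    refine dvd_pow_self 2 fun e => h11 ?_
    rw [e, pow_zero, orderOf_eq_one_iff, mul_eq_one_iff_eq_inv] at hl
    rw [hl, inv_eq_iff_mul_eq_one, ← pow_two, h8])
  rw [← orderOf_coe] at h14
  have h16 := h5 ⟨y, zpowers_le.2 h13 hy⟩ (ord_img H (h14 ▸ pow_orderOf_eq_one y) fun e => by
    rw [show ((⟨y, hy⟩ : zpowers _) : Y) = 1 from e, orderOf_one] at h14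
    omega)
  have h17 := (cod_mono (ρ := ρ) (zpowers_le.2 hy)).trans (cod_zpowers_mul_le _ _)
  have h18 := cod_mono (ρ := ρ) (zpowers_le.2 hu)
  rw [cod_zpowers_conj] at h17
  dsimp only at h16
  omega

/-- a non-cubic offender -/
theorem cub_of_elt (H : Sit 2 K ρ π φ) (ho : Nat.card (Out S) ∣ 2) (hA : Off 2 ρ A)
    (h : ∀ j, 3 ≤ j → Nat.card ((A.subgroupOf K).map π) = 2 ^ j → ∃ x ∈ A, 2 * j ≤ cod ρ (zpowers x)) : Cub ρ A := by
  by_contra hc
  obtain ⟨r, -, h1, h2⟩ := hA.exists_card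
  obtain ⟨j, hj, h3, -⟩ := rank_le H ho hA.1 h1
  have h4 := (Nat.pow_dvd_pow_iff_le_right one_lt_two).1 (h1 ▸ hA.pow_dvd_of_not_cub hc)
  rw [small_two] at h4
  obtain ⟨x, hx, h5⟩ := h j (by omega) hj
  have h6 := cod_add_three_le_of_not_cub hA.1 hc hx
  omega

end two

theorem row88_two (ho : Nat.card (Out S) ∣ 2) (hm : Zc 2 S m)
    (h : ∀ E : Subgroup S, IsElementaryAbelian 2 E → ∀ j, 3 ≤ j → Nat.card E = 2 ^ j → ∃ t ∈ E, EB 2 m t (2 * j)) :
    Row88 2 S :=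
  row88_of_sit fun _ _ _ _ _ _ _ _ _ _ _ H A hA => ⟨A, hA, cub_of_elt H ho hA fun j h1 h2 => by
    obtain ⟨_, ⟨x, h3, rfl⟩, h4⟩ := h _ (elemAb_img hA.1) j h1 h2
    exact ⟨x, h3, h4.zc H hm rfl⟩⟩

/-- the automorphisms that fix a group of order `2 ^ e` are inner, all involutions have codimension above `2 e` -/
theorem row89_two (ho : Nat.card (Out S) ∣ 2) (hm : Zc 2 S m) (he : 2 ∣ Nat.card S) {e : ℕ} (h2 : 2 ≤ e)
    (h : ∀ t : S, orderOf t = 2 → EB 2 m t (2 * e + 1))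
    (hi : ∀ E : Subgroup S, IsElementaryAbelian 2 E → 2 ^ e ≤ Nat.card E → ∀ α : MulAut S, (∀ x ∈ E, α x = x) →
      α ∈ Inn S) : Row89 2 S :=
  row89_of_sit fun Y _ _ V _ _ _ K ρ π φ H A hA _ _ _ hK => by
    exfalso
    obtain ⟨x, h3, h4⟩ := exists_inner H ho he (fun y hy => le_trans (by omega) ((h _ hy).zc H hm rfl)) hA
    obtain ⟨r, -, h5, h6⟩ := hA.exists_card
    obtain ⟨j, hj, h7, -⟩ := rank_le H ho hA.1 h5
    have h8 := ((h _ h4).zc H hm rfl).trans (cod_mono (zpowers_le.2 h3))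
    refine hK fun u hu => H.toFrm.mem_inn_iff.1 (hi _ (elemAb_img (π := π) hA.1)
      (hj ▸ Nat.pow_le_pow_right two_pos (by omega)) _ ?_)
    rintro _ ⟨y, hy, rfl⟩
    exact H.conj u y y (by rw [elemAb_comm (b := (y : Y)) hA.1 hu hy, mul_inv_cancel_right])

end Cfsg.Agent.TwoF.SpE

private theorem dce_672abf42fa5a : _root_.True := by
  try have : _root_.True := by simp only [_root_.Cfsg.Agent.H859.Heis.gp.congr_simp]
  exact _root_.True.intro
end

-- part: TwoF/SpC/Chk2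
section
set_option linter.all false
open scoped Cfsg.Agent.FastGrp

/-!
# TwoF SP-C : more tools (helper83)
-/

set_option autoImplicit false

namespace Cfsg.Agent.TwoF.SpC

open Cfsg Subgroup Cfsg.Agent.TwoF.Gen Cfsg.Agent.TwoF.XE Cfsg.Agent.FS.Real

section two

variable {Γ : Type} [Group Γ] {D : PcD} {S G H E : Subgroup Γ} {x : ℕ → Γ} {T : List (ℕ × ℕ)}

/-- two levels: a large subgroup contains an element of the set `M` -/
theorem nb_exists2 (J : Gen D S x) (hT : tabOk D T = true) (hE : E ≤ S) (hA : IsElementaryAbelian 2 E) {M w k n : ℕ}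
    (h : allP T (fun a _ => tb M a || Nat.beq a w || nb T k n (msk T fun b m => tb m a && !tb M b)) = true)
    (h2 : 2 ≤ k) (hk : k < Nat.card E) : ∃ a, tb M a = true ∧ el x D.n a ∈ E := by
  obtain ⟨u, h3, h4⟩ : ∃ u ∈ E, u ∉ ({1, el x D.n w} : Set Γ) := by
    by_contra! e
    have h5 := (Set.ncard_le_ncard (show (E : Set Γ) ⊆ {1, el x D.n w} from e) (Set.toFinite _)).trans (Set.ncard_insert_le _ _)
    rw [Set.ncard_singleton, ← Nat.card_coe_set_eq, SetLike.coe_sort_coe] at h5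
    omega
  obtain ⟨a, ha, rfl⟩ := (J.mem u).1 (hE h3)
  have h5 : a ≠ 0 := fun e => h4 (Or.inl (e ▸ el_nil x _))
  obtain ⟨m, hm⟩ := tab_mem J hT hA ha h5 h3
  have h6 := allP_spec h _ hm
  rw [Bool.or_eq_true, Bool.or_eq_true] at h6
  rcases h6 with (h6 | h6) | h6
  · exact ⟨a, h6, h3⟩
  · exact absurd (Or.inr (congrArg (el x D.n) (beq_eq h6))) h4
  · exact nb_exists J hT hE hA (fun b m f1 f2 => tab_comm J hT hA f1 f2 ha h5 h3) h6 hk

theorem central_of (J : Gen D S x) {z : ℕ} (hz : z < D.N)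
    (h : allB D.n (fun i => Nat.beq (D.mul (2 ^ i) z) (D.mul z (2 ^ i))) = true) :
    ∀ s ∈ S, s * el x D.n z = el x D.n z * s := fun _ hs =>
  mem_centralizer_singleton_iff.1 (J.le_of (A := centralizer {el x D.n z}) (fun i hi =>
    mem_centralizer_singleton_iff.2 (by
      rw [← el_two_pow x _ hi, J.mul (D.two_pow_lt hi), J.mul hz, beq_eq (allB_spec h hi)])) hs)

/-- one may assume that the group contains the central involution -/
theorem wlog_z [Finite H] (hN : ∀ g ∈ H, ∀ x ∈ G, g⁻¹ * x * g ∈ G) (hP : IsPGroup 2 S) (hS : S ≤ H)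
    (hi : ¬ 2 ∣ S.relIndex H) {z : Γ} (hz : ∀ s ∈ S, s * z = z * s) (hE : E ≤ H) (hA : IsElementaryAbelian 2 E)
    (h0 : ¬ E ≤ G) {t y : Γ} (ht : t ∈ E) (hy : y ∈ H) (e : y * t * y⁻¹ = z) {c : ℕ}
    (h : ∀ E' ≤ S, IsElementaryAbelian 2 E' → ¬ E' ≤ G → z ∈ E' → Nat.card E' = Nat.card E → LH G E' c) :
    LH G E c := by
  have h1 := elemAb_map hA (MulAut.conj y).toMonoidHom
  have h2 : z ∈ E.map (MulAut.conj y).toMonoidHom := ⟨t, ht, e⟩
  obtain ⟨g, hg, h3, h4⟩ := exists_conj_cent hP hS hi hz (elemAb_isPGroup h1) (by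
    rintro _ ⟨u, hu, rfl⟩
    exact mul_mem (mul_mem hy (hE hu)) (inv_mem hy)) fun s hs => elemAb_comm h1 hs h2
  exact LH.of_conj (hN y hy) (LH.of_conj (hN g hg) (h _ h4 (elemAb_map h1 _) (not_le_conj hN hg (not_le_conj hN hy h0))
    ⟨z, h2, h3⟩ (by rw [card_map_conj, card_map_conj])))

end two

variable {p : ℕ} [hp : Fact p.Prime] {S : Type} [Group S]

/-- two conjugates of `t` generate a group that contains a group of order 9 -/
theorem li_four {z : ℕ} (hz : Zc p S z) (h3 : Nat.Coprime 3 z) (hp3 : 3 ≠ p)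
    (h : ∀ x : S, x ≠ 1 → x ^ 3 = 1 → Li p x 6) {t t' g a b : S} (hg : g * t = t' * g)
    (ha : a ∈ zpowers t ⊔ zpowers t') (hb : b ∈ zpowers t ⊔ zpowers t') (hc : a * b = b * a) (a3 : a ^ 3 = 1)
    (b3 : b ^ 3 = 1) (h0 : b ≠ 1) (h1 : ∀ i < 3, a * b ^ i ≠ 1) : Li p t 4 :=
  le_of_elt fun Y _ _ V _ _ _ K ρ π φ H y hy => by
    obtain ⟨k, rfl⟩ := H.surj g
    have key : ∀ s ∈ zpowers t ⊔ zpowers t', s ^ 3 = 1 →
        ∃ u ∈ zpowers y ⊔ zpowers (k * y * (k : Y)⁻¹), φ u = MulAut.conj s ∧ u ^ 3 = 1 := fun s hs e => by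
      obtain ⟨u, h4, h5⟩ : MulAut.conj s ∈ (zpowers y ⊔ zpowers (k * y * (k : Y)⁻¹)).map φ := by
        refine sup_le (a := zpowers t) (b := zpowers t') (c := comap MulAut.conj (map φ _))
          (zpowers_le.2 ⟨y, mem_sup_left (mem_zpowers y), hy⟩) (zpowers_le.2 ⟨_, mem_sup_right (mem_zpowers _), ?_⟩) hs
        rw [map_mul, map_mul, map_inv, H.toFrm.φ_coe, hy, ← map_inv, ← map_mul, ← map_mul, hg, mul_inv_cancel_right]
      obtain ⟨v, h6, h7, h8⟩ := hz.exists_lift H h3 (y := u) (by rw [h5, ← map_pow, e, map_one])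
      exact ⟨v, zpowers_le.2 h4 h6, h7.trans h5, h8⟩
    obtain ⟨u, u1, u2, u3⟩ := key a ha a3
    obtain ⟨v, v1, v2, v3⟩ := key b hb b3
    have h4 : u * v = v * u := by
      rw [← mul_inv_eq_iff_eq_mul]
      refine (hz.lift_unique H h3 ⟨b, v2.symm⟩ ?_ v3 (by rw [conj_pow, v3, mul_one, mul_inv_cancel])).symm
      rw [map_mul, map_mul, map_inv, u2, v2, ← map_inv, ← map_mul, ← map_mul, hc, mul_inv_cancel_right]
    have h5 := sum_cod_rank_two (ρ := ρ) h4 Nat.prime_three (cast_ne_zero Nat.prime_three hp3) u3 v3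
    have h6 : ∀ i < 3, 6 ≤ cod ρ (zpowers (u * v ^ i)) := fun i hi =>
      (h _ (h1 i hi) ((elemAb_two hc a3 b3).2 _ (mul_mem (mem_sup_left (mem_zpowers a))
        (pow_mem (mem_sup_right (mem_zpowers b)) i)))).elt H (by rw [map_mul, map_pow, u2, v2, map_mul, map_pow])
    have h7 := (h b h0 b3).elt H v2
    have h8 := (cod_mono (ρ := ρ) (sup_le (zpowers_le.2 v1) (zpowers_le.2 u1))).trans (cod_sup_le _ _)
    rw [cod_zpowers_conj] at h8
    simp only [Finset.sum_range_succ, Finset.sum_range_zero] at h5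
    have := h6 0 (by decide)
    have := h6 1 (by decide)
    have := h6 2 (by decide)
    omega

/-- rank at most two -/
theorem row_rank_two (ho : ¬ p ∣ Nat.card (Out S))
    (h1 : ∀ E : Subgroup S, IsElementaryAbelian p E → ∀ j, 2 ≤ j → Nat.card E = p ^ j → j = 2)
    (h2 : ∀ t : S, t ≠ 1 → t ^ p = 1 → Li p t 4) : Row p S := by
  refine ⟨row88_of_sit fun Y _ _ V _ _ _ K ρ π φ H A hA => ⟨A, hA, by_contra fun hc => hc ?_⟩, row89_of_not_dvd ho⟩
  obtain ⟨j, -, h5, -⟩ := hA.exists_card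
  have h3 := SpD.card_img H (elemAb_isPGroup hA.1)
  have h4 := H.toFrm.le_of_not_dvd (elemAb_isPGroup hA.1) ho
  rw [relIndex_eq_one.2 h4, mul_one, h5] at h3
  have h6 := (Nat.pow_dvd_pow_iff_le_right hp.out.one_lt).1 (h5 ▸ hA.pow_dvd_of_not_cub hc)
  have h7 := one_le_small p
  obtain rfl := h1 _ (SpD.elemAb_img hA.1) j (by omega) h3
  refine SpE.cub_of_sq hA h5 fun a ha h5 => ?_
  have h8 := SpE.ord_img H (x := ⟨a, h4 ha⟩) (hA.1.2 a ha) h5
  exact (h2 _ (fun e => hp.out.one_lt.ne (by rw [← h8, e, orderOf_one])) (h8 ▸ pow_orderOf_eq_one _)).elt H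
    (H.toFrm.φ_coe ⟨a, h4 ha⟩)

end Cfsg.Agent.TwoF.SpC
end

-- part: TwoF/SpC/HSTwo
section
set_option linter.all false
open scoped Cfsg.Agent.FastGrp

/-!
# TwoF SP-C : the row of the Higman-Sims group in characteristic two (helper83)
-/

set_option autoImplicit false
set_option maxRecDepth 100000
set_option maxHeartbeats 400000

namespace Cfsg.Agent.TwoF.SpC.HS

open Cfsg Subgroup Cfsg.Agent.TwoF.Gen Cfsg.Agent.FS.Real
open Cfsg.Agent.HN.HS100 Cfsg.Agent.HN.AutBound Cfsg.Agent.HN.AutHS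
open Cfsg.Agent.SporadicA.PermTab (autG)

theorem hN : ∀ g ∈ autG 100 adjA, ∀ x ∈ Q, g⁻¹ * x * g ∈ Q := fun g hg x hx =>
  mem_Q_iff.2 ⟨mul_mem (mul_mem (inv_mem hg) (Q_le hx)) hg, by
    rw [map_mul, map_mul, sign_Q hx, mul_one, ← map_mul, inv_mul_cancel, map_one]⟩

theorem zc (p : ℕ) : XE.Zc p Q 2 := nonempty_Q.1.elim fun e => (XE.zc_of_cyclic S2046.result).of_equiv e

theorem relIndex_eq {A : Subgroup (Equiv.Perm (Fin 100))} (h : A ≤ autG 100 adjA) :
    Nat.card A * A.relIndex (autG 100 adjA) = 88704000 := by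
  rw [← card_autG, ← (A.subgroupOf (autG 100 adjA)).card_mul_index, Nat.card_congr (subgroupOfEquivOfLe h).toEquiv]
  rfl

variable {x : ℕ → Equiv.Perm (Fin 100)} {S : Subgroup (Equiv.Perm (Fin 100))}

theorem lz (hv : ∀ a, MM.R (MM.elc X 10 a) (el x 10 a)) : LE Q (el x 10 512) 8 :=
  cts_le hg hv hK cz_ok 512 (by decide)

variable (J : Gen D S x) (hS : S ≤ autG 100 adjA) (hv : ∀ a, MM.R (MM.elc X 10 a) (el x 10 a))
include J

theorem hz : ∀ s ∈ S, s * el x 10 512 = el x 10 512 * s := central_of J (z := 512) (by decide) (by decide +kernel)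

theorem rk {E : Subgroup (Equiv.Perm (Fin 100))} (hE : E ≤ S) (hA : IsElementaryAbelian 2 E) {r : ℕ}
    (hc : Nat.card E = 2 ^ r) : r ≤ 5 :=
  le_of_pow_le hc (nb_card J T_ok hE hA (f := fun _ _ => true) (fun _ _ _ _ => rfl) n63) (by decide)

include hS hv

theorem la {a : ℕ} (h : tb Ma a = true) : ∃ y ∈ autG 100 adjA, y * el x 10 a * y⁻¹ = el x 10 512 :=
  cls_seed J (Pr := fun t => ∃ y ∈ autG 100 adjA, y * t * y⁻¹ = el x 10 512)
    (fun s hs t ⟨y, e1, e2⟩ => ⟨y * s⁻¹, mul_mem e1 (inv_mem (hS hs)), by rw [← e2]; group⟩)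
    (fun a ha => (fu_spec hg hv (hv 512) fa_ok a ha).imp fun _ e => ⟨Q_le e.1, e.2⟩) Ma_ok h

theorem lb {a : ℕ} (h : tb Mb a = true) : LE Q (el x 10 a) 10 :=
  cls_seed J (Pr := fun t => LE Q t 10) (fun _ hs _ h => h.cj hN (hS hs)) (cts_le hg hv hK cb_ok) Mb_ok h

theorem lo {a : ℕ} (h : tb Mo a = true) : LE Q (el x 10 a) 3 ∧ Gd Q S (el x 10 512) (el x 10 a) 4 9 :=
  cls_seed J (Pr := fun t => LE Q t 3 ∧ Gd Q S (el x 10 512) t 4 9)
    (fun s hs _ h => ⟨h.1.cj hN (hS hs), h.2.cj hN hS hs (hz J s hs)⟩) (fun a ha => ⟨cts_le hg hv hK co_ok a ha,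
      fun _ _ _ e1 e2 _ => cts_spec hg hv hK (hv 512) (lz hv) c4_ok
        ((by decide : co.map Ct.b = c4.map Ct.b) ▸ ha) e1 e2⟩) Mo_ok h

theorem l5 {a : ℕ} (h : tb M5 a = true) : Gd Q S (el x 10 512) (el x 10 a) 5 11 :=
  cls_seed J (Pr := fun t => Gd Q S (el x 10 512) t 5 11) (fun s hs _ h => h.cj hN hS hs (hz J s hs))
    (fun _ ha _ _ _ e1 e2 _ => cts_spec hg hv hK (hv 512) (lz hv) c5_ok ha e1 e2) M5_ok h

omit J hS hv in
theorem hQ : Q.relIndex (autG 100 adjA) = 2 := by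
  have h3 := relIndex_eq Q_le
  rw [card_Q] at h3
  omega

theorem inn (h2 : ∀ i, 0 < i → i < 10 → x i ∈ Q) (h0 : x 0 ∉ Q) {E : Subgroup (Equiv.Perm (Fin 100))} (hE : E ≤ S)
    (hA : IsElementaryAbelian 2 E) {r : ℕ} (hr : 1 < r) (hc : Nat.card E = 2 ^ r) :
    ∃ t ∈ E, (∃ y ∈ autG 100 adjA, y * t * y⁻¹ = el x 10 512) ∨ LE Q t 10 := by
  have h3 := card_le_two_mul hQ (hE.trans hS)
  have h4 : 2 ^ 2 ≤ 2 ^ r := Nat.pow_le_pow_right (by decide) hr
  obtain ⟨⟨t, h5, h6⟩, h7⟩ := ne_bot_iff_exists_ne_one.1 ((one_lt_card_iff_ne_bot (E ⊓ Q)).1 (by omega))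
  obtain ⟨a, ha, rfl⟩ := (J.mem t).1 (hE h5)
  obtain ⟨m, hm⟩ := tab_mem J T_ok hA ha (fun e => h7 (Subtype.ext (by subst e; exact el_nil x D.n))) h5
  have h8 : (!Nat.beq (a % 2) 0 || tb Ma a || tb Mb a) = true := allP_spec ev _ hm
  rw [Bool.or_eq_true, Bool.or_eq_true] at h8
  exact ⟨_, h5, h8.imp (fun e => la J hS hv (e.resolve_left fun e' =>
    nbeq_ne e' (even_of_mem (n := 10) (by decide) h2 h0 h6))) (lb J hS hv)⟩

omit J hS hv in
theorem row2 : Row 2 Q := by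
  obtain ⟨x, hx, h1, h2, h0⟩ := exists_gen hg hZ X_ok Q_le Z_mem Z_not
  obtain ⟨S, J⟩ := Mdl.RX.gen (D := D) hx D_ok X_rel
  have hS : S ≤ autG 100 adjA := J.le_of h1
  have hv : ∀ a, MM.R (MM.elc X 10 a) (el x 10 a) := Mdl.RX.el (D := D) hx
  have hi : ¬ 2 ∣ S.relIndex (autG 100 adjA) := fun ⟨c, hc⟩ => by
    have h3 := relIndex_eq hS
    rw [J.card, hc, show 2 ^ D.n = 1024 from rfl] at h3
    omega
  have i8 : ∀ E ≤ S, IsElementaryAbelian 2 E → ∀ r, 1 < r → Nat.card E = 2 ^ r → ∃ t ∈ E, LE Q t 8 :=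
    fun E hE hA r hr hc => (inn J hS hv h2 h0 hE hA hr hc).imp fun t h => ⟨h.1, h.2.elim
      (fun ⟨y, e1, e2⟩ => LE.of_conj (hN y e1) (by rw [e2]; exact lz hv)) fun e => e.le (by decide)⟩
  refine row_two (fun _ h => eq_one_of_comm fun q hq => (h q hq).symm) exists_perm hN
    (nonempty_Q.1.elim fun e => (SpE.zc_of_mul (m := 1) Nat.prime_two S2046.result).of_equiv e) J.isPGroup hS hi
    (fun E hE hA r hr hc => ?_) fun E hE hA e0 r hr hc => ?_
  · obtain ⟨t, h3, h4⟩ := i8 E hE hA r (by omega) hc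
    exact ⟨t, h3, h4.le (by have := rk J hE hA hc; omega)⟩
  by_cases r1 : r ≤ 1
  · obtain ⟨a, h3, h4⟩ := exists_odd J T_ok hE hA h2 e0 od
    exact ((lo J hS hv h3).1.lh h4).le (by omega)
  by_cases r3 : r ≤ 3
  · obtain ⟨t, h3, h4⟩ := i8 E hE hA r (by omega) hc
    exact (h4.lh h3).le (by omega)
  obtain rfl | rfl : r = 4 ∨ r = 5 := by have := rk J hE hA hc; omega
  · obtain ⟨t, h3, ⟨y, h4, h5⟩ | h4⟩ := inn J hS hv h2 h0 hE hA (by decide) hc
    · refine wlog_z hN J.isPGroup hS hi (hz J) (hE.trans hS) hA e0 h3 h4 h5 fun E' f1 f2 f3 f4 f5 => ?_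
      obtain ⟨a, h6, h7⟩ := exists_odd J T_ok f1 f2 h2 f3 od
      exact (lo J hS hv h6).2 E' f1 f2 f4 h7 (f5.trans hc)
    · exact (h4.lh h3).le (by decide)
  · have h3 := card_le_two_mul hQ (hE.trans hS)
    obtain ⟨a, h4, h5⟩ := nb_exists J T_ok (inf_le_left.trans hE) (elemAb_of_le hA (inf_le_left : E ⊓ Q ≤ E))
      (f := fun a _ => Nat.beq (a % 2) 0)
      (fun a _ _ e => by rw [even_of_mem (n := 10) (by decide) h2 h0 e.2]; rfl) n15 (by omega)
    obtain ⟨y, h6, h7⟩ := la J hS hv h4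
    refine wlog_z hN J.isPGroup hS hi (hz J) (hE.trans hS) hA e0 h5.1 h6 h7 fun E' f1 f2 _ f4 f5 => ?_
    obtain ⟨b, h8, h9⟩ := nb_exists2 J T_ok f1 f2 n31 (by decide) (by rw [f5, hc]; decide)
    exact l5 J hS hv h8 E' f1 f2 f4 h9 (f5.trans hc)

end Cfsg.Agent.TwoF.SpC.HS
end

-- part: TwoF/SpC/HS
section
set_option linter.all false
open scoped Cfsg.Agent.FastGrp

/-!
# TwoF SP-C : the row of the Higman-Sims group (helper83; the data are generated)
-/

set_option autoImplicit false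
set_option maxRecDepth 100000
set_option maxHeartbeats 400000

namespace Cfsg.Agent.TwoF.SpC

open Cfsg Subgroup Cfsg.Agent.TwoF.Gen Cfsg.Agent.FS.Real Cfsg.Agent.H859 Cfsg.Agent.TwoF.XE
open Cfsg.Agent.HN.HS100 Cfsg.Agent.HN.AutBound Cfsg.Agent.HN.AutHS

namespace HS

/-- the model of the simple group -/
noncomputable abbrev N : Mdl Q := subM MM Q

theorem hg' (i : ℕ) : ∃ y ∈ (⊤ : Subgroup Q), N.R (gt i) y := by
  obtain ⟨y, h1, h2⟩ := hg i
  exact ⟨⟨y, h1⟩, mem_top _, h2⟩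

/-- the codes -/
def L : ℕ → ℕ := get 1100 0x9014c1700e0be044020180540b01903a0c60280601002a1601b8510381741e81a062128258570800902f05b04a0200f81b0b80f81682b0c01481e00f0a01680b80d0660142485501209c268360721101a8280c21080100609802c1784f0020780e82008e08c1103f05205831034026150228120000ec0a03003200c1082600e1182c84e0ac10c2083801a0081c02c0840f40903f07800c3104e0680202301f0641602381b0380e43002d0b41341886308001c0d051032178178290761240502b03a0580302e02e1702a0560021641400f0400dc0281105409c220230b60380c05d07c1200f00c0a00c01b01306a1300a0430c213c110250740cc2504100012c0a8100ae17c2a80b0081482280904c14c1202102a1802e01e0800341985100a0f01e86202e0902f0460240c80104904a1082504e0521681700e0440b0240470a401c1c80305e0001a81006e150040260ac14c0504f082160098090540ec0d80608816c308310960d80d05f0b21140c0340860fc2801d0280b40b01f0180f82b83a09a080118300ba03c13821070010140110380043182b0321540584c07c00c3082e0a00d41f85c03005c1c056024044228420a41240b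01408e008130200661342985904a0281e8410320000204006e0202a82f02a040140480ba0340e0390580ec1884600e0740984b0561442183405a1282784e0461881080907406c3005e01816c1481a0020a81905f04e0182c01f01e0380581e06c0c02606307815c028440440902d05405a0a8308590b60c00302303006c1084802e1601b0270880b02584304a1681c0130380441d00f07614c1e8620520801f06006e1442a83c0a41082481d0040340f82205011c0a0080b8158000320561181884c0081001a83f00e178130390140482504103c17c0d0190021500b0500201382683305c0bc2282401613c3183401c15c028150120302e8030821000881f06a0802b0180180100d8060501200706002c0c82902900e0741303909e10c3082e016020230220c4068288010060081e04e0a61101c00f01209c0902a05a1301d05f0281142580506805c248470ae0781202f0ba0c02a8230000d82104d0b816c1581001a1603183e06e1682805902a0282a03f0380941d85e0660b00983107a084250190c61342404004012c2a0090000982c8450920701781e07c0c40585c0940e00b04c04a0340980205801c1b8510560fc2303a0540b40500c0861802382e0b016c1e8050aa054040040661382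98390761081482201c06c2f01d064044108140481740f8170b40d00c8300ac1881185f0ae09c140100780482780f0880d4280520820180d0180061840083602e0fc1a84803a0cc100570b80400c01a0a61782284d05413c0f84400e0782505207c1440181c06e054160630641242585004e08c058430b20e40d8210081082a82404a0d0010580821301c06102416c0882b0be0500703c05e138230190a803c31009052018188010800c01680801a0f41d02600a158238360500ec0005a05c05811013018174050600bc0d00380207c0ec048280400880b8210b41381705b05a03c300050340dc2e8180540b00603806c1043103c04e0c41281e00c0bc0184f03a17c2004d0981841803f0880502c84302a058070490321540505100011c1201109402c1c80402618c008290a014c2100801a0d41d03307a06c240120a80c80e05c0ac0ac2305704c1140801f0a408c2c04b08a0000d8440201782d0600c403c100580320101c85405e08c2903805c0541281d0180440a0090c60880283e0300c01d02807e1702083300e0c8270160b21440085702e0f4148020a613c2182d01c1741884a0a00842303706c1343082403807c2600304c0200582c02409c2a83b0b60f02002b05417c2b04b068108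2401a0920342380603c0281a81308216c2305c00607c248340700942a8580320f80b86208603c0d81608e0301982806c1101303c0740dc2784a0a60683180607e02c188230961142e8540120480081d09a0141e82c05a0a42100a0bc120190400260e4120070540842705203c0ac3001c0a20bc0880202809c100590a00ec0200e02a17c2b02201a020308300b4130170570200601a80005216c090400bc0ac1980b0a00300d858088074240380140541286207a1542903406e0f80484e0620e4238110580082080407e0341d02109213c1b0270401181a81904c0c8228530840b8168080be1680285c0a81740383c02808c1204b03c0400300302e068260180b20002682202c03c2b81f0c20702502a0500c01d8430a21583186001c0bc008130c604c1303e02007c1b85702c0901505800c02c0a0620600242a80007a08c248600c20641c82208a054188560581081700d07e1301d01708c13c2685b0241481a8400401042380a05e0c80c00803c084148110a012c2401b00e0942c80f0060381405f0b40b40201a0180e01d8510a81740e81c0660ac1a03c08814c1b04309c1700284a0bc0080082708e1180f01009618c030440440101a85105203c2c8420ba08c1b0280421540984105610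01d82708a0200285f064028160380240301d0330ae060008480721481200707e1300a00201a0701e8430b8168058090941840004e0b00940f8370060b81682609e16c1a01d078140100190c405c0b00e0a60f8150600920c00884d0621582f02f0361500a81a0280942a84d0040c41380a0561581c80900a1001b80c0901400885a07e0802d81d0a80d8238580320001a0300741801685205c1182486108a0ec0d8230060580084303c0602600e0a60d40583d0840182f0040a2138220150501700901f02e1641482406612c1605704c0a810841044070068130701882e8080c60401781a0641280380f0780f82785f08e020018620c00b4048460881282c8280bc0d81e05c0700a82980605c0801286304409c1a0230860ac2b84b00e0381601606a16c228370300c81c8560c2144278050660740585401e0041e83b0600342085205e1380d01c0800f80a81f02e0780a01203604c1d02904c044120190040842405f0b40302c00a09200002010098174188500aa1341f8420281500e00e0c01300b00004a03c130270640e01201001a0a0030040aa004310290141402485d08e0ac1d8080680c01682306e16c1e81207410c2704802a1681e04503e0140e81a02200c0582c088100188090540d40601b0b01180f04f07e05c2f0390401700c80705c1581984107c164250020a612c1b0130c617c288220ae1480c02f04213430842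

theorem ex : ∃ v : ℕ → Q, ∀ i, i < 17 → N.R (L i) (v i) :=
  sub_gen hg (W := [[7, 1, 2, 6, 4, 10, 7, 5, 9, 9, 7], [7, 1, 2, 9, 8, 10, 5, 10], [5, 8, 1, 0, 9, 4, 5, 3, 9, 8, 7, 5, 5, 8, 9, 10],
    [6, 0, 2, 10, 9, 4, 3, 10, 9, 6, 5, 10, 7, 10, 10], [2, 2, 6, 10, 4, 6, 5, 5, 9, 10, 8, 10], [0, 1, 0, 7, 3, 8,
    3, 5, 9, 10, 10], [7, 4, 5, 3, 9, 7, 5, 5, 9], [0, 1, 0, 3, 4, 3, 5, 9, 5, 5, 10, 9, 8, 7, 10], [3, 1, 1, 5, 7,
    3, 3, 6, 5, 5, 5, 9, 8], [7, 0, 1, 10, 9, 4, 3, 7, 6, 5, 5, 10, 9, 10], [3, 2, 1, 8, 4, 8, 5, 5, 5, 10, 7, 9, 8,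
    10, 10], [0, 1, 1, 0, 5, 4, 3, 3, 6, 10, 5, 8, 7, 9, 8, 10], [2, 10, 1, 0, 10, 3, 3, 8, 6, 5, 5, 10, 8, 10, 10],
    [9, 4, 1, 0, 3, 8, 3, 10, 7, 5, 10, 9, 10, 8, 10], [3, 4, 1, 5, 4, 5, 9, 5, 5, 9, 9, 8, 7], [0, 3, 0, 4, 5, 3,
    3, 5, 10, 6, 5, 8, 10, 10], [2, 3, 1, 0, 3, 7, 5, 3, 8, 5, 5, 9, 10, 8]]) (by decide +kernel)

/-- the check for two conjugates -/
noncomputable def ck4 (t g t' b : ℕ) (w : List ℕ) (e : ℕ) (w' : List ℕ) : Bool :=
  force (N.pw (wc N (fun i => bif Nat.beq i 0 then t else t') w) e) fun a =>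
    force (wc N (fun i => bif Nat.beq i 0 then t else t') w') fun u =>
      N.eqv (N.mul g t) (N.mul t' g) && N.eqv (N.mul u a) (N.mul b u) && N.eqv (N.mul a b) (N.mul b a) &&
        N.eqv (N.pw a 3) N.one && N.eqv (N.pw b 3) N.one && N.neq b N.one &&
          allB 3 fun i => N.neq (N.mul a (N.pw b i)) N.one

theorem four {ct cg ct' cb : ℕ} {t g t' b : Q} (ht : N.R ct t) (hg : N.R cg g) (ht' : N.R ct' t') (hb : N.R cb b)
    [Fact (Nat.Prime 5)] (h3 : ∀ x : Q, x ≠ 1 → x ^ 3 = 1 → Li 5 x 6) (w : List ℕ) (e : ℕ) (w' : List ℕ)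
    (h : ck4 ct cg ct' cb w e w' = true) : Li 5 t 4 := by
  have h1 : ∀ i, ∃ y ∈ zpowers t ⊔ zpowers t', N.R (bif Nat.beq i 0 then ct else ct') y := fun i => by
    cases Nat.beq i 0
    exacts [⟨_, mem_sup_right (mem_zpowers _), ht'⟩, ⟨_, mem_sup_left (mem_zpowers _), ht⟩]
  obtain ⟨a, a1, a2⟩ := in_wc h1 w
  obtain ⟨u, u1, u2⟩ := in_wc h1 w'
  have a3 := Mdl.R_pw a2 e
  unfold ck4 at h
  simp only [force_eq, Bool.and_eq_true] at h
  obtain ⟨⟨⟨⟨⟨⟨e1, e2⟩, e3⟩, e4⟩, e5⟩, e6⟩, e7⟩ := h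
  exact li_four (zc 5) (by decide) (by decide) h3 (N.eq_of (N.R_mul hg ht) (N.R_mul ht' hg) e1) (pow_mem a1 e)
    ((mul_mem_cancel_right u1).1 (N.eq_of (N.R_mul u2 a3) (N.R_mul hb u2) e2 ▸ mul_mem u1 (pow_mem a1 e)))
    (N.eq_of (N.R_mul a3 hb) (N.R_mul hb a3) e3) (N.eq_of (Mdl.R_pw a3 3) N.R_one e4)
    (N.eq_of (Mdl.R_pw hb 3) N.R_one e5) (N.ne_of hb N.R_one e6)
    fun i hi => N.ne_of (N.R_mul a3 (Mdl.R_pw hb i)) N.R_one (allB_spec e7 hi)

/-- the elements of the Sylow 5-subgroup -/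
noncomputable def e5 (n : ℕ) : ℕ := N.mul (N.mul (N.pw (L 0) (n % 5)) (N.pw (L 1) (n / 5 % 5))) (N.pw (L 2) (n / 25))

/-- both arguments by value -/
private noncomputable def bvH (f : ℕ → ℕ → ℕ) (a b : ℕ) : ℕ :=
  Nat.rec 0 (fun a _ => Nat.rec 0 (fun b _ => f a b) (Nat.succ b)) (Nat.succ a)

/-- composition of tables -/
private noncomputable def pmH (n a b : ℕ) : ℕ := Nat.rec 0 (fun k r => Nat.add r (Nat.shiftLeft (Nat.land (Nat.shiftRight a (Nat.mul 11
  (Nat.land (Nat.shiftRight b (Nat.mul 11 k)) 2047))) 2047) (Nat.mul 11 k))) n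

private theorem pmH_eq (a b n : ℕ) : pack 11 n (fun k => get 11 a (get 11 b k)) = pmH n a b := by
  induction n with
  | zero => rfl
  | succ k ih =>
    rw [pack_succ, ih]
    show pmH k a b + 2 ^ (11 * k) * (a >>> (11 * (b >>> (11 * k) % 2 ^ 11)) % 2 ^ 11) =
      pmH k a b + (a >>> (11 * (b >>> (11 * k) &&& (2 ^ 11 - 1))) &&& (2 ^ 11 - 1)) <<< (11 * k)
    rw [Nat.and_two_pow_sub_one_eq_mod, Nat.and_two_pow_sub_one_eq_mod, Nat.shiftLeft_eq, Nat.mul_comm]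

private theorem pmul_eqH (n : ℕ) : pmul 11 n = bvH (pmH n) := by
  funext a b
  delta pmul
  rw [force_eq, force_eq]
  exact pmH_eq a b n

private theorem N_mul : Mdl.mul N = bvH (pmH 100) := pmul_eqH 100

/-- the class `5A` -/
def fA : List (ℕ × List ℕ) := [(25, [0, 1, 0, 7, 3, 4, 5, 10, 7, 5, 9, 8]), (50, [1, 1, 0, 4, 5, 3, 9, 9, 6, 5, 10, 7, 10, 10]), (75, [6, 2, 6,
  10, 4, 8, 9, 6, 5, 10, 9, 7]), (100, [3, 1, 1, 10, 9, 4, 3, 10, 6, 5, 10, 9])]

/-- the class `5C` -/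
def fC : List (ℕ × List ℕ) := [(1, [7, 0, 1, 3, 10, 4, 3, 10, 6, 8, 10, 7, 10, 10]), (2, [2, 1, 2, 4, 4, 9, 6, 5, 5, 10, 8]), (3, [0, 1, 0, 6, 4,
  5, 3, 8, 5, 5, 5, 10, 7, 9, 8]), (4, [6, 0, 2, 7, 4, 3, 3, 10, 9, 6, 5, 5, 10, 8, 10, 10]), (5, [0, 3, 1, 10, 6,
  4, 5, 7, 5, 5, 10, 8]), (6, [10, 1, 0, 3, 7, 4, 10, 5, 6, 5, 8, 7, 9, 8]), (9, [6, 2, 4, 10, 4, 3, 7, 6, 5, 5, 9,
  9, 8, 10, 10]), (10, [7, 1, 1, 7, 4, 3, 5, 7, 9, 8, 10, 10]), (12, [2, 7, 5, 3, 3, 5, 8, 5, 5, 9, 9, 7, 10]), (13,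
  [5, 2, 2, 9, 4, 5, 3, 9, 8, 5, 5, 8, 7, 10]), (15, [4, 1, 9, 3, 3, 5, 10, 10, 5, 9, 7, 9, 10, 10]), (17, [8, 0, 1,
  7, 5, 3, 3, 6, 5, 7, 9, 7, 10]), (18, [4, 1, 0, 5, 4, 5, 3, 6, 10, 10, 5, 9, 10, 10]), (20, [8, 1, 5, 4, 7, 5, 8,
  7, 9, 8, 10]), (21, [5, 2, 1, 5, 4, 5, 3, 9, 6, 9, 9, 8, 10, 10]), (24, [1, 4, 1, 10, 4, 5, 3, 9, 6, 5, 9, 8, 10,
  10]), (26, [7, 0, 1, 4, 10, 4, 3, 5, 9, 6, 10, 7, 9]), (27, [7, 1, 2, 5, 4, 5, 3, 10, 9, 6, 5, 5, 9, 10, 8, 10,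
  10]), (28, [5, 1, 0, 7, 10, 4, 3, 10, 5, 5, 10]), (29, [7, 1, 2, 10, 6, 4, 5, 10, 5, 5, 9, 10]), (30, [7, 2, 8, 3,
  8, 5, 5, 5, 9, 7, 9, 10]), (31, [1, 7, 6, 4, 9, 9, 5, 5, 7, 10, 7]), (34, [3, 4, 1, 6, 4, 8, 10, 5, 9, 9, 8, 7,
  10, 10]), (35, [7, 4, 0, 8, 3, 7, 10, 6, 5, 10, 8]), (37, [4, 0, 9, 8, 4, 5, 9, 5, 5, 9, 7, 10, 10]), (38, [1, 8,
  1, 3, 8, 3, 3, 6, 10, 6, 5, 10, 9, 10, 10]), (40, [1, 7, 1, 9, 4, 3, 5, 10, 5, 5, 9, 7, 9]), (42, [3, 4, 1, 5, 4,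
  3, 8, 10, 5, 10, 9, 10]), (43, [1, 0, 3, 10, 5, 6, 5, 9]), (45, [3, 4, 0, 8, 3, 3, 5, 7, 9, 8, 10, 10]), (46, [7,
  5, 1, 0, 8, 5, 5, 9, 7, 10, 10]), (49, [1, 0, 9, 3, 3, 6, 9, 6, 5, 5, 10, 7, 9, 8, 10]), (51, [0, 1, 0, 7, 3, 4,
  5, 10, 7, 5, 9, 8]), (52, [2, 1, 2, 3, 8, 3, 6, 8, 10, 7, 10]), (53, [1, 2, 6, 4, 6, 5, 5, 5, 7, 9, 10, 10]), (54,
  [4, 2, 1, 9, 3, 4, 5, 9, 8, 10, 10]), (55, [0, 4, 1, 3, 9, 7, 5, 5, 9, 9, 8, 7, 10, 10]), (56, [0, 3, 0, 5, 3, 4,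
  10, 7, 5, 9, 9, 7]), (59, [8, 0, 1, 3, 3, 3, 4, 9, 7, 5, 5, 10, 7, 10, 10]), (60, [3, 2, 4, 10, 4, 9, 7, 5, 9, 10,
  8]), (62, [4, 0, 1, 5, 7, 4, 5, 8, 5, 5, 10, 9, 10, 8, 10, 10]), (63, [8, 0, 1, 7, 5, 3, 3, 10, 10, 5, 10, 9,
  10]), (65, [3, 2, 6, 4, 7, 10, 6, 5, 8, 7, 9, 8]), (67, [0, 2, 8, 5, 3, 3, 9, 9, 5, 5, 9, 10]), (68, [2, 4, 3, 8,
  9, 6, 5, 5, 9, 9, 7, 10]), (70, [7, 1, 7, 4, 3, 5, 9, 7, 9, 10]), (71, [0, 7, 1, 5, 4, 8, 10, 5, 9, 8, 7]), (74,
  [1, 0, 5, 3, 6, 4, 7, 5, 7, 9, 8]), (76, [1, 2, 7, 5, 3, 3, 7, 5, 5, 9, 10, 8, 10]), (77, [10, 3, 1, 4, 3, 3, 5,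
  7, 5, 5, 10, 9, 10, 8, 10, 10]), (78, [6, 1, 0, 7, 10, 4, 3, 6, 5, 5, 8, 10, 7, 10]), (79, [6, 1, 0, 4, 5, 3, 3,
  6, 10, 10, 5, 9, 7, 9, 10, 10]), (80, [2, 3, 1, 0, 7, 3, 3, 6, 5, 5, 7, 10]), (81, [4, 0, 1, 5, 7, 3, 3, 5, 5, 10,
  7, 9]), (84, [2, 4, 1, 7, 4, 3, 3, 10, 6, 5, 10]), (85, [6, 4, 0, 7, 5, 3, 9, 10, 5]), (87, [9, 0, 2, 7, 10, 4, 3,
  10, 6, 9, 7, 9]), (88, [0, 1, 5, 8, 3, 3, 8, 9, 6, 5, 10, 9, 8, 7, 10, 10]), (90, [9, 0, 1, 0, 8, 4, 3, 3, 8, 5,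
  5, 7, 9, 8, 10, 10]), (92, [3, 1, 5, 8, 3, 3, 5, 8, 5, 5, 10, 9, 8, 7, 10, 10]), (93, [5, 3, 0, 7, 6, 4, 9, 8, 7,
  5, 5, 9, 8, 7]), (95, [9, 2, 7, 5, 3, 9, 9, 5, 5, 8, 9, 7, 10, 10]), (96, [6, 0, 1, 7, 3, 8, 3, 5, 10, 6, 7, 10]),
  (99, [1, 1, 0, 9, 5, 3, 3, 6, 9, 6, 5, 5, 10, 9, 10]), (101, [6, 0, 2, 10, 9, 4, 3, 10, 9, 6, 5, 10, 7, 10, 10]),
  (102, [4, 3, 0, 8, 6, 4, 5, 10, 7, 5, 9, 9, 7, 10]), (103, [2, 4, 0, 10, 4, 5, 3, 8, 9, 6, 5, 5, 7, 9, 8, 10]),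
  (104, [5, 8, 1, 0, 3, 4, 3, 3, 6, 5, 10, 7, 9, 10, 10]), (105, [7, 1, 1, 4, 9, 7, 5, 9, 9, 7, 10, 10]), (106, [0,
  3, 0, 6, 10, 4, 8, 5, 5, 10, 7, 9, 10]), (109, [6, 0, 1, 3, 7, 5, 3, 9, 8, 7, 5, 5, 8, 10, 7, 10]), (110, [7, 2,
  5, 3, 6, 4, 5, 6, 5, 10, 7, 9]), (112, [1, 4, 1, 7, 4, 3, 5, 9, 5, 5, 8, 10, 7, 10]), (113, [0, 2, 4, 8, 3, 10, 5,
  6, 5, 7, 10, 7]), (115, [7, 2, 4, 7, 5, 3, 7, 6, 5, 5, 7, 9, 7, 10, 10]), (117, [5, 7, 1, 8, 6, 4, 8, 9, 6, 5, 7,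
  9, 10]), (118, [5, 3, 0, 5, 3, 4, 7, 10, 6, 5, 7, 9]), (120, [9, 2, 7, 10, 4, 3, 10, 7, 5, 8, 9, 7]), (121, [5, 1,
  1, 1, 5, 4, 5, 3, 9, 7, 5, 5, 8, 9, 8]), (124, [10, 1, 0, 3, 7, 4, 8, 7, 5, 5, 7])]

/-- the class `5B` -/
def fB : List (ℕ × List ℕ) := [(7, [2, 1, 10, 6, 4, 9, 6, 5, 5, 10, 7, 10]), (8, [10, 1, 0, 4, 10, 4, 3, 9, 9, 5, 5, 9, 7, 9, 10, 10]), (11, [4,
  3, 0, 3, 3, 4, 5, 10, 6, 5, 10, 9, 8, 7]), (14, [5, 2, 3, 4, 3, 3, 9, 8, 7, 5, 5, 9, 9, 8, 7, 10, 10]), (16, [2,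
  1, 4, 4, 8, 6, 5, 5, 9, 9, 8]), (19, [3, 2, 9, 3, 4, 6, 10, 10, 5, 10, 7, 9, 7]), (22, [7, 1, 0, 3, 8, 3, 3, 7, 5,
  5, 10, 7, 9, 7]), (23, [9, 0, 1, 0, 8, 6, 3, 3, 6, 5, 5, 7, 9, 8, 10, 10]), (32, [8, 0, 2, 7, 10, 4, 3, 10, 7,
  9]), (33, [2, 2, 6, 3, 4, 5, 9, 8]), (36, [5, 6, 1, 0, 9, 3, 3, 9, 9, 5, 5, 9, 8, 7, 10]), (39, [8, 1, 0, 8, 5, 3,
  3, 10, 9, 6, 5, 7, 10, 7, 10, 10]), (41, [6, 1, 3, 7, 4, 10, 7, 5, 5, 8, 7, 9, 8, 10]), (44, [0, 4, 1, 4, 3, 4, 9,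
  9, 6, 5, 9, 9, 8, 7, 10, 10]), (47, [1, 1, 3, 6, 4, 7, 10, 6, 5, 10, 7]), (48, [9, 0, 1, 0, 4, 7, 5, 3, 9, 6, 5,
  8, 9, 7]), (57, [2, 3, 1, 7, 5, 3, 10, 6, 5, 8, 7]), (58, [0, 3, 3, 4, 10, 10]), (61, [3, 1, 0, 6, 10, 5, 10, 7,
  9, 8]), (64, [5, 3, 0, 6, 10, 4, 10, 9, 6, 5, 5, 9, 10, 8]), (66, [3, 4, 0, 3, 8, 3, 9, 6, 8, 7]), (69, [6, 2, 5,
  4, 3, 3, 5, 10, 10, 5, 10, 9, 7, 10]), (72, [3, 2, 1, 9, 4, 3, 8, 5, 5, 5, 9, 9, 7, 10, 10]), (73, [0, 3, 0, 7, 4,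
  6, 10, 6, 5, 10, 7]), (82, [6, 1, 10, 6, 4, 6, 5, 5, 9, 9, 7]), (83, [2, 3, 1, 8, 3, 8, 3, 10, 9, 6, 5, 7, 10,
  7]), (86, [8, 3, 0, 9, 3, 3, 10, 5, 6, 5, 7, 9]), (89, [2, 4, 1, 3, 4, 3, 3, 10, 7, 5, 10, 10]), (91, [2, 3, 1, 0,
  4, 3, 4, 5, 10, 10, 5, 10, 9, 8]), (94, [0, 10, 1, 4, 9, 8, 5, 5, 9]), (97, [1, 5, 1, 3, 8, 3, 8, 9, 6, 5, 10, 7,
  9, 8, 10]), (98, [3, 2, 1, 9, 5, 3, 3, 7, 6, 5, 5, 9, 8]), (107, [7, 4, 0, 5, 8, 3, 3, 5, 7, 5, 5, 10, 9, 8]),
  (108, [3, 4, 1, 10, 4, 3, 5, 10, 6, 8, 9]), (111, [7, 1, 2, 8, 4, 6, 5, 10, 9, 8]), (114, [2, 2, 4, 7, 5, 3, 5, 5,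
  5, 9, 9, 7, 10, 10]), (116, [10, 4, 1, 0, 9, 7, 5, 3, 6, 10, 9, 10]), (119, [6, 1, 0, 4, 8, 3, 8, 9, 6, 5, 5, 10,
  9, 8, 10, 10]), (122, [6, 0, 1, 5, 3, 4, 10, 9, 6, 5, 7, 9, 8, 10]), (123, [4, 2, 3, 4, 3, 6, 10, 6, 5, 10, 7, 9,
  7])]

theorem fA_ok : fA.all (fu N gt e5 (L 2)) = true := by
  delta fu wc e5 Mdl.pw
  rewrite [N_mul]
  decide +kernel

theorem fC_ok : fC.all (fu N gt e5 (L 0)) = true := by
  delta fu wc e5 Mdl.pw
  rewrite [N_mul]
  decide +kernel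

theorem fB_ok : fB.all (fu N gt e5 (L 3)) = true := by
  delta fu wc e5 Mdl.pw
  rewrite [N_mul]
  decide +kernel

theorem cov : ∀ i j k : Fin 5, ((i : ℕ) = 0 ∧ (j : ℕ) = 0 ∧ (k : ℕ) = 0) ∨ ∃ n : ℕ, n % 5 = i ∧ n / 5 % 5 = j ∧ n / 25 = k ∧
    (n ∈ fA.map Prod.fst ∨ n ∈ fC.map Prod.fst ∨ n ∈ fB.map Prod.fst) := fun i j k =>
  ((by decide +kernel : ∀ n < 125, n = 0 ∨ n ∈ fA.map Prod.fst ∨ n ∈ fC.map Prod.fst ∨ n ∈ fB.map Prod.fst)
    (i + 5 * j + 25 * k) (by omega)).imp (fun _ => by omega) fun h => ⟨i + 5 * j + 25 * k, by omega, by omega, by omega, h⟩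

theorem card_out : Nat.card (Out Q) = 2 := nonempty_Q.1.elim fun e => (H55.OutGen.card_out_congr e).trans S2072.result

theorem row5 : haveI : Fact (Nat.Prime 5) := ⟨Nat.prime_five⟩
    Row 5 Q := by
  have : Fact (Nat.Prime 5) := ⟨Nat.prime_five⟩
  obtain ⟨v, h⟩ := ex
  have ha := h 0 (by decide)
  have hb := h 1 (by decide)
  have hz := h 2 (by decide)
  have hc := h 4 (by decide)
  have hd := h 5 (by decide)
  have H : Heis.Rel 5 (v 0) (v 1) (v 2) := ⟨N.eq_of (Mdl.R_pw ha 5) N.R_one (by decide +kernel),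
    N.eq_of (Mdl.R_pw hb 5) N.R_one (by decide +kernel), N.eq_of (Mdl.R_pw hz 5) N.R_one (by decide +kernel),
    N.eq_of (N.R_mul ha hz) (N.R_mul hz ha) (by decide +kernel),
    N.eq_of (N.R_mul hb hz) (N.R_mul hz hb) (by decide +kernel),
    N.eq_of (N.R_mul hb ha) (N.R_mul (N.R_mul ha hb) hz) (by decide +kernel), N.ne_of hz N.R_one (by decide +kernel)⟩
  have h3 : ∀ x : Q, x ≠ 1 → x ^ 3 = 1 → Li 5 x 6 := li_rank_two_all (zc 5) Nat.prime_three (by decide) (by decide)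
    (N.eq_of (N.R_mul hd hc) (N.R_mul hc hd) (by decide +kernel)) (N.eq_of (Mdl.R_pw hc 3) N.R_one (by decide +kernel))
    (N.eq_of (Mdl.R_pw hd 3) N.R_one (by decide +kernel)) (N.ne_of hc N.R_one (by decide +kernel))
    (fun i hi => N.ne_of (Mdl.R_pw hc i) hd
      (allB_spec (by decide +kernel : allB 3 (fun i => N.neq (N.pw (L 4) i) (L 5)) = true) hi))
    (by rw [card_Q]; decide) [(0, 2, 1, 0), (1, 1, 1, 2)] (by
      simp only [List.forall_mem_cons]
      have h6 := h 6 (by decide)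
      have h7 := h 7 (by decide)
      exact ⟨⟨_, N.eq_of (N.R_mul hc h6) (N.R_mul h6 (N.R_mul (Mdl.R_pw hc 0) (Mdl.R_pw hd 2))) (by decide +kernel),
        N.eq_of (N.R_mul hd h6) (N.R_mul h6 (N.R_mul (Mdl.R_pw hc 1) (Mdl.R_pw hd 0))) (by decide +kernel)⟩,
        ⟨_, N.eq_of (N.R_mul hc h7) (N.R_mul h7 (N.R_mul (Mdl.R_pw hc 1) (Mdl.R_pw hd 1))) (by decide +kernel),
        N.eq_of (N.R_mul hd h7) (N.R_mul h7 (N.R_mul (Mdl.R_pw hc 1) (Mdl.R_pw hd 2))) (by decide +kernel)⟩,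
        fun _ h => (nomatch h)⟩) (N := 3) (by decide +kernel)
  have lA : Li 5 (v 2) 4 := four (h 2 (by decide)) (h 8 (by decide)) (h 9 (by decide)) (h 10 (by decide)) h3
      [1, 1, 0, 0] 5 [1, 0, 0, 0, 1, 1, 1, 0, 1, 0, 0, 0] (by decide +kernel)
  have lC : Li 5 (v 0) 4 := four (h 0 (by decide)) (h 11 (by decide)) (h 12 (by decide)) (h 13 (by decide)) h3
      [1, 1, 0] 4 [0, 0, 0, 1, 0, 0, 1, 1, 0, 0, 0] (by decide +kernel)
  have lB : Li 5 (v 3) 4 := four (h 3 (by decide)) (h 14 (by decide)) (h 15 (by decide)) (h 16 (by decide)) h3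
      [1, 0, 1, 1, 0, 0] 5 [1, 0, 0, 1, 0, 0, 1, 0, 1, 1, 1] (by decide +kernel)
  have hv : ∀ n, N.R (e5 n) (v 0 ^ (n % 5) * v 1 ^ (n / 5 % 5) * v 2 ^ (n / 25)) := fun n =>
    N.R_mul (N.R_mul (Mdl.R_pw ha _) (Mdl.R_pw hb _)) (Mdl.R_pw hz _)
  refine row_rank_two (by rw [card_out]; decide)
    (fun E hE j h4 hj => (SpD.heis_mem H (by rw [card_Q]; decide) hE h4 hj).1) fun t h1 h2 =>
    li_of_sylow (Heis.isPGroup H) (fun ⟨c, hc⟩ => ?_) (fun y hy h4 _ => ?_) h1 h2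
  · have h4 := (Heis.gp H).card_mul_index
    rw [Heis.card H, hc, card_Q] at h4
    omega
  obtain ⟨⟨i, j, k⟩, h5⟩ := Heis.par_surjective H ⟨y, hy⟩
  obtain rfl : v 0 ^ (i : ℕ) * v 1 ^ (j : ℕ) * v 2 ^ (k : ℕ) = y := congrArg Subtype.val h5
  rcases cov i j k with ⟨e1, e2, e3⟩ | ⟨n, e1, e2, e3, e⟩
  · exact absurd (by rw [e1, e2, e3]; simp) h4
  rw [← e1, ← e2, ← e3]
  rcases e with e | e | e
  · obtain ⟨g, -, e⟩ := fu_spec hg' hv hz fA_ok n e
    exact lA.of_isConj (isConj_iff.2 ⟨g, e⟩).symm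
  · obtain ⟨g, -, e⟩ := fu_spec hg' hv ha fC_ok n e
    exact lC.of_isConj (isConj_iff.2 ⟨g, e⟩).symm
  · obtain ⟨g, -, e⟩ := fu_spec hg' hv (h 3 (by decide)) fB_ok n e
    exact lB.of_isConj (isConj_iff.2 ⟨g, e⟩).symm

end HS

/-- **the row of `HS`** -/
theorem row_hs (p : ℕ) [hp : Fact p.Prime] : Row p Spor.HS := by
  obtain ⟨e⟩ := nonempty_Q.1
  refine Row.of_equiv ?_ e.symm
  by_cases h2 : p = 2
  · subst h2
    exact HS.row2
  have ho : ¬ p ∣ Nat.card (Out Q) := fun h =>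
    h2 ((Nat.prime_dvd_prime_iff_eq hp.out Nat.prime_two).1 (HS.card_out ▸ h))
  by_cases h3 : p = 3
  · subst h3
    exact row_of_not_dvd ho (by rw [card_Q, small_three]; decide)
  by_cases h5 : p = 5
  · subst h5
    exact HS.row5
  have h4 : ∀ {q : ℕ}, q.Prime → p ≠ q → ∀ n, p.Coprime (q ^ n) := fun hq h n =>
    ((Nat.coprime_primes hp.out hq).2 h).pow_right n
  refine row_of_not_sq ho ?_
  rw [card_Q, show 44352000 = 2 ^ 9 * 3 ^ 2 * 5 ^ 3 * 77 by norm_num]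
  exact not_sq_dvd hp.out (((h4 Nat.prime_two h2 9).mul_right (h4 Nat.prime_three h3 2)).mul_right
    (h4 Nat.prime_five h5 3)) (by decide +kernel)

end Cfsg.Agent.TwoF.SpC
end
end
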